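import Mathlib.GroupTheory.OrderOfElement
import Mathlib.Data.ZMod.Basic
import Mathlib.Tactic.Group
import Mathlib.Tactic.Ring
import Mathlib.GroupTheory.Index
import Mathlib.GroupTheory.GroupAction.Basic

/-!
# A four group acting on a group of odd order

For two commuting automorphisms of order at most two of a group of odd order, the group order times
the square of the number of common fixed elements is the product of the three numbers of fixed
elements; the same holds for the fixed points on a set permuted transitively and compatibly.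
-/

set_option autoImplicit false

namespace CfsgLib.SECrit.Small

section Klein

variable {U : Type*} [Group U] [Finite U]

/-- Elements inverted by `u`. -/
abbrev Inverted (u : U → U) : Type _ := {t : U // u t = t⁻¹}

/-- Elements fixed by `u`. -/
abbrev Fixed {α : Type*} (u : α → α) : Type _ := {t : α // u t = t}

omit [Finite U] in
theorem sq_injective (hodd : Odd (Nat.card U)) : Function.Injective fun t : U => t ^ 2 :=
  (powCoprime (G := U) (Nat.coprime_two_right.2 hodd)).injective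

omit [Finite U] in
theorem exists_sq_eq (hodd : Odd (Nat.card U)) (w : U) : ∃ r : U, r ^ 2 = w :=
  (powCoprime (G := U) (Nat.coprime_two_right.2 hodd)).surjective w

omit [Finite U] in
/-- The equation `P w P = i` has exactly one solution. -/
theorem mul_mul_unique (hodd : Odd (Nat.card U)) (w i : U) :
    ∃! P : U, P * w * P = i := by
  obtain ⟨r, hr⟩ := exists_sq_eq hodd w
  obtain ⟨t, ht⟩ := exists_sq_eq hodd (r * i * r)
  refine ⟨r⁻¹ * t * r⁻¹, ?_, fun P hP => ?_⟩
  · show r⁻¹ * t * r⁻¹ * w * (r⁻¹ * t * r⁻¹) = i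
    rw [← hr, show r⁻¹ * t * r⁻¹ * r ^ 2 * (r⁻¹ * t * r⁻¹) = r⁻¹ * t ^ 2 * r⁻¹ by
      rw [pow_two, pow_two]; group, ht]
    group
  · have h1 : (r * P * r) ^ 2 = t ^ 2 := by
      rw [ht, ← hP, ← hr, pow_two, pow_two]; group
    rw [← sq_injective hodd h1]; group

omit [Finite U] in
/-- Every element is uniquely a fixed element times an inverted one. -/
theorem card_eq_fixed_mul_inverted (hodd : Odd (Nat.card U)) (u : U ≃* U) (hu : ∀ t, u (u t) = t) :
    Nat.card U = Nat.card (Fixed u) * Nat.card (Inverted u) := by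
  rw [← Nat.card_prod]
  refine (Nat.card_eq_of_bijective (fun p : Fixed u × Inverted u => p.1.1 * p.2.1)
    ⟨?_, fun x => ?_⟩).symm
  · rintro ⟨⟨c, hc⟩, ⟨i, hi⟩⟩ ⟨⟨c', hc'⟩, ⟨i', hi'⟩⟩ (h : c * i = c' * i')
    have e1 : c'⁻¹ * c = i' * i⁻¹ := by
      rw [eq_mul_inv_iff_mul_eq, mul_assoc, h, inv_mul_cancel_left]
    have e2 : i'⁻¹ * i = i' * i⁻¹ := by
      have := congrArg u e1
      rw [map_mul, map_mul, map_inv, map_inv, hc, hc', hi, hi', inv_inv, e1] at this
      exact this.symm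
    have e3 : i ^ 2 = i' ^ 2 := by
      have := congrArg (fun t => i' * t * i) e2
      simpa [pow_two, mul_assoc] using this
    obtain rfl := sq_injective hodd e3
    obtain rfl := mul_right_cancel h
    rfl
  · obtain ⟨i, hi⟩ := exists_sq_eq hodd ((u x)⁻¹ * x)
    have hui : u i = i⁻¹ := sq_injective hodd (by
      show u i ^ 2 = i⁻¹ ^ 2
      rw [← map_pow, inv_pow, hi, map_mul, map_inv, hu, mul_inv_rev, inv_inv])
    refine ⟨(⟨x * i⁻¹, ?_⟩, ⟨i, hui⟩), by simp⟩
    rw [map_mul, map_inv, hui, inv_inv, eq_mul_inv_iff_mul_eq, mul_assoc, ← pow_two, hi,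
      mul_inv_cancel_left]

omit [Finite U] in
/-- The elements inverted by `u` factor into the ones fixed and inverted by `v`. -/
theorem card_inverted_eq (hodd : Odd (Nat.card U)) (u v : U ≃* U) (hu : ∀ t, u (u t) = t)
    (hv : ∀ t, v (v t) = t) (huv : ∀ t, u (v t) = v (u t)) :
    Nat.card (Inverted u) =
      Nat.card {t : U // v t = t ∧ u t = t⁻¹} * Nat.card {t : U // u t = t⁻¹ ∧ v t = t⁻¹} := by
  rw [← Nat.card_prod]
  have key : ∀ j c : U, v j = j⁻¹ → v c = c →
      j ^ 2 * v (j * c * j) * j ^ 2 = j * c * j := fun j c hj hc => by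
    rw [map_mul, map_mul, hj, hc, pow_two]; group
  refine (Nat.card_eq_of_bijective (fun p : {t : U // v t = t ∧ u t = t⁻¹} ×
    {t : U // u t = t⁻¹ ∧ v t = t⁻¹} => (⟨p.2.1 * p.1.1 * p.2.1, by
      rw [map_mul, map_mul, p.1.2.2, p.2.2.1]; group⟩ : Inverted u)) ⟨?_, fun i => ?_⟩).symm
  · rintro ⟨⟨c, hc⟩, ⟨j, hj⟩⟩ ⟨⟨c', hc'⟩, ⟨j', hj'⟩⟩ h
    have h' : j * c * j = j' * c' * j' := congrArg Subtype.val h
    obtain ⟨P, -, hP⟩ := mul_mul_unique hodd (v (j * c * j)) (j * c * j)
    have h1 := hP _ (key j c hj.2 hc.1)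
    have h2 := hP (j' ^ 2) (by
      show j' ^ 2 * v (j * c * j) * j' ^ 2 = j * c * j
      rw [h']; exact key j' c' hj'.2 hc'.1)
    obtain rfl := sq_injective hodd (h1.trans h2.symm)
    obtain rfl := mul_left_cancel (mul_right_cancel h')
    rfl
  · obtain ⟨i, hi⟩ := i
    obtain ⟨P, hP, huniq⟩ := mul_mul_unique hodd (v i) i
    have hvP : v P = P⁻¹ := by
      have h1 : v P * i * v P = v i := by
        conv_rhs => rw [← hP]
        rw [map_mul, map_mul, hv]
      have h2 := huniq (v P)⁻¹ (by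
        show (v P)⁻¹ * v i * (v P)⁻¹ = i
        rw [← h1]; group)
      exact inv_eq_iff_eq_inv.1 h2
    have huP : u P = P⁻¹ := by
      have h1 : u P * (v i)⁻¹ * u P = i⁻¹ := by
        have h0 := congrArg u hP
        rwa [map_mul, map_mul, huv, hi, map_inv] at h0
      have h2 := huniq (u P)⁻¹ (by
        show (u P)⁻¹ * v i * (u P)⁻¹ = i
        have := congrArg (·⁻¹) h1
        simpa [mul_assoc] using this)
      exact inv_eq_iff_eq_inv.1 h2
    obtain ⟨j, hj⟩ := exists_sq_eq hodd P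
    have huj : u j = j⁻¹ := sq_injective hodd (by
      show u j ^ 2 = j⁻¹ ^ 2
      rw [← map_pow, inv_pow, hj, huP])
    have hvj : v j = j⁻¹ := sq_injective hodd (by
      show v j ^ 2 = j⁻¹ ^ 2
      rw [← map_pow, inv_pow, hj, hvP])
    refine ⟨(⟨j⁻¹ * i * j⁻¹, ?_, ?_⟩, ⟨j, huj, hvj⟩), Subtype.ext (by simp [mul_assoc])⟩
    · rw [map_mul, map_mul, map_inv, hvj, inv_inv]
      conv_rhs => rw [← hP, ← hj, pow_two]
      group
    · rw [map_mul, map_mul, map_inv, huj, hi]; group

omit [Finite U] in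
/-- **The fixed point formula for a four group.** -/
theorem klein_card (hodd : Odd (Nat.card U)) (u v : U ≃* U) (hu : ∀ t, u (u t) = t)
    (hv : ∀ t, v (v t) = t) (huv : ∀ t, u (v t) = v (u t)) :
    Nat.card U * Nat.card {t : U // u t = t ∧ v t = t} ^ 2 =
      Nat.card (Fixed u) * Nat.card (Fixed v) * Nat.card {t : U // u (v t) = t} := by
  rw [card_eq_fixed_mul_inverted hodd u hu, card_inverted_eq hodd u v hu hv huv]
  -- `u` on the fixed elements of `v` and of `u v`
  let Cv : Subgroup U := MonoidHom.eqLocus v.toMonoidHom (MonoidHom.id U)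
  let Cw : Subgroup U := MonoidHom.eqLocus (u.toMonoidHom.comp v.toMonoidHom) (MonoidHom.id U)
  have hmv : ∀ t : U, t ∈ Cv → u t ∈ Cv := fun t (ht : v t = t) => show v (u t) = u t by
    rw [← huv, ht]
  have hmw : ∀ t : U, t ∈ Cw → u t ∈ Cw := fun t (ht : u (v t) = t) => show u (v (u t)) = u t by
    rw [← huv, ht]
  let uv' : Cv ≃* Cv :=
    { toFun := fun t => ⟨u t, hmv t t.2⟩
      invFun := fun t => ⟨u t, hmv t t.2⟩
      left_inv := fun t => Subtype.ext (hu t)
      right_inv := fun t => Subtype.ext (hu t)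
      map_mul' := fun a b => Subtype.ext (map_mul u _ _) }
  let uw' : Cw ≃* Cw :=
    { toFun := fun t => ⟨u t, hmw t t.2⟩
      invFun := fun t => ⟨u t, hmw t t.2⟩
      left_inv := fun t => Subtype.ext (hu t)
      right_inv := fun t => Subtype.ext (hu t)
      map_mul' := fun a b => Subtype.ext (map_mul u _ _) }
  have h1 := card_eq_fixed_mul_inverted (hodd.of_dvd_nat (Subgroup.card_subgroup_dvd_card Cv)) uv'
    fun t => Subtype.ext (hu t)
  have h2 := card_eq_fixed_mul_inverted (hodd.of_dvd_nat (Subgroup.card_subgroup_dvd_card Cw)) uw'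
    fun t => Subtype.ext (hu t)
  have e1 : Nat.card (Fixed uv') = Nat.card {t : U // u t = t ∧ v t = t} :=
    Nat.card_congr ⟨fun t => ⟨t.1.1, congrArg Subtype.val t.2, t.1.2⟩,
      fun t => ⟨⟨t.1, t.2.2⟩, Subtype.ext t.2.1⟩, fun _ => rfl, fun _ => rfl⟩
  have e2 : Nat.card (Inverted uv') = Nat.card {t : U // v t = t ∧ u t = t⁻¹} :=
    Nat.card_congr ⟨fun t => ⟨t.1.1, t.1.2, congrArg Subtype.val t.2⟩,
      fun t => ⟨⟨t.1, t.2.1⟩, Subtype.ext t.2.2⟩, fun _ => rfl, fun _ => rfl⟩
  have e3 : Nat.card (Fixed uw') = Nat.card {t : U // u t = t ∧ v t = t} :=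
    Nat.card_congr ⟨fun t => ⟨t.1.1, congrArg Subtype.val t.2, by
        have h : u t.1.1 = t.1.1 := congrArg Subtype.val t.2
        exact u.injective (t.1.2.trans h.symm)⟩,
      fun t => ⟨⟨t.1, show u (v t.1) = t.1 by rw [t.2.2, t.2.1]⟩, Subtype.ext t.2.1⟩,
      fun _ => rfl, fun _ => rfl⟩
  have e4 : Nat.card (Inverted uw') = Nat.card {t : U // u t = t⁻¹ ∧ v t = t⁻¹} :=
    Nat.card_congr ⟨fun t => ⟨t.1.1, congrArg Subtype.val t.2, by
        have h : u t.1.1 = t.1.1⁻¹ := congrArg Subtype.val t.2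
        have h' : u (v t.1.1) = t.1.1 := t.1.2
        rw [← hu (v t.1.1), h', h]⟩,
      fun t => ⟨⟨t.1, show u (v t.1) = t.1 by rw [t.2.2, map_inv, t.2.1, inv_inv]⟩,
        Subtype.ext t.2.1⟩, fun _ => rfl, fun _ => rfl⟩
  rw [show Nat.card (Fixed v) = Nat.card Cv from rfl,
    show Nat.card {t : U // u (v t) = t} = Nat.card Cw from rfl, h1, h2, e1, e2, e3, e4]
  ring

end Klein

section Sets

variable {U J : Type*} [Group U] [Finite U] [MulAction U J] [Finite J]

/-- An involution of an odd set has a fixed point. -/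
theorem exists_fixed_of_odd {α : Type*} [Finite α] (hodd : Odd (Nat.card α)) (f : α → α)
    (hf : ∀ a, f (f a) = a) : ∃ a, f a = a := by
  by_contra h
  push Not at h
  classical
  letI := Fintype.ofFinite α
  have h0 : (Fintype.card α : ZMod 2) = 0 := by
    have := Finset.sum_involution (s := (Finset.univ : Finset α)) (f := fun _ => (1 : ZMod 2))
      (fun a _ => f a) (fun _ _ => by decide) (fun a _ _ => h a) (fun _ _ => Finset.mem_univ _)
      (fun a _ => hf a)
    simpa using this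
  rw [ZMod.natCast_eq_zero_iff, ← even_iff_two_dvd] at h0
  rw [Nat.card_eq_fintype_card] at hodd
  exact Nat.not_even_iff_odd.2 hodd h0

/-- Compatible involutions: the fixed elements are transitive on the fixed points. -/
theorem exists_fixed_smul (hodd : Odd (Nat.card U)) (htr : ∀ j k : J, ∃ t : U, t • j = k)
    (u : U ≃* U) (hu : ∀ t, u (u t) = t) (σ : J → J) (hσ : ∀ t j, σ (t • j) = u t • σ j) {j k : J}
    (hj : σ j = j) (hk : σ k = k) : ∃ t : U, u t = t ∧ t • j = k := by
  obtain ⟨t₀, ht₀⟩ := htr j k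
  let T := {t : U // t • j = k}
  have hT : Nat.card T = Nat.card (MulAction.stabilizer U j) :=
    Nat.card_congr ⟨fun t => ⟨t₀⁻¹ * t.1, by
        rw [MulAction.mem_stabilizer_iff, mul_smul, t.2, ← ht₀, inv_smul_smul]⟩,
      fun s => ⟨t₀ * s.1, by rw [mul_smul, MulAction.mem_stabilizer_iff.1 s.2, ht₀]⟩,
      fun t => Subtype.ext (by simp), fun s => Subtype.ext (by simp)⟩
  have hodT : Odd (Nat.card T) := hT ▸ hodd.of_dvd_nat (Subgroup.card_subgroup_dvd_card _)
  obtain ⟨t, ht⟩ := exists_fixed_of_odd hodT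
    (fun t : T => (⟨u t.1, by
      have := hσ t.1 j
      rw [t.2, hj, hk] at this
      exact this.symm⟩ : T)) fun t => Subtype.ext (hu t.1)
  exact ⟨t.1, congrArg Subtype.val ht, t.2⟩

/-- Fixed elements, fixed points and fixed elements of a stabilizer. -/
theorem card_fixed_eq (hodd : Odd (Nat.card U)) (htr : ∀ j k : J, ∃ t : U, t • j = k)
    (u : U ≃* U) (hu : ∀ t, u (u t) = t) (σ : J → J) (hσ : ∀ t j, σ (t • j) = u t • σ j) {j : J}
    (hj : σ j = j) :
    Nat.card (Fixed u) = Nat.card (Fixed σ) * Nat.card {t : U // u t = t ∧ t • j = j} := by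
  choose g hg using fun k : Fixed σ => exists_fixed_smul hodd htr u hu σ hσ hj k.2
  rw [← Nat.card_prod]
  refine (Nat.card_eq_of_bijective (fun p : Fixed σ × {t : U // u t = t ∧ t • j = j} =>
    (⟨g p.1 * p.2.1, by rw [map_mul, (hg p.1).1, p.2.2.1]⟩ : Fixed u)) ⟨?_, fun t => ?_⟩).symm
  · rintro ⟨k, s⟩ ⟨k', s'⟩ h
    have h' : g k * s.1 = g k' * s'.1 := congrArg Subtype.val h
    obtain rfl : k = k' := Subtype.ext (by
      have := congrArg (· • j) h'
      simpa [mul_smul, s.2.2, s'.2.2, (hg k).2, (hg k').2] using this)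
    obtain rfl : s = s' := Subtype.ext (mul_left_cancel h')
    rfl
  · let k : Fixed σ := ⟨t.1 • j, by rw [hσ, t.2, hj]⟩
    refine ⟨(k, ⟨(g k)⁻¹ * t.1, ?_, ?_⟩), Subtype.ext (mul_inv_cancel_left _ _)⟩
    · rw [map_mul, map_inv, (hg k).1, t.2]
    · rw [mul_smul, inv_smul_eq_iff, (hg k).2]

/-- **The fixed point formula for a four group on a transitive set.** -/
theorem klein_card_set (hodd : Odd (Nat.card U)) (htr : ∀ j k : J, ∃ t : U, t • j = k)
    (u v : U ≃* U) (hu : ∀ t, u (u t) = t) (hv : ∀ t, v (v t) = t)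
    (huv : ∀ t, u (v t) = v (u t)) (σ τ : J → J) (hσ : ∀ t j, σ (t • j) = u t • σ j)
    (hτ : ∀ t j, τ (t • j) = v t • τ j) (hστ : ∀ j, σ (τ j) = τ (σ j)) {j : J}
    (hσj : σ j = j) (hτj : τ j = j) :
    Nat.card J * Nat.card {k : J // σ k = k ∧ τ k = k} ^ 2 =
      Nat.card (Fixed σ) * Nat.card (Fixed τ) * Nat.card {k : J // σ (τ k) = k} := by
  -- the stabilizer
  let H : Subgroup U := MulAction.stabilizer U j
  have hmu : ∀ t : U, t • j = j → u t • j = j := fun t ht => by
    have := hσ t j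
    rw [ht, hσj] at this
    exact this.symm
  have hmv : ∀ t : U, t • j = j → v t • j = j := fun t ht => by
    have := hτ t j
    rw [ht, hτj] at this
    exact this.symm
  let uH : H ≃* H :=
    { toFun := fun t => ⟨u t, hmu t t.2⟩
      invFun := fun t => ⟨u t, hmu t t.2⟩
      left_inv := fun t => Subtype.ext (hu t)
      right_inv := fun t => Subtype.ext (hu t)
      map_mul' := fun a b => Subtype.ext (map_mul u _ _) }
  let vH : H ≃* H :=
    { toFun := fun t => ⟨v t, hmv t t.2⟩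
      invFun := fun t => ⟨v t, hmv t t.2⟩
      left_inv := fun t => Subtype.ext (hv t)
      right_inv := fun t => Subtype.ext (hv t)
      map_mul' := fun a b => Subtype.ext (map_mul v _ _) }
  have hH := klein_card (hodd.of_dvd_nat (Subgroup.card_subgroup_dvd_card H)) uH vH
    (fun t => Subtype.ext (hu t)) (fun t => Subtype.ext (hv t)) (fun t => Subtype.ext (huv t))
  have hU := klein_card hodd u v hu hv huv
  -- fixed elements against fixed points
  let uv : U ≃* U := v.trans u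
  have huv2 : ∀ t, uv (uv t) = t := fun t => by
    show u (v (u (v t))) = t
    rw [← huv, hu, hv]
  have c1 := card_fixed_eq hodd htr u hu σ hσ hσj
  have c2 := card_fixed_eq hodd htr v hv τ hτ hτj
  have c3 := card_fixed_eq hodd htr uv huv2 (fun k => σ (τ k))
    (fun t k => by rw [hτ, hσ]; rfl) (show σ (τ j) = j by rw [hτj, hσj])
  -- the common fixed elements
  let C : Subgroup U := MonoidHom.eqLocus u.toMonoidHom (MonoidHom.id U)
  let K := {k : J // σ k = k}
  letI : MulAction C K :=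
    { smul := fun t k => ⟨(t : U) • k.1, by rw [hσ, k.2, show u t.1 = t.1 from t.2]⟩
      one_smul := fun k => Subtype.ext (one_smul U k.1)
      mul_smul := fun a b k => Subtype.ext (mul_smul (a : U) (b : U) k.1) }
  have hmC : ∀ t : U, t ∈ C → v t ∈ C := fun t (ht : u t = t) => show u (v t) = v t by rw [huv, ht]
  let vC : C ≃* C :=
    { toFun := fun t => ⟨v t, hmC t t.2⟩
      invFun := fun t => ⟨v t, hmC t t.2⟩
      left_inv := fun t => Subtype.ext (hv t)
      right_inv := fun t => Subtype.ext (hv t)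
      map_mul' := fun a b => Subtype.ext (map_mul v _ _) }
  have c4 := card_fixed_eq (U := C) (J := K) (hodd.of_dvd_nat (Subgroup.card_subgroup_dvd_card C))
    (fun a b => by
      obtain ⟨t, ht, htj⟩ := exists_fixed_smul hodd htr u hu σ hσ a.2 b.2
      exact ⟨⟨t, ht⟩, Subtype.ext htj⟩)
    vC (fun t => Subtype.ext (hv t))
    (fun k => (⟨τ k.1, by rw [hστ, k.2]⟩ : K)) (fun t k => Subtype.ext (hτ t k.1))
    (j := ⟨j, hσj⟩) (Subtype.ext hτj)
  have e0 : Nat.card U = Nat.card J * Nat.card H := by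
    haveI : MulAction.IsPretransitive U J := ⟨htr⟩
    rw [← MulAction.index_stabilizer_of_transitive U j, Subgroup.index_mul_card]
  have e1 : Nat.card (Fixed vC) = Nat.card {t : U // u t = t ∧ v t = t} :=
    Nat.card_congr ⟨fun t => ⟨t.1.1, t.1.2, congrArg Subtype.val t.2⟩,
      fun t => ⟨⟨t.1, t.2.1⟩, Subtype.ext t.2.2⟩, fun _ => rfl, fun _ => rfl⟩
  have e2 : Nat.card (Fixed fun k : K => (⟨τ k.1, by rw [hστ, k.2]⟩ : K)) =
      Nat.card {k : J // σ k = k ∧ τ k = k} :=
    Nat.card_congr ⟨fun t => ⟨t.1.1, t.1.2, congrArg Subtype.val t.2⟩,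
      fun t => ⟨⟨t.1, t.2.1⟩, Subtype.ext t.2.2⟩, fun _ => rfl, fun _ => rfl⟩
  have e3 : Nat.card {t : C // vC t = t ∧ t • (⟨j, hσj⟩ : K) = ⟨j, hσj⟩} =
      Nat.card {t : H // uH t = t ∧ vH t = t} :=
    Nat.card_congr ⟨fun t => ⟨⟨t.1.1, congrArg Subtype.val t.2.2⟩, Subtype.ext t.1.2,
        Subtype.ext (show v t.1.1 = t.1.1 from congrArg Subtype.val t.2.1)⟩,
      fun t => ⟨⟨t.1.1, show u t.1.1 = t.1.1 from congrArg Subtype.val t.2.1⟩,
        Subtype.ext (show v t.1.1 = t.1.1 from congrArg Subtype.val t.2.2), Subtype.ext t.1.2⟩,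
      fun _ => rfl, fun _ => rfl⟩
  have e4 : ∀ (f : U ≃* U) (fH : H ≃* H), (∀ t : H, (fH t : U) = f t) →
      Nat.card {t : U // f t = t ∧ t • j = j} = Nat.card (Fixed fH) := fun f fH hf =>
    Nat.card_congr ⟨fun t => ⟨⟨t.1, t.2.2⟩, Subtype.ext (by rw [hf]; exact t.2.1)⟩,
      fun t => ⟨t.1.1, by rw [← hf, t.2], t.1.2⟩, fun _ => rfl, fun _ => rfl⟩
  rw [e1, e2, e3] at c4
  rw [e4 u uH fun _ => rfl] at c1
  rw [e4 v vH fun _ => rfl] at c2
  rw [e4 uv (vH.trans uH) fun _ => rfl] at c3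
  rw [e0, c4, c1, c2, show Nat.card {t : U // u (v t) = t} = Nat.card (Fixed uv) from rfl, c3] at hU
  rw [show Nat.card {t : H // uH (vH t) = t} = Nat.card (Fixed (vH.trans uH)) from rfl] at hH
  have hne : Nat.card (Fixed uH) * Nat.card (Fixed vH) * Nat.card (Fixed (vH.trans uH)) ≠ 0 := by
    haveI : Nonempty (Fixed uH) := ⟨⟨1, map_one _⟩⟩
    haveI : Nonempty (Fixed vH) := ⟨⟨1, map_one _⟩⟩
    haveI : Nonempty (Fixed (vH.trans uH)) := ⟨⟨1, map_one _⟩⟩
    simp only [ne_eq, mul_eq_zero, not_or]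
    exact ⟨⟨Nat.card_pos.ne', Nat.card_pos.ne'⟩, Nat.card_pos.ne'⟩
  apply Nat.eq_of_mul_eq_mul_right (Nat.pos_of_ne_zero hne)
  calc Nat.card J * Nat.card {k : J // σ k = k ∧ τ k = k} ^ 2 *
        (Nat.card (Fixed uH) * Nat.card (Fixed vH) * Nat.card (Fixed (vH.trans uH)))
      = Nat.card J * Nat.card H * (Nat.card {k : J // σ k = k ∧ τ k = k} *
          Nat.card {t : H // uH t = t ∧ vH t = t}) ^ 2 := by rw [← hH]; ring
    _ = _ := by rw [hU]; ring

end Sets

end CfsgLib.SECrit.Small
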