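import Cfsg.Agent.Lib.Invol.SECriterion.Centralizer

/-!
# The strong embedding criterion: swaps commuting with a two-group

For a two-group `A` and an element `r` exchanging two points, the midpoint map identifies the
conjugates of `z` at the first point centralizing `A` with the pairs of a swap centralizing `A` and
`r` and a conjugate centralizing their product.
-/

set_option autoImplicit false

namespace CfsgLib.SECrit

open CfsgLib.Invol

variable {G : Type*} [Group G] {M : Subgroup G} {z : G}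

/-- The conjugates of `z` at `a` commuting with every member of `A`. -/
abbrev CAt (z : G) (A : Set G) (a : G ⧸ M) : Type _ :=
  {d : G // IsConj z d ∧ d • a = a ∧ ∀ x ∈ A, Commute x d}

/-- The conjugates of `z` mapping `a` to `b` and commuting with every member of `A`. -/
abbrev CSwap (z : G) (A : Set G) (a b : G ⧸ M) : Type _ :=
  {g : G // IsConj z g ∧ g • a = b ∧ ∀ x ∈ A, Commute x g}

theorem forall_closure_commute {A : Set G} {g : G} (hg : ∀ x ∈ A, Commute x g) :
    ∀ x ∈ Subgroup.closure A, Commute x g := fun x hx =>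
  Subgroup.closure_induction (p := fun y _ => Commute y g) hg (Commute.one_left g)
    (fun _ _ _ _ h1 h2 => h1.mul_left h2) (fun _ _ h1 => h1.inv_left) hx

/-- Transport by an element centralizing `A`. -/
def CAt.equiv {A : Set G} {a b : G ⧸ M} (g : G) (hg : g • a = b) (hA : ∀ x ∈ A, Commute x g) :
    CAt z A a ≃ CAt z A b where
  toFun d := ⟨g * d.1 * g⁻¹, d.2.1.trans (isConj_iff.2 ⟨g, rfl⟩),
    by rw [← hg, smul_smul, inv_mul_cancel_right, mul_smul, d.2.2.1],
    fun x hx => ((hA x hx).mul_right (d.2.2.2 x hx)).mul_right (hA x hx).inv_right⟩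
  invFun d := ⟨g⁻¹ * d.1 * g, d.2.1.trans (isConj_iff.2 ⟨g⁻¹, by rw [inv_inv]⟩),
    by rw [mul_smul, mul_smul, hg, d.2.2.1, ← hg, inv_smul_smul],
    fun x hx => ((hA x hx).inv_right.mul_right (d.2.2.2 x hx)).mul_right (hA x hx)⟩
  left_inv d := Subtype.ext (by simp [mul_assoc])
  right_inv d := Subtype.ext (by simp [mul_assoc])

namespace Crit

variable [Finite G] (h : Crit M z)
include h

/-- The number of members at a fixed point of a two-group centralizing it does not depend on it. -/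
theorem card_CAt_eq {A : Set G} (hA : IsPGroup 2 (Subgroup.closure A)) {a b : G ⧸ M}
    (ha : ∀ x ∈ A, x • a = a) (hb : ∀ x ∈ A, x • b = b) :
    Nat.card (CAt z A a) = Nat.card (CAt z A b) := by
  by_cases hab : a = b
  · rw [hab]
  have hfix : ∀ c : G ⧸ M, (∀ x ∈ A, x • c = c) → ∀ y ∈ Subgroup.closure A, y • c = c :=
    fun c hc y hy => (Subgroup.closure_le (MulAction.stabilizer G c)).2 hc hy
  obtain ⟨g, -, hga, hgA⟩ := h.exists_commuting_swap hA hab (hfix a ha) (hfix b hb)
  exact Nat.card_congr (CAt.equiv g hga fun x hx => hgA x (Subgroup.subset_closure hx))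

/-- Pairs of a swap commuting with `A` and `r` and a member commuting with `A` and their product. -/
theorem card_swap_pairs {A : Set G} {r : G} {a b : G ⧸ M} (hab : a ≠ b) (hra : r • a = b)
    (hrb : r • b = a) (hrA : ∀ d : CAt z A a, ∀ x ∈ A, Commute x (r * d.1 * r⁻¹))
    (hsq : ∀ d : CAt z A a, Commute (r * r) d.1) :
    Nat.card (Σ g : CSwap z (insert r A) a b, CAt z (insert (g.1 * r) A) a) =
      Nat.card (CAt z A a) := by
  refine Nat.card_eq_of_bijective (fun p => (⟨p.2.1, p.2.2.1, p.2.2.2.1,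
    fun x hx => p.2.2.2.2 x (Set.mem_insert_of_mem _ hx)⟩ : CAt z A a)) ⟨?_, fun d => ?_⟩
  · rintro ⟨⟨g, hg⟩, ⟨d, hd⟩⟩ ⟨⟨g', hg'⟩, ⟨d', hd'⟩⟩ hh
    simp only [Subtype.mk.injEq] at hh
    subst hh
    have key : ∀ k : G, IsConj z k → (∀ x ∈ insert r A, Commute x k) →
        (∀ x ∈ insert (k * r) A, Commute x d) → k * d * k⁻¹ = r * d * r⁻¹ := by
      intro k hk hkA hkd
      have h2 := invol_inv (h.orderOf_conj hk)
      have e : k * r * d * (k * r)⁻¹ = d := by
        rw [(hkd _ (Set.mem_insert _ _)).eq, mul_inv_cancel_right]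
      calc k * d * k⁻¹ = k * (k * r * d * (k * r)⁻¹) * k⁻¹ := by rw [e]
        _ = (k * k) * (r * d * r⁻¹) * (k⁻¹ * k⁻¹) := by group
        _ = r * d * r⁻¹ := by
          rw [invol_mul_self (h.orderOf_conj hk), h2, invol_mul_self (h.orderOf_conj hk), one_mul,
            mul_one]
    obtain rfl : g = g' := h.midpoint_unique hd.1 hg.1 hg'.1 hd.2.1 (by rw [hg.2.1]; exact hab.symm)
      ((key g hg.1 hg.2.2 hd.2.2).trans (key g' hg'.1 hg'.2.2 hd'.2.2).symm)
    rfl
  · obtain ⟨d, hd, hda, hdA⟩ := d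
    have he : IsConj z (r * d * r⁻¹) := hd.trans (isConj_iff.2 ⟨r, rfl⟩)
    have heb : (r * d * r⁻¹) • b = b := by
      rw [← hra, smul_smul, inv_mul_cancel_right, mul_smul, hda]
    obtain ⟨g, hg, hge⟩ := h.exists_midpoint hd he hda heb hab
    have hga : g • a = b := h.smul_eq_of_conj he hge hda heb
    have hgi := invol_inv (h.orderOf_conj hg)
    have hgd : g * (r * d * r⁻¹) * g⁻¹ = d := by
      rw [← hge]
      calc g * (g * d * g⁻¹) * g⁻¹ = (g * g) * d * (g⁻¹ * g⁻¹) := by group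
        _ = d := by rw [hgi, invol_mul_self (h.orderOf_conj hg), one_mul, mul_one]
    have hgA : ∀ x ∈ A, Commute x g := fun x hx =>
      h.commute_midpoint hd he hg hda heb hab hge (hdA x hx) (hrA ⟨d, hd, hda, hdA⟩ x hx)
    have hgr : Commute r g := by
      refine mul_inv_eq_iff_eq_mul.1 (h.midpoint_unique hd hg (hg.trans (isConj_iff.2 ⟨r, rfl⟩))
        hda (by rw [hga]; exact hab.symm) ?_).symm
      have e1 : r * g * r⁻¹ * (r * d * r⁻¹) * (r * g * r⁻¹)⁻¹ = d := by
        calc r * g * r⁻¹ * (r * d * r⁻¹) * (r * g * r⁻¹)⁻¹ = r * (g * d * g⁻¹) * r⁻¹ := by group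
          _ = (r * r) * d * (r * r)⁻¹ := by rw [hge]; group
          _ = d := by rw [(hsq ⟨d, hd, hda, hdA⟩).eq, mul_inv_cancel_right]
      have hk := invol_inv (invol_conj (h.orderOf_conj hg) r)
      rw [hge]
      calc r * d * r⁻¹ = (r * g * r⁻¹)⁻¹ * (r * g * r⁻¹ * (r * d * r⁻¹) * (r * g * r⁻¹)⁻¹) *
            (r * g * r⁻¹) := by group
        _ = r * g * r⁻¹ * d * (r * g * r⁻¹)⁻¹ := by rw [e1, hk]
    refine ⟨⟨⟨g, hg, hga, fun x hx => ?_⟩, ⟨d, hd, hda, fun x hx => ?_⟩⟩, rfl⟩
    · rcases Set.mem_insert_iff.1 hx with rfl | hx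
      exacts [hgr, hgA x hx]
    · rcases Set.mem_insert_iff.1 hx with rfl | hx
      · refine mul_inv_eq_iff_eq_mul.1 ?_
        calc g * r * d * (g * r)⁻¹ = g * (r * d * r⁻¹) * g⁻¹ := by group
          _ = d := hgd
      · exact hdA x hx

/-- If every such product centralizes exactly `k` members, the swaps times `k` count the members. -/
theorem card_swap_mul {A : Set G} {r : G} {a b : G ⧸ M} (hab : a ≠ b) (hra : r • a = b)
    (hrb : r • b = a) (hrA : ∀ d : CAt z A a, ∀ x ∈ A, Commute x (r * d.1 * r⁻¹))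
    (hsq : ∀ d : CAt z A a, Commute (r * r) d.1) {k : ℕ}
    (hk : ∀ g : CSwap z (insert r A) a b, Nat.card (CAt z (insert (g.1 * r) A) a) = k) :
    Nat.card (CSwap z (insert r A) a b) * k = Nat.card (CAt z A a) := by
  rw [← h.card_swap_pairs hab hra hrb hrA hsq]
  letI := Fintype.ofFinite (CSwap z (insert r A) a b)
  rw [Nat.card_sigma, Finset.sum_congr rfl fun g _ => hk g, Finset.sum_const, smul_eq_mul,
    Finset.card_univ, Nat.card_eq_fintype_card]

/-- **The moved points of `r`.**  If the swaps of moved pairs all number `R`, all `r d` fix `f'`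
points of `Φ`, one of them fixed by `r`, the moved points times `R` are the members times `f' - 1`. -/
theorem moved_mul_eq {A : Set G} {r : G} {Φ : Set (G ⧸ M)}
    (hΦ : ∀ d : G, IsConj z d → (∀ x ∈ insert r A, Commute x d) → ∀ a ∈ Φ, d • a ∈ Φ)
    (hΦ' : ∀ d : G, IsConj z d → (∀ x ∈ insert r A, Commute x d) → ∀ a : G ⧸ M, d • a = a → a ∈ Φ)
    {R f' : ℕ} (hR : ∀ a ∈ Φ, r • a ≠ a → Nat.card (CSwap z (insert r A) a (r • a)) = R)
    (hrd : ∀ d : G, IsConj z d → (∀ x ∈ insert r A, Commute x d) →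
      Nat.card {a : G ⧸ M // a ∈ Φ ∧ (r * d) • a = a} = f') :
    Nat.card {a : G ⧸ M // a ∈ Φ ∧ r • a ≠ a} * R =
      Nat.card {d : G // IsConj z d ∧ ∀ x ∈ insert r A, Commute x d} * (f' - 1) := by
  set P := {a : G ⧸ M // a ∈ Φ ∧ r • a ≠ a}
  set D := {d : G // IsConj z d ∧ ∀ x ∈ insert r A, Commute x d}
  letI := Fintype.ofFinite P
  letI := Fintype.ofFinite D
  have e1 : Nat.card (Σ a : P, CSwap z (insert r A) a.1 (r • a.1)) = Nat.card P * R := by
    rw [Nat.card_sigma, Finset.sum_congr rfl fun a _ => hR a.1 a.2.1 a.2.2, Finset.sum_const,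
      smul_eq_mul, Finset.card_univ, Nat.card_eq_fintype_card]
  have e2 : ∀ d : D, Nat.card {a : P // d.1 • a.1 = r • a.1} = f' - 1 := by
    intro d
    have hdo := h.orderOf_conj d.2.1
    have hcomm : Commute r d.1 := d.2.2 r (Set.mem_insert _ _)
    obtain ⟨p, hp⟩ := h.fix_exists d.2.1
    have hrp : r • p = p := h.smul_of_commute d.2.1 hcomm hp
    have key : ∀ a : G ⧸ M, (r * d.1) • a = a ↔ d.1 • a = r⁻¹ • a := fun a => by
      rw [mul_smul, eq_inv_smul_iff]
    have hpmem : p ∈ Φ ∧ (r * d.1) • p = p :=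
      ⟨hΦ' d.1 d.2.1 d.2.2 p hp, by rw [mul_smul, hp, hrp]⟩
    rw [← hrd d.1 d.2.1 d.2.2]
    classical
    have hflip : ∀ a : G ⧸ M, d.1 • a = r • a ↔ d.1 • a = r⁻¹ • a := fun a => by
      constructor <;> intro ha
      · have := congrArg (fun t => r⁻¹ • d.1 • t) ha
        simp only [smul_smul, invol_mul_self hdo, ← mul_assoc, mul_one] at this
        rw [mul_assoc, ← hcomm.eq, inv_mul_cancel_left] at this
        exact this.symm
      · have := congrArg (fun t => r • d.1 • t) ha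
        simp only [smul_smul, invol_mul_self hdo, ← mul_assoc, mul_one] at this
        rw [mul_assoc r, ← (hcomm.inv_left).eq, mul_inv_cancel_left] at this
        exact this.symm
    rw [← Nat.card_congr (Equiv.optionSubtypeNe
      (⟨p, hpmem⟩ : {a : G ⧸ M // a ∈ Φ ∧ (r * d.1) • a = a})), Finite.card_option,
      Nat.add_sub_cancel]
    refine Nat.card_congr
      ⟨fun a => ⟨⟨a.1.1, a.1.2.1, (key _).2 ((hflip _).1 a.2)⟩, fun hap => a.1.2.2 (by
          rw [show a.1.1 = p from congrArg Subtype.val hap, hrp])⟩,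
        fun a => ⟨⟨a.1.1, a.1.2.1, fun hra => a.2 (Subtype.ext (by
          have h2 := (hflip _).2 ((key _).1 a.1.2.2)
          rw [hra] at h2
          exact h.fix_unique d.2.1 h2 hp))⟩, (hflip _).2 ((key _).1 a.1.2.2)⟩,
        fun _ => rfl, fun _ => rfl⟩
  rw [← e1]
  calc Nat.card (Σ a : P, CSwap z (insert r A) a.1 (r • a.1))
      = Nat.card (Σ d : D, {a : P // d.1 • a.1 = r • a.1}) :=
        Nat.card_congr ⟨fun p => ⟨⟨p.2.1, p.2.2.1, p.2.2.2.2⟩, ⟨p.1, p.2.2.2.1⟩⟩,
          fun p => ⟨p.2.1, ⟨p.1.1, p.1.2.1, p.2.2, p.1.2.2⟩⟩, fun _ => rfl, fun _ => rfl⟩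
    _ = Nat.card D * (f' - 1) := by
        rw [Nat.card_sigma, Finset.sum_congr rfl fun d _ => e2 d, Finset.sum_const, smul_eq_mul,
          Finset.card_univ, Nat.card_eq_fintype_card]

end Crit

end CfsgLib.SECrit
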