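import Cfsg.Agent.Lib.Invol.SECriterion.SmallType.Powers
import Cfsg.Agent.Lib.Invol.SECriterion.SmallType.Klein
import Cfsg.Agent.Lib.Invol.SECriterion.Factor
import Cfsg.Agent.Lib.Invol.Lonely

/-!
# The strong embedding criterion, small type: commuting bad involutions

Two commuting bad involutions share a single point and differ by a member there, so there is a
single class of bad involutions and two of them with two common points and commuting are equal.
-/

set_option autoImplicit false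

namespace CfsgLib.SECrit.Small

open CfsgLib.Invol

/-- Conjugation by an element as a permutation of a subgroup it normalizes. -/
def conjOn {G : Type*} [Group G] {U : Subgroup G} (g : G) (hg : ∀ u ∈ U, g * u * g⁻¹ ∈ U)
    (hg' : ∀ u ∈ U, g⁻¹ * u * g ∈ U) : U ≃* U where
  toFun u := ⟨g * u * g⁻¹, hg u u.2⟩
  invFun u := ⟨g⁻¹ * u * g, hg' u u.2⟩
  left_inv u := Subtype.ext (by simp [mul_assoc])
  right_inv u := Subtype.ext (by simp [mul_assoc])
  map_mul' u v := Subtype.ext (by simp [mul_assoc])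

variable {G : Type*} [Group G] {M : Subgroup G} {z : G} [Finite G]

/-- The standing assumption: all bad involutions centralize `a` members at a fixed point, fewer
than there are, and at least two. -/
structure Uni (M : Subgroup G) (z : G) (a : ℕ) : Prop extends Res M z where
  le : 2 ≤ a
  lt : a < deg M z
  cnt_uni : ∀ (x : G) (p : G ⧸ M), Bad z x → x • p = p → cnt z x p = a

namespace Res

variable (h : Res M z)
include h

/-- The small type holds for all bad involutions. -/
theorem uni_of_small {x : G} (hx : Bad z x) {p : G ⧸ M} (hp : x • p = p)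
    (hlt : cnt z x p < deg M z) (hc : 2 ≤ cnt z x p) : Uni M z (cnt z x p) :=
  ⟨h, hc, hlt, fun _ _ hy hq => (h.small_uniform hx hp hlt hc hy hq).1⟩

theorem bad_of_two_fix {c : G} (hc : orderOf c = 2) {p q : G ⧸ M} (hpq : p ≠ q) (hp : c • p = p)
    (hq : c • q = q) : Bad z c :=
  ⟨hc, fun hh => hpq (h.crit.fix_unique hh hp hq)⟩

/-- An involution is a member or bad. -/
theorem conj_or_bad {c : G} (hc : orderOf c = 2) : IsConj z c ∨ Bad z c :=
  (em (IsConj z c)).imp id fun hh => ⟨hc, hh⟩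

theorem smul_inj {c : G} {a b : G ⧸ M} (hne : a ≠ b) : c • a ≠ c • b := fun e =>
  hne (smul_left_cancel c e)

end Res

namespace Uni

variable {a : ℕ} (h : Uni M z a)
include h

theorem small {x : G} (hx : Bad z x) {p : G ⧸ M} (hp : x • p = p) : cnt z x p < deg M z := by
  rw [h.cnt_uni x p hx hp]; exact h.lt

theorem deg_eq {x : G} (hx : Bad z x) {p : G ⧸ M} (hp : x • p = p) : deg M z = a * (a + 2) := by
  have := (h.small_type hx hp (h.small hx hp)).1
  rw [h.cnt_uni x p hx hp] at this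
  nlinarith

/-- **Commuting bad involutions share at most one point.** -/
theorem eq_of_two_common {x w : G} (hx : Bad z x) (hw : orderOf w = 2) (hxw : Commute x w)
    {p q : G ⧸ M} (hpq : p ≠ q) (hxp : x • p = p) (hxq : x • q = q) (hwp : w • p = p)
    (hwq : w • q = q) : w = x := by
  by_contra hne
  have hwb := h.toRes.bad_of_two_fix hw hpq hwp hwq
  have hxwo := mul_conj_invol hx.invol hw hxw (fun e => hne e.symm)
  have hxwb : Bad z (x * w) := h.toRes.bad_of_two_fix hxwo hpq (by rw [mul_smul, hwp, hxp])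
    (by rw [mul_smul, hwq, hxq])
  set C := Cfsg.pPrimeCore 2 (pairStab p q) with hC
  set U := C.map (pairStab p q).subtype with hU
  haveI : C.Characteristic := Coprime.pPrimeCore_characteristic 2
  have hUodd : Odd (Nat.card U) := by
    rw [hU, Nat.card_congr (C.equivMapOfInjective _ (Subgroup.subtype_injective _)).toEquiv.symm,
      ← Nat.not_even_iff_odd, even_iff_two_dvd]
    exact Coprime.pPrimeCore_not_dvd Nat.prime_two
  have hUfix : ∀ u ∈ U, u • p = p := by
    intro u hu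
    obtain ⟨k, hk⟩ := hUodd.of_dvd_nat (Subgroup.orderOf_dvd_natCard U hu)
    obtain ⟨n, -, rfl⟩ := hu
    rcases n.2 with h1 | ⟨h1, h2⟩
    · exact h1.1
    · exfalso
      have hsq : (n : G) ^ 2 • p = p := by rw [pow_two, mul_smul, h1, h2]
      have h3 : ((n : G) ^ 2) ^ (k + 1) • p = p :=
        MulAction.mem_stabilizer_iff.1 (pow_mem (MulAction.mem_stabilizer_iff.2 hsq) _)
      rw [← pow_mul, show 2 * (k + 1) = (2 * k + 1) + 1 by ring, pow_succ, ← hk] at h3
      have h4 : ((pairStab p q).subtype n) ^ orderOf ((pairStab p q).subtype n) = 1 :=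
        pow_orderOf_eq_one _
      rw [Subgroup.coe_subtype] at h4 h3
      rw [h4, one_mul, h1] at h3
      exact hpq h3.symm
  have hUconj : ∀ g : G, g • p = p → g • q = q → ∀ u ∈ U, g * u * g⁻¹ ∈ U := by
    rintro g hgp hgq _ ⟨n, hn, rfl⟩
    exact ⟨_, (inferInstance : C.Normal).conj_mem n hn ⟨g, mem_pairStab_of_fix hgp hgq⟩, rfl⟩
  have hinv : ∀ g : G, g • p = p → g • q = q → ∀ u ∈ U, g⁻¹ * u * g ∈ U := by
    intro g hgp hgq u hu
    have := hUconj g⁻¹ (inv_smul_eq_iff.2 hgp.symm) (inv_smul_eq_iff.2 hgq.symm) u hu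
    rwa [inv_inv] at this
  letI : MulAction U (DAt z p) :=
    { smul := fun u d => ⟨(u : G) * d.1 * (u : G)⁻¹, d.2.1.trans (isConj_iff.2 ⟨u, rfl⟩), by
        rw [mul_smul, mul_smul, inv_smul_eq_iff.2 (hUfix u u.2).symm, d.2.2, hUfix u u.2]⟩
      one_smul := fun d => Subtype.ext
        (show ((1 : U) : G) * d.1 * ((1 : U) : G)⁻¹ = d.1 by simp)
      mul_smul := fun u v d => Subtype.ext (show ((u * v : U) : G) * d.1 * ((u * v : U) : G)⁻¹ =
        (u : G) * ((v : G) * d.1 * (v : G)⁻¹) * (u : G)⁻¹ by simp [mul_assoc]) }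
  have htr : ∀ d e : DAt z p, ∃ u : U, u • d = e := by
    intro d e
    obtain ⟨r, hr, -, -, hre⟩ := h.crit.exists_core_conj hpq d.2.1 e.2.1 d.2.2 e.2.2
    exact ⟨⟨r, ⟨r, hr, rfl⟩⟩, Subtype.ext hre⟩
  let act : ∀ g : G, g • p = p → DAt z p → DAt z p := fun g hg d =>
    ⟨g * d.1 * g⁻¹, d.2.1.trans (isConj_iff.2 ⟨g, rfl⟩),
      by rw [mul_smul, mul_smul, inv_smul_eq_iff.2 hg.symm, d.2.2, hg]⟩
  have hfixed : ∀ (g : G) (hg : g • p = p) (d : DAt z p), act g hg d = d ↔ Commute g d.1 :=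
    fun g hg d => by rw [Subtype.ext_iff]; exact mul_inv_eq_iff_eq_mul
  have hcard : ∀ (g : G) (hg : g • p = p), Bad z g →
      Nat.card {d : DAt z p // act g hg d = d} = a := by
    intro g hg hgb
    rw [← h.cnt_uni g p hgb hg, cnt]
    refine Nat.card_congr
      { toFun := fun d => ⟨d.1.1, d.1.2.1, d.1.2.2, fun y hy => ?_⟩
        invFun := fun d => ⟨⟨d.1, d.2.1, d.2.2.1⟩, (hfixed g hg _).2 (d.2.2.2 g rfl)⟩
        left_inv := fun _ => rfl
        right_inv := fun _ => rfl }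
    rw [Set.mem_singleton_iff.1 hy]; exact (hfixed g hg _).1 d.2
  have hsq : ∀ (g : G) (k : G), orderOf g = 2 → g * (g * k * g⁻¹) * g⁻¹ = k := fun g k hg => by
    calc g * (g * k * g⁻¹) * g⁻¹ = (g * g) * k * (g * g)⁻¹ := by group
      _ = k := by rw [invol_mul_self hg, one_mul, inv_one, mul_one]
  have hcomm : ∀ k : G, x * (w * k * w⁻¹) * x⁻¹ = w * (x * k * x⁻¹) * w⁻¹ := fun k => by
    calc x * (w * k * w⁻¹) * x⁻¹ = (x * w) * k * (x * w)⁻¹ := by group
      _ = (w * x) * k * (w * x)⁻¹ := by rw [hxw.eq]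
      _ = _ := by group
  obtain ⟨d0, hd0, hd0p, hd0x⟩ := h.crit.exists_commuting_at
    (A := Subgroup.closure ({x, w} : Set G))
    (two_group_of_pair hx.invol hw (s := (orderOf (x * w)).factorization 2) (by
      rw [hxwo]; simp [Nat.Prime.factorization_self Nat.prime_two]))
    (a := p) (fun y hy => (Subgroup.closure_le (MulAction.stabilizer G p)).2 (by
      rintro t (rfl | rfl)
      exacts [hxp, hwp]) hy)
  have key := klein_card_set hUodd htr (conjOn x (hUconj x hxp hxq) (hinv x hxp hxq))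
    (conjOn w (hUconj w hwp hwq) (hinv w hwp hwq))
    (fun u => Subtype.ext (hsq x u hx.invol)) (fun u => Subtype.ext (hsq w u hw))
    (fun u => Subtype.ext (hcomm u)) (act x hxp) (act w hwp)
    (fun u d => Subtype.ext (by
      show x * ((u : G) * d.1 * (u : G)⁻¹) * x⁻¹ = x * u * x⁻¹ * (x * d.1 * x⁻¹) * (x * u * x⁻¹)⁻¹
      group))
    (fun u d => Subtype.ext (by
      show w * ((u : G) * d.1 * (u : G)⁻¹) * w⁻¹ = w * u * w⁻¹ * (w * d.1 * w⁻¹) * (w * u * w⁻¹)⁻¹
      group))
    (fun d => Subtype.ext (hcomm d.1)) (j := ⟨d0, hd0, hd0p⟩)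
    ((hfixed x hxp _).2 (hd0x x (Subgroup.subset_closure (by simp))))
    ((hfixed w hwp _).2 (hd0x w (Subgroup.subset_closure (by simp))))
  have e3 : Nat.card {d : DAt z p // act x hxp (act w hwp d) = d} = a := by
    rw [← hcard (x * w) (by rw [mul_smul, hwp, hxp]) hxwb]
    exact Nat.card_congr (Equiv.subtypeEquivRight fun d => by
      rw [Subtype.ext_iff, Subtype.ext_iff]
      show x * (w * d.1 * w⁻¹) * x⁻¹ = d.1 ↔ x * w * d.1 * (x * w)⁻¹ = d.1
      rw [show x * w * d.1 * (x * w)⁻¹ = x * (w * d.1 * w⁻¹) * x⁻¹ by group])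
  rw [show Nat.card (Fixed (act x hxp)) = a from hcard x hxp hx,
    show Nat.card (Fixed (act w hwp)) = a from hcard w hwp hwb, e3,
    show Nat.card (DAt z p) = a * (a + 2) from (card_DAt p).trans (h.deg_eq hx hxp),
    mul_assoc a a a, mul_assoc] at key
  have hk2 : (a + 2) * Nat.card {k : DAt z p // act x hxp k = k ∧ act w hwp k = k} ^ 2 = a * a :=
    Nat.eq_of_mul_eq_mul_left (by have := h.le; omega) key
  have hodd : Odd a := by
    obtain ⟨β, hβ⟩ := h.exists_card_CAt ({x} : Set G) p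
    rw [← cnt, h.cnt_uni x p hx hxp] at hβ
    rcases Nat.eq_zero_or_pos β with rfl | hβ0
    · have := h.le; omega
    · rw [← Nat.not_even_iff_odd]
      intro he
      have : Even (a + 1) := hβ ▸ even_two.pow_of_ne_zero hβ0.ne'
      exact Nat.not_odd_iff_even.2 this (he.add_one)
  have hcop : Nat.Coprime (a + 2) a := by
    rw [Nat.coprime_self_add_left]
    exact Nat.coprime_two_left.2 hodd
  have h1 : a + 2 = 1 := (hcop.mul_right hcop).eq_one_of_dvd (Dvd.intro _ hk2)
  omega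

/-- **A bad involution commuting with `x` is the product of `x` with a member.** -/
theorem comm_bad {x w : G} (hx : Bad z x) (hw : Bad z w) (hxw : Commute x w) (hne : w ≠ x)
    {p : G ⧸ M} (hxp : x • p = p) (hwp : w • p = p) :
    ∃ d : G, IsConj z d ∧ d • p = p ∧ Commute x d ∧ w = x * d := by
  obtain ⟨γ, hγp, hxγ⟩ := h.bad_two_fix hx hxp
  have hwγ : w • γ ≠ γ := fun e =>
    hne (h.eq_of_two_common hx hw.invol hxw hγp.symm hxp hxγ hwp e)
  have hxwγ : x • w • γ = w • γ := by rw [smul_smul, hxw.eq, mul_smul, hxγ]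
  have hwwγ : w • w • γ = γ := by rw [smul_smul, invol_mul_self hw.invol, one_smul]
  have hpairs := h.crit.card_swap_pairs (A := ({x} : Set G)) (r := w) (a := γ) (b := w • γ)
    hwγ.symm rfl hwwγ (fun d y hy => by
      rw [Set.mem_singleton_iff.1 hy]
      exact (hxw.mul_right (d.2.2.2 x rfl)).mul_right hxw.inv_right)
    (fun d => by rw [invol_mul_self hw.invol]; exact Commute.one_left _)
  haveI : Nonempty (Σ g : CSwap z (insert w ({x} : Set G)) γ (w • γ),
      CAt z (insert (g.1 * w) ({x} : Set G)) γ) := by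
    have hpos : 0 < Nat.card (CAt z ({x} : Set G) γ) := h.cnt_pos hx.invol hxγ
    rw [← hpairs] at hpos
    exact (Nat.card_pos_iff.1 hpos).1
  obtain ⟨⟨g, hg, hgγ, hgA⟩, -⟩ := (inferInstance : Nonempty (Σ g : CSwap z (insert w ({x} : Set G))
    γ (w • γ), CAt z (insert (g.1 * w) ({x} : Set G)) γ))
  have hwg : Commute w g := hgA w (Set.mem_insert _ _)
  have hxg : Commute x g := hgA x (Set.mem_insert_of_mem _ rfl)
  obtain ⟨o, ho⟩ := h.crit.fix_exists hg
  have hxo : x • o = o := h.crit.smul_of_commute hg hxg ho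
  have hwo : w • o = o := h.crit.smul_of_commute hg hwg ho
  have hop : o = p := by
    by_contra hne'
    exact hne (h.eq_of_two_common hx hw.invol hxw hne' hxo hxp hwo hwp)
  subst hop
  have hbad := h.bad_mul hw hg hwg
  have hfixγ : (w * g) • γ = γ := by rw [mul_smul, hgγ, hwwγ]
  have heq : w * g = x := h.eq_of_two_common hx hbad.invol (hxw.mul_right hxg) hγp.symm hxp hxγ
    (by rw [mul_smul, ho, hwo]) hfixγ
  exact ⟨g, hg, ho, hxg, by rw [← heq, mul_assoc, invol_mul_self (h.crit.orderOf_conj hg), mul_one]⟩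

/-- A product of a bad involution with a member centralizing it is conjugate to it at the point. -/
theorem exists_grp_conj {x d : G} (hx : Bad z x) {p : G ⧸ M} (hxp : x • p = p)
    (hd : d ∈ h.toRes.grp p) (hxd : Commute x d) :
    ∃ e ∈ h.toRes.grp p, e * x * e⁻¹ = x * d :=
  (h.small_type hx hxp (h.small hx hxp)).2 d hd hxd

theorem isConj_of_commute {x w : G} (hx : Bad z x) (hw : Bad z w) (hxw : Commute x w) :
    IsConj x w := by
  rcases eq_or_ne w x with rfl | hne
  · exact IsConj.refl w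
  obtain ⟨p, hp⟩ := exists_common_fix h.crit (A := Subgroup.closure ({x, w} : Set G))
    (two_group_of_pair hx.invol hw.invol (s := (orderOf (x * w)).factorization 2) (by
      rw [mul_conj_invol hx.invol hw.invol hxw hne.symm]
      simp [Nat.Prime.factorization_self Nat.prime_two]))
  have hxp := hp x (Subgroup.subset_closure (by simp))
  obtain ⟨d, hd, hdp, hxd, rfl⟩ := h.comm_bad hx hw hxw hne hxp
    (hp w (Subgroup.subset_closure (by simp)))
  obtain ⟨e, -, he⟩ := h.exists_grp_conj hx hxp (Or.inr ⟨hd, hdp⟩) hxd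
  exact isConj_iff.2 ⟨e, he⟩

/-- Two bad involutions of different classes share exactly one point. -/
theorem card_common {x y : G} (hx : Bad z x) (hy : Bad z y) (hxy : ¬ IsConj x y) :
    Nat.card {t : G ⧸ M // x • t = t ∧ y • t = t} = 1 := by
  have heven : Even (orderOf (x * y)) := Nat.not_odd_iff_even.1 fun hodd =>
    hxy (Invol.isConj_of_odd hx.invol hy.invol hodd)
  set w := (x * y) ^ (orderOf (x * y) / 2) with hw
  have hwo : orderOf w = 2 := orderOf_pow_half heven
  have hwx : Commute w x := commute_pow_half (invol_conj_mul hx.invol hy.invol) heven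
  have hwy : Commute w y := commute_pow_half (invol_conj_mul' hx.invol hy.invol) heven
  have hwm : IsConj z w := (h.conj_or_bad hwo).resolve_right fun hb =>
    hxy ((h.isConj_of_commute hx hb hwx.symm).trans (h.isConj_of_commute hy hb hwy.symm).symm)
  obtain ⟨o, ho⟩ := h.crit.fix_exists hwm
  rw [Nat.card_eq_one_iff_exists]
  refine ⟨⟨o, h.crit.smul_of_commute hwm hwx.symm ho, h.crit.smul_of_commute hwm hwy.symm ho⟩,
    fun t => Subtype.ext ?_⟩
  refine h.crit.fix_unique hwm ?_ ho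
  have hst : x * y ∈ MulAction.stabilizer G t.1 := by
    show (x * y) • t.1 = t.1
    rw [mul_smul, t.2.2, t.2.1]
  exact MulAction.mem_stabilizer_iff.1 (pow_mem hst _)

/-- **All bad involutions are conjugate.** -/
theorem one_class {x y : G} (hx : Bad z x) (hy : Bad z y) : IsConj x y := by
  by_contra hxy
  obtain ⟨p, hxp⟩ := exists_fix h.crit hx.invol
  obtain ⟨q, hyq⟩ := exists_fix h.crit hy.invol
  have hlt := h.small hx hxp
  have hc : 2 ≤ cnt z x p := by rw [h.cnt_uni x p hx hxp]; exact h.le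
  have hfy : fix M y = fix M x := (h.small_uniform hx hxp hlt hc hy hyq).2
  obtain ⟨β, i, hβ, -, -, hfx, -, hK, -⟩ := h.small_pows hx hxp hlt hc
  set Y := {y' : G // IsConj y y'}
  set P := {w : Y × (G ⧸ M) // w.1.1 • w.2 = w.2}
  set P' := {w : P // x • w.1.2 = w.1.2}
  letI := Fintype.ofFinite Y
  letI := Fintype.ofFinite (G ⧸ M)
  letI := Fintype.ofFinite {t : G ⧸ M // x • t = t}
  have hrow : ∀ y' : Y, fix M y'.1 = fix M x := fun y' => by
    obtain ⟨g, hg⟩ := isConj_iff.1 y'.2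
    rw [← hg, fix_conj, hfy]
  have c1 : Nat.card P = Nat.card Y * fix M x := by
    rw [Nat.card_congr (β := Σ y' : Y, {t : G ⧸ M // y'.1 • t = t})
      ⟨fun w => ⟨w.1.1, ⟨w.1.2, w.2⟩⟩, fun w => ⟨(w.1, w.2.1), w.2.2⟩, fun _ => rfl, fun _ => rfl⟩,
      Nat.card_sigma, Finset.sum_congr rfl (fun (y' : Y) _ =>
        (show Nat.card {t : G ⧸ M // y'.1 • t = t} = fix M x from hrow y')), Finset.sum_const,
      smul_eq_mul, Finset.card_univ, Nat.card_eq_fintype_card]
  have hunif : ∀ t : G ⧸ M, Nat.card {y' : Y // y'.1 • t = t} =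
      Nat.card {y' : Y // y'.1 • p = p} := by
    intro t
    obtain ⟨g, hg⟩ := MulAction.exists_smul_eq G p t
    let e : {y' : Y // y'.1 • p = p} ≃ {y' : Y // y'.1 • t = t} :=
      { toFun := fun w => ⟨⟨g * w.1.1 * g⁻¹, w.1.2.trans (isConj_iff.2 ⟨g, rfl⟩)⟩,
          by rw [← hg, mul_smul, mul_smul, inv_smul_smul, w.2]⟩
        invFun := fun w => ⟨⟨g⁻¹ * w.1.1 * g, w.1.2.trans (isConj_iff.2 ⟨g⁻¹, by rw [inv_inv]⟩)⟩,
          by rw [mul_smul, mul_smul, hg, w.2, inv_smul_eq_iff, hg]⟩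
        left_inv := fun w => Subtype.ext (Subtype.ext (show g⁻¹ * (g * w.1.1 * g⁻¹) * g = w.1.1 by group))
        right_inv := fun w => Subtype.ext (Subtype.ext (show g * (g⁻¹ * w.1.1 * g) * g⁻¹ = w.1.1 by group)) }
    exact (Nat.card_congr e).symm
  have c2 : Nat.card P = Nat.card (G ⧸ M) * Nat.card {y' : Y // y'.1 • p = p} := by
    rw [Nat.card_congr (β := Σ t : G ⧸ M, {y' : Y // y'.1 • t = t})
      ⟨fun w => ⟨w.1.2, ⟨w.1.1, w.2⟩⟩, fun w => ⟨(w.2.1, w.1), w.2.2⟩, fun _ => rfl, fun _ => rfl⟩,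
      Nat.card_sigma, Finset.sum_congr rfl fun t _ => hunif t, Finset.sum_const,
      smul_eq_mul, Finset.card_univ, ← Nat.card_eq_fintype_card]
  have c3 : Nat.card P' = Nat.card Y := by
    rw [Nat.card_congr (β := Σ y' : Y, {t : G ⧸ M // x • t = t ∧ y'.1 • t = t})
      ⟨fun w => ⟨w.1.1.1, ⟨w.1.1.2, w.2, w.1.2⟩⟩, fun w => ⟨⟨(w.1, w.2.1), w.2.2.2⟩, w.2.2.1⟩,
        fun _ => rfl, fun _ => rfl⟩,
      Nat.card_sigma, Finset.sum_congr rfl fun (y' : Y) _ => h.card_common hx (y := y'.1) (by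
        obtain ⟨g, hg⟩ := isConj_iff.1 y'.2
        exact hg ▸ hy.conj g) (fun hh => hxy (hh.trans y'.2.symm)), Finset.sum_const,
      smul_eq_mul, Finset.card_univ, mul_one, ← Nat.card_eq_fintype_card]
  have c4 : Nat.card P' = fix M x * Nat.card {y' : Y // y'.1 • p = p} := by
    rw [Nat.card_congr (β := Σ t : {t : G ⧸ M // x • t = t}, {y' : Y // y'.1 • t.1 = t.1})
      ⟨fun w => ⟨⟨w.1.1.2, w.2⟩, ⟨w.1.1.1, w.1.2⟩⟩, fun w => ⟨⟨(w.2.1, w.1.1), w.2.2⟩, w.1.2⟩,
        fun _ => rfl, fun _ => rfl⟩,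
      Nat.card_sigma, Finset.sum_congr rfl fun (t : {t : G ⧸ M // x • t = t}) _ => hunif t.1,
      Finset.sum_const, smul_eq_mul, Finset.card_univ, fix, ← Nat.card_eq_fintype_card]
  haveI : Nonempty Y := ⟨⟨y, IsConj.refl y⟩⟩
  have hpos : 0 < Nat.card {y' : Y // y'.1 • p = p} := by
    rw [← hunif q]
    haveI : Nonempty {y' : Y // y'.1 • q = q} := ⟨⟨⟨y, IsConj.refl y⟩, hyq⟩⟩
    exact Nat.card_pos
  have hN : Nat.card (G ⧸ M) = fix M x * fix M x := by
    refine Nat.eq_of_mul_eq_mul_right hpos ?_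
    rw [← c2, c1, ← c3, c4]; ring
  rw [hN, hfx] at hK
  obtain ⟨q', hq'⟩ : ∃ q', 2 ^ β = q' + 1 := ⟨2 ^ β - 1, by have := Nat.two_pow_pos β; omega⟩
  obtain ⟨s, hs⟩ : ∃ s, 2 ^ (β + i) = s := ⟨_, rfl⟩
  rw [hs, hq', Nat.add_sub_cancel, show (s + 1) * (s + 1) - 1 = s * (s + 2) by
    rw [show (s + 1) * (s + 1) = s * (s + 2) + 1 by ring, Nat.add_sub_cancel]] at hK
  have hs0 : 0 < s := hs ▸ Nat.two_pow_pos _
  rw [mul_assoc] at hK
  have := Nat.eq_of_mul_eq_mul_left hs0 hK
  nlinarith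

/-- Bad involutions at one point are conjugate by an element fixing it. -/
theorem exists_conj_at {x y : G} (hx : Bad z x) (hy : Bad z y) {p : G ⧸ M} (hxp : x • p = p)
    (hyp : y • p = p) : ∃ g : G, g • p = p ∧ g * x * g⁻¹ = y := by
  obtain ⟨g, hg⟩ := isConj_iff.1 (h.one_class hx hy)
  by_cases hgp : g • p = p
  · exact ⟨g, hgp, hg⟩
  have hyg : y • g • p = g • p := by rw [← hg, mul_smul, mul_smul, inv_smul_smul, hxp]
  obtain ⟨t, -, htp, hyt⟩ := h.crit.exists_commuting_swap (Crit.isPGroup_zpowers_invol hy.invol) hgp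
    (Crit.forall_zpowers_fix hyg) (Crit.forall_zpowers_fix hyp)
  refine ⟨t * g, by rw [mul_smul, htp], ?_⟩
  rw [show t * g * x * (t * g)⁻¹ = t * (g * x * g⁻¹) * t⁻¹ by group, hg,
    ← (hyt y (Subgroup.mem_zpowers y)).eq, mul_inv_cancel_right]

end Uni

end CfsgLib.SECrit.Small
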