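import Cfsg.Agent.Lib.Invol.SECriterion.SmallType.Square
import Cfsg.Agent.Lib.Invol.SECriterion.Assembly

/-!
# The strong embedding criterion, small type: the residue of the assembly
-/

set_option autoImplicit false

namespace CfsgLib.SECrit

universe u

/-- The small type with `q + 1` fixed points does not occur. -/
theorem noSmallLinear {G : Type u} [Group G] [Finite G] (M : Subgroup G) (z : G) :
    NoSmallLinear M z :=
  fun _ _ hU _ _ hx => hU.false_of_bad hx

end CfsgLib.SECrit
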