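import Cfsg.Agent.Lib.Invol.SECriterion.Sigma
import Cfsg.Agent.Lib.Invol.SECriterion.SignKill
import Cfsg.Agent.Lib.Invol.Basic
import Mathlib.GroupTheory.Perm.Cycle.Type

/-!
# The strong embedding criterion: the stabilizer of a coset of a line has no index two

`y ∈ Y`, `E` is the group of the members of `J` commuting with `y`, `R` is a Sylow two-subgroup of
the stabilizer of the coset `y E`, centralizing `E`.  If the members of `Y` commuting with `y` and
`E` lie in `y E`, then `R` does not have index two in a Sylow two-subgroup: otherwise the conjugates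
of the coset in the normalizer of `R` fall into two blocks of the same size `t`, with `|E| - 1`
dividing both `t` and `t - 1`.
-/

set_option autoImplicit false
set_option linter.style.haveILetI false

namespace CfsgLib.SECrit

open CfsgLib.Invol Subgroup

/-- A map whose fibres are permuted transitively has a target of size dividing that of its domain. -/
theorem dvd_card_of_transitive {B C : Type*} [Finite B] [Finite C] (f : B → C)
    (htr : ∀ u v : C, ∃ σ : Equiv.Perm B, ∀ b, f b = u ↔ f (σ b) = v) : Nat.card C ∣ Nat.card B := by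
  rcases isEmpty_or_nonempty C with hC | ⟨⟨u⟩⟩
  · have : IsEmpty B := ⟨fun b => hC.false (f b)⟩
    simp
  refine ⟨Nat.card {b : B // f b = u}, ?_⟩
  choose σ hσ using htr u
  rw [← Nat.card_congr (Equiv.sigmaFiberEquiv f), ← Nat.card_prod]
  exact Nat.card_congr ((Equiv.sigmaCongrRight fun v => ((σ v).subtypeEquiv (hσ v)).symm).trans
    (Equiv.sigmaEquivProd C _))

variable {G : Type*} [Group G]

/-- The coset of the line of `y`. -/
def lineCoset (J : Set G) (y : G) : Set G := {t | t = y ∨ ∃ s ∈ J, Commute s y ∧ t = y * s}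

theorem mem_lineCoset_self (J : Set G) (y : G) : y ∈ lineCoset J y := Or.inl rfl

variable {J Y : Set G}

theorem SigmaData.false_of_index_two [Finite G] (h : SigmaData J Y) (hY : ∀ k ∈ Y, ∀ g : G, g * k * g⁻¹ ∈ Y)
    {y : G} (hy : y ∈ Y) (htwo : ∃ u ∈ J, ∃ v ∈ J, u ≠ v ∧ Commute u y ∧ Commute v y)
    (hline : ∀ k ∈ Y, Commute k y → (∀ u ∈ J, Commute u y → Commute u k) → k ∈ lineCoset J y)
    {R S : Subgroup G} (hS : IsPGroup 2 S) (hSi : Odd S.index) (hRS : R ≤ S) (hidx : R.relIndex S = 2)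
    (hRA : ∀ r ∈ R, r * y * r⁻¹ ∈ lineCoset J y)
    (hRE : ∀ r ∈ R, ∀ u ∈ J, Commute u y → Commute r u)
    (hRmax : ∀ P : Subgroup G, IsPGroup 2 P → R ≤ P → (∀ g ∈ P, g * y * g⁻¹ ∈ lineCoset J y) → P ≤ R) :
    False := by
  classical
  haveI : Fact (Nat.Prime 2) := ⟨Nat.prime_two⟩
  have hyo := h.invol_Y y hy
  have hyy := invol_mul_self hyo
  have hyi := invol_inv hyo
  set Z := lineCoset J y with hZ
  -- the group of the line
  let E : Subgroup G :=
    { carrier := {s | (s ∈ J ∧ Commute s y) ∨ s = 1}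
      one_mem' := Or.inr rfl
      inv_mem' := by
        rintro s (⟨hs, hsy⟩ | rfl)
        · rw [invol_inv (h.invol_J s hs)]; exact Or.inl ⟨hs, hsy⟩
        · exact Or.inr inv_one
      mul_mem' := by
        rintro s t (⟨hs, hsy⟩ | rfl) (⟨ht, hty⟩ | rfl)
        · rcases eq_or_ne s t with rfl | hne
          · exact Or.inr (invol_mul_self (h.invol_J s hs))
          · exact Or.inl ⟨h.mul_mem s hs t ht hne (h.comm_of_fix y hy s hs t ht hsy hty),
              hsy.mul_left hty⟩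
        · rw [mul_one]; exact Or.inl ⟨hs, hsy⟩
        · rw [one_mul]; exact Or.inl ⟨ht, hty⟩
        · exact Or.inr (one_mul 1) }
  have hEy : ∀ s ∈ E, Commute s y := fun s hs => hs.elim (·.2) fun e => e ▸ Commute.one_left y
  have hEc : ∀ s ∈ E, ∀ t ∈ E, Commute s t := by
    rintro s (⟨hs, hsy⟩ | rfl) t (⟨ht, hty⟩ | rfl)
    · exact h.comm_of_fix y hy s hs t ht hsy hty
    · exact Commute.one_right _
    · exact Commute.one_left _
    · exact Commute.one_left _
  have hEsq : ∀ s ∈ E, s * s = 1 := by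
    rintro s (⟨hs, -⟩ | rfl)
    · exact invol_mul_self (h.invol_J s hs)
    · exact one_mul 1
  have hRs : ∀ r ∈ R, ∀ s ∈ E, Commute r s := fun r hr s hs =>
    hs.elim (fun hs => hRE r hr s hs.1 hs.2) fun e => e ▸ Commute.one_right r
  have hZmem : ∀ t : G, t ∈ Z ↔ ∃ s ∈ E, t = y * s := by
    intro t
    constructor
    · rintro (rfl | ⟨s, hs, hsy, rfl⟩)
      exacts [⟨1, E.one_mem, (mul_one _).symm⟩, ⟨s, Or.inl ⟨hs, hsy⟩, rfl⟩]
    · rintro ⟨s, ⟨hs, hsy⟩ | hs, rfl⟩
      exacts [Or.inr ⟨s, hs, hsy, rfl⟩, Or.inl (by rw [hs, mul_one])]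
  -- conjugation fixing the coset fixes the line
  have hconjE : ∀ g : G, g * y * g⁻¹ ∈ Z → ∀ s ∈ E, g * s * g⁻¹ ∈ E := by
    rintro g hg s (⟨hs, hsy⟩ | rfl)
    · have h1 : Commute (g * s * g⁻¹) (g * y * g⁻¹) := Commute.map hsy (MulAut.conj g).toMonoidHom
      refine Or.inl ⟨h.conj_J s hs g, ?_⟩
      rcases hg with hg | ⟨u, hu, huy, hg⟩ <;> rw [hg] at h1
      exacts [h1, (h.commute_mul_iff hy hu huy (h.conj_J s hs g)).1 h1]
    · exact Or.inr (by group)
  have hmulA : ∀ a b : G, a * y * a⁻¹ ∈ Z → b * y * b⁻¹ ∈ Z → a * b * y * (a * b)⁻¹ ∈ Z := by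
    intro a b ha hb
    obtain ⟨s, hs, hbs⟩ := (hZmem _).1 hb
    obtain ⟨t, ht, hat⟩ := (hZmem _).1 ha
    refine (hZmem _).2 ⟨t * (a * s * a⁻¹), E.mul_mem ht (hconjE a ha s hs), ?_⟩
    calc a * b * y * (a * b)⁻¹ = a * (b * y * b⁻¹) * a⁻¹ := by group
      _ = (a * y * a⁻¹) * (a * s * a⁻¹) := by rw [hbs]; group
      _ = _ := by rw [hat, mul_assoc]
  let A : Submonoid G :=
    { carrier := {g | g * y * g⁻¹ ∈ Z}
      one_mem' := by simpa using mem_lineCoset_self J y
      mul_mem' := fun {a b} ha hb => hmulA a b ha hb }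
  let NA : Subgroup G :=
    { toSubmonoid := A
      inv_mem' := fun {g} hg => by
        have e : g⁻¹ = g ^ (orderOf g - 1) := by
          refine inv_eq_of_mul_eq_one_right ?_
          rw [← pow_succ', Nat.sub_add_cancel (orderOf_pos g), pow_orderOf_eq_one]
        exact e ▸ A.pow_mem hg _ }
  have hNA : ∀ g : G, g ∈ NA ↔ g * y * g⁻¹ ∈ Z := fun g => Iff.rfl
  -- `R` contains `y` and the line
  let B : Subgroup G :=
    { carrier := {g | g ∈ E ∨ y * g ∈ E}
      one_mem' := Or.inl E.one_mem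
      inv_mem' := by
        rintro g (hg | hg)
        · exact Or.inl (E.inv_mem hg)
        · refine Or.inr ?_
          have h1 : g⁻¹ = (y * g)⁻¹ * y := by group
          rw [h1, ← mul_assoc, ← (hEy _ (E.inv_mem hg)).eq, mul_assoc, hyy, mul_one]
          exact E.inv_mem hg
      mul_mem' := by
        rintro g g' (hg | hg) (hg' | hg')
        · exact Or.inl (E.mul_mem hg hg')
        · refine Or.inr ?_
          rw [← mul_assoc, ← (hEy g hg).eq, mul_assoc]
          exact E.mul_mem hg hg'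
        · exact Or.inr (by rw [← mul_assoc]; exact E.mul_mem hg hg')
        · refine Or.inl ?_
          have h2 : y * (y * g) = g := by rw [← mul_assoc, hyy, one_mul]
          have h1 : g * g' = (y * g) * (y * g') := by
            conv_lhs => rw [← h2, ← (hEy _ hg).eq, mul_assoc]
          rw [h1]
          exact E.mul_mem hg hg' }
  have hB2 : IsPGroup 2 B := fun g => ⟨1, Subtype.ext (by
    show (g : G) ^ 2 ^ 1 = 1
    rw [pow_one, pow_two]
    rcases g.2 with hg | hg
    · exact hEsq _ hg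
    · have h2 : y * (y * (g : G)) = g := by rw [← mul_assoc, hyy, one_mul]
      calc (g : G) * g = (y * g) * (y * g) := by
            conv_lhs => arg 1; rw [← h2, ← (hEy _ hg).eq]
            rw [mul_assoc]
        _ = 1 := hEsq _ hg)⟩
  have hBA : ∀ g ∈ B, g ∈ NA := by
    rintro g (hg | hg) <;> rw [hNA]
    · rw [(hEy g hg).eq, mul_inv_cancel_right]; exact mem_lineCoset_self J y
    · have h2 : g = (y * g) * y := by rw [(hEy _ hg).eq, ← mul_assoc, hyy, one_mul]
      rw [h2, show y * g * y * y * (y * g * y)⁻¹ = y * g * y * (y * g)⁻¹ by group, (hEy _ hg).eq,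
        mul_inv_cancel_right]
      exact mem_lineCoset_self J y
  have hyB : y ∈ B := Or.inr (by rw [hyy]; exact E.one_mem)
  have hR2 : IsPGroup 2 R := hS.to_le hRS
  have hRB : R ≤ normalizer (B : Set G) := by
    intro r hr
    refine mem_normalizer_fintype fun g hg => ?_
    have hcs : ∀ s ∈ E, r * s * r⁻¹ = s := fun s hs => by rw [(hRs r hr s hs).eq, mul_inv_cancel_right]
    have hyr : r * y * r⁻¹ ∈ B := by
      obtain ⟨s, hs, e⟩ := (hZmem _).1 (hRA r hr)
      rw [e]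
      exact Or.inr (by rw [← mul_assoc, hyy, one_mul]; exact hs)
    rcases hg with hg | hg
    · exact Or.inl (by rw [hcs g hg]; exact hg)
    · rw [show r * g * r⁻¹ = (r * y⁻¹ * r⁻¹) * (r * (y * g) * r⁻¹) by group, hyi, hcs _ hg]
      exact B.mul_mem hyr (Or.inl hg)
  have hyR : y ∈ R := hRmax (R ⊔ B) (hR2.to_sup_of_normal_right' hB2 hRB) le_sup_left
    (fun g hg => (hNA g).1 ((sup_le (fun r hr => (hNA r).2 (hRA r hr)) hBA : R ⊔ B ≤ NA) hg))
    (mem_sup_right hyB)
  set N := normalizer (R : Set G) with hN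
  have hconjR : ∀ g ∈ N, ∀ r ∈ R, g * r * g⁻¹ ∈ R := fun g hg r hr =>
    (mem_normalizer_iff.1 hg r).1 hr
  have hgE : ∀ g ∈ N, ∀ s ∈ E, g * s * g⁻¹ ∈ E := by
    rintro g hg s (⟨hs, hsy⟩ | rfl)
    · refine Or.inl ⟨h.conj_J s hs g, ?_⟩
      have h1 : Commute s (g⁻¹ * y * g⁻¹⁻¹) :=
        (hRE _ (hconjR _ (inv_mem hg) y hyR) s hs hsy).symm
      have h2 := Commute.map h1 (MulAut.conj g).toMonoidHom
      simp only [MulEquiv.coe_toMonoidHom, MulAut.conj_apply] at h2
      rwa [show g * (g⁻¹ * y * g⁻¹⁻¹) * g⁻¹ = y by group] at h2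
    · exact Or.inr (by group)
  set H := NA.subgroupOf N with hH
  -- the commutator with `y`
  let c : N → G := fun g =>
    y * (((g : G) * y * (g : G)⁻¹) * y * ((g : G) * y * (g : G)⁻¹)⁻¹)
  have hcE : ∀ g : N, c g ∈ E := by
    intro g
    obtain ⟨s, hs, e⟩ := (hZmem _).1 (hRA _ (hconjR _ g.2 y hyR))
    show y * _ ∈ E
    rw [e, ← mul_assoc, hyy, one_mul]
    exact hs
  have hc1 : ∀ g : N, c g = 1 → g ∈ H := by
    intro g hg
    set r := (g : G) * y * (g : G)⁻¹ with hr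
    have hrR : r ∈ R := hconjR _ g.2 y hyR
    have h1 : r * y * r⁻¹ = y := by
      have := eq_inv_of_mul_eq_one_right (show y * (r * y * r⁻¹) = 1 from hg)
      rw [this, hyi]
    exact (hNA _).2 (hline r (hY y hy _) (mul_inv_eq_iff_eq_mul.1 h1) fun u hu huy =>
      (hRE r hrR u hu huy).symm)
  have hH0 : ∀ k : N, k ∈ H → ∃ e ∈ E, (k : G) * y * (k : G)⁻¹ = y * e := fun k hk =>
    (hZmem _).1 ((hNA _).1 hk)
  have hcR : ∀ g k : N, k ∈ H → c (g * k) = c g := by
    intro g k hk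
    obtain ⟨e, he, hke⟩ := hH0 k hk
    have he' := hgE g g.2 e he
    show y * _ = y * _
    congr 1
    set r := (g : G) * y * (g : G)⁻¹ with hr
    have hrk : ((g * k : N) : G) * y * ((g * k : N) : G)⁻¹ = r * ((g : G) * e * (g : G)⁻¹) := by
      calc ((g * k : N) : G) * y * ((g * k : N) : G)⁻¹
          = (g : G) * ((k : G) * y * (k : G)⁻¹) * (g : G)⁻¹ := by rw [Subgroup.coe_mul]; group
        _ = _ := by rw [hke, hr]; group
    set e' := (g : G) * e * (g : G)⁻¹ with he''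
    rw [hrk, show r * e' * y * (r * e')⁻¹ = r * (e' * y * e'⁻¹) * r⁻¹ by group, (hEy _ he').eq,
      mul_inv_cancel_right]
  have hcL : ∀ g k : N, k ∈ H → c (k * g) = (k : G) * c g * (k : G)⁻¹ := by
    intro g k hk
    obtain ⟨e, he, hke⟩ := hH0 k hk
    set r := ((k * g : N) : G) * y * ((k * g : N) : G)⁻¹ with hr
    have hrR : r ∈ R := hconjR _ (k * g).2 y hyR
    have h1 : (k : G) * c g * (k : G)⁻¹ =
        ((k : G) * y * (k : G)⁻¹) * (r * ((k : G) * y * (k : G)⁻¹) * r⁻¹) := by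
      show (k : G) * (y * ((g : G) * y * (g : G)⁻¹ * y * ((g : G) * y * (g : G)⁻¹)⁻¹)) * (k : G)⁻¹ = _
      rw [hr, Subgroup.coe_mul]; group
    rw [h1, hke]
    show y * (r * y * r⁻¹) = _
    obtain ⟨s, hs, hrs⟩ := (hZmem _).1 (hRA r hrR)
    have h2 : r * (y * e) * r⁻¹ = y * s * e := by
      rw [show r * (y * e) * r⁻¹ = (r * y * r⁻¹) * (r * e * r⁻¹) by group, hrs, (hRs r hrR e he).eq,
        mul_inv_cancel_right]
    rw [h2, hrs, show y * e * (y * s * e) = y * (e * y) * (s * e) by group, (hEy e he).eq,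
      ← mul_assoc y y e, hyy, one_mul, (hEc s hs e he).eq, ← mul_assoc e e s, hEsq e he, one_mul,
      ← mul_assoc, hyy, one_mul]
  let cq : N ⧸ H → G := Quotient.lift c fun a b hab => by
    obtain ⟨k, hk, rfl⟩ : ∃ k ∈ H, b = a * k :=
      ⟨a⁻¹ * b, QuotientGroup.leftRel_apply.1 hab, (mul_inv_cancel_left a b).symm⟩
    exact (hcR a k hk).symm
  have hcqE : ∀ q, cq q ∈ E := fun q => by
    obtain ⟨g, rfl⟩ := QuotientGroup.mk_surjective q
    exact hcE g
  have hcq1 : ∀ q : N ⧸ H, q ≠ ((1 : N) : N ⧸ H) → cq q ≠ 1 := by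
    intro q hq e
    obtain ⟨g, rfl⟩ := QuotientGroup.mk_surjective q
    exact hq (QuotientGroup.eq.2 (by rw [mul_one]; exact inv_mem (hc1 g e)))
  -- Frattini: transitivity on the line
  have htrH : ∀ u v : {s : G // s ∈ J ∧ Commute s y}, ∃ k : N, k ∈ H ∧ (k : G) * u.1 * (k : G)⁻¹ = v.1 := by
    rintro ⟨u, hu, huy⟩ ⟨v, hv, hvy⟩
    obtain ⟨d, hdy, hduv⟩ := h.trans_fix y hy u hu v hv huy hvy
    have hdA : d ∈ NA := (hNA d).2 (by rw [hdy.eq, mul_inv_cancel_right]; exact mem_lineCoset_self J y)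
    set N0 := NA ⊓ centralizer (E : Set G) with hN0
    have hRN0 : R ≤ N0 := fun r hr =>
      ⟨(hNA r).2 (hRA r hr), mem_centralizer_iff.2 fun s hs => (hRs r hr s hs).symm.eq⟩
    let P : Sylow 2 N0 :=
      { toSubgroup := R.subgroupOf N0
        isPGroup' := hR2.comap_of_injective N0.subtype N0.subtype_injective
        is_maximal' := fun {Q} hQ hle => by
          refine le_antisymm (fun g hg => ?_) hle
          refine hRmax (Q.map N0.subtype) (hQ.map N0.subtype)
            (fun r hr => ⟨⟨r, hRN0 hr⟩, hle hr, rfl⟩) ?_ ⟨g, hg, rfl⟩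
          rintro _ ⟨x, -, rfl⟩
          exact (hNA _).1 x.2.1 }
    have hdR : ∀ x ∈ R.map (MulAut.conj d).toMonoidHom, x ∈ N0 := by
      rintro _ ⟨r, hr, rfl⟩
      show d * r * d⁻¹ ∈ N0
      refine ⟨NA.mul_mem (NA.mul_mem hdA ((hNA r).2 (hRA r hr))) (NA.inv_mem hdA),
        mem_centralizer_iff.2 fun s hs => ?_⟩
      have h1 : Commute r (d⁻¹ * s * d⁻¹⁻¹) :=
        hRs r hr _ (hconjE d⁻¹ ((hNA _).1 (NA.inv_mem hdA)) s hs)
      have h2 := Commute.map h1 (MulAut.conj d).toMonoidHom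
      simp only [MulEquiv.coe_toMonoidHom, MulAut.conj_apply] at h2
      rw [show d * (d⁻¹ * s * d⁻¹⁻¹) * d⁻¹ = s by group] at h2
      exact h2.symm.eq
    obtain ⟨n, hn⟩ := CfsgLib.Invol.exists_conj_le_sylow
      (Q := (R.map (MulAut.conj d).toMonoidHom).subgroupOf N0)
      ((hR2.map _).comap_of_injective N0.subtype N0.subtype_injective) P
    have hnd : (n : G) * d ∈ N := by
      refine mem_normalizer_fintype fun r hr => ?_
      have h1 : d * r * d⁻¹ ∈ R.map (MulAut.conj d).toMonoidHom := ⟨r, hr, rfl⟩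
      have h2 : (n : G) * (d * r * d⁻¹) * (n : G)⁻¹ ∈ R :=
        hn ⟨d * r * d⁻¹, hdR _ h1⟩ h1
      rwa [show (n : G) * d * r * ((n : G) * d)⁻¹ = (n : G) * (d * r * d⁻¹) * (n : G)⁻¹ by group]
    refine ⟨⟨(n : G) * d, hnd⟩, NA.mul_mem n.2.1 hdA, ?_⟩
    show (n : G) * d * u * ((n : G) * d)⁻¹ = v
    rw [show (n : G) * d * u * ((n : G) * d)⁻¹ = (n : G) * (d * u * d⁻¹) * (n : G)⁻¹ by group, hduv,
      ← mem_centralizer_iff.1 n.2.2 v (Or.inl ⟨hv, hvy⟩), mul_inv_cancel_right]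
  -- twice an odd number of cosets
  have hSN : S ≤ N := by
    haveI : (R.subgroupOf S).Normal := normal_of_index_eq_two hidx
    exact (normal_subgroupOf_iff_le_normalizer hRS).1 inferInstance
  obtain ⟨x, hxS, hxR⟩ : ∃ x ∈ S, x ∉ R := by
    by_contra hh
    push Not at hh
    rw [relIndex_eq_one.2 hh] at hidx
    omega
  set RN := R.subgroupOf N with hRN
  have hRNH : RN ≤ H := fun r hr => (hNA _).2 (hRA _ hr)
  haveI : RN.Normal := (normal_subgroupOf_iff_le_normalizer le_normalizer).2 le_rfl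
  set NN := N ⊓ NA with hNN
  have hHodd : Odd (RN.relIndex H) := by
    have e : RN.relIndex H = R.relIndex NN := by
      rw [hRN, hH, ← inf_subgroupOf_left NA N, relIndex_subgroupOf inf_le_left]
    rw [e, Nat.odd_iff, ← Nat.two_dvd_ne_zero]
    let P : Sylow 2 NN :=
      { toSubgroup := R.subgroupOf NN
        isPGroup' := hR2.comap_of_injective NN.subtype NN.subtype_injective
        is_maximal' := fun {Q} hQ hle => by
          refine le_antisymm (fun g hg => ?_) hle
          refine hRmax (Q.map NN.subtype) (hQ.map NN.subtype)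
            (fun r hr => ⟨⟨r, ⟨le_normalizer hr, (hNA r).2 (hRA r hr)⟩⟩, hle hr, rfl⟩) ?_ ⟨g, hg, rfl⟩
          rintro _ ⟨x, -, rfl⟩
          exact (hNA _).1 x.2.2 }
    exact P.not_dvd_index
  have hcard : Nat.card (N ⧸ H) % 4 = 2 := by
    have h1 : RN.index = 2 * S.relIndex N := by
      rw [show RN.index = R.relIndex N from rfl, ← relIndex_mul_relIndex R S N hRS hSN, hidx]
    have h2 : Odd (S.relIndex N) := hSi.of_dvd_nat ⟨N.index, (relIndex_mul_index hSN).symm⟩
    rw [← relIndex_mul_index hRNH] at h1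
    show H.index % 4 = 2
    obtain ⟨a, ha⟩ := hHodd
    obtain ⟨b, hb⟩ := h2
    rw [ha, hb] at h1
    rcases Nat.even_or_odd H.index with ⟨i, hi⟩ | hodd
    · have h3 : (2 * a + 1) * i = 2 * b + 1 :=
        Nat.eq_of_mul_eq_mul_left two_pos (by rw [← h1, hi]; ring)
      have h4 : Odd ((2 * a + 1) * i) := h3 ▸ odd_two_mul_add_one b
      obtain ⟨c, hc⟩ := (Nat.odd_mul.1 h4).2
      omega
    · have h4 : Odd ((2 * a + 1) * H.index) := (odd_two_mul_add_one a).mul hodd
      rw [h1, Nat.odd_iff] at h4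
      omega
  letI : Fintype (N ⧸ H) := Fintype.ofFinite _
  set χ : N →* ℤˣ := Equiv.Perm.sign.comp (MulAction.toPermHom N (N ⧸ H)) with hχ
  have hRtriv : ∀ r : N, r ∈ RN → MulAction.toPermHom N (N ⧸ H) r = 1 := by
    intro r hr
    refine Equiv.ext fun q => ?_
    obtain ⟨g, rfl⟩ := QuotientGroup.mk_surjective q
    show r • (g : N ⧸ H) = (g : N ⧸ H)
    rw [smul_coe_eq_iff]
    have := (inferInstance : RN.Normal).conj_mem r hr g⁻¹
    rw [inv_inv] at this
    exact hRNH this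
  have hχH : ∀ k : N, k ∈ H → χ k = 1 := by
    intro k hk
    haveI : (RN.subgroupOf H).Normal := inferInstance
    have h1 : (⟨k, hk⟩ : H) ^ (RN.subgroupOf H).index ∈ RN.subgroupOf H := pow_index_mem _ _
    have h2 : χ k ^ RN.relIndex H = 1 := by
      rw [← map_pow]
      exact (congrArg Equiv.Perm.sign (hRtriv _ h1)).trans (map_one _)
    rcases Int.units_eq_one_or (χ k) with e | e
    · exact e
    · rw [e, Odd.neg_one_pow hHodd] at h2
      exact absurd h2 (by decide)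
  let xN : N := ⟨x, hSN hxS⟩
  have hxfree : ∀ q : N ⧸ H, xN • q ≠ q := by
    intro q hq
    obtain ⟨g, rfl⟩ := QuotientGroup.mk_surjective q
    rw [smul_coe_eq_iff] at hq
    have hq' : (g : G)⁻¹ * x * g ∈ NA := hq
    have hle : S.map (MulAut.conj (g : G)⁻¹).toMonoidHom ≤ NA := by
      rintro _ ⟨s, hs, rfl⟩
      show (g : G)⁻¹ * s * (g : G)⁻¹⁻¹ ∈ NA
      rw [inv_inv]
      have hRg : ∀ r ∈ R, (g : G)⁻¹ * r * g ∈ NA := fun r hr => by
        have := hconjR _ (inv_mem g.2) r hr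
        rw [inv_inv] at this
        exact (hNA _).2 (hRA _ this)
      by_cases hsR : s ∈ R
      · exact hRg s hsR
      · have hmul : s * x ∈ R :=
          (mul_mem_iff_of_index_two hidx (a := (⟨s, hs⟩ : S)) (b := ⟨x, hxS⟩)).2
            (iff_of_false hsR hxR)
        rw [show (g : G)⁻¹ * s * g = ((g : G)⁻¹ * (s * x) * g) * ((g : G)⁻¹ * x * g)⁻¹ by group]
        exact NA.mul_mem (hRg _ hmul) (NA.inv_mem hq')
    have hxg := hRmax (S.map (MulAut.conj (g : G)⁻¹).toMonoidHom) (hS.map _)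
      (fun r hr => ⟨(g : G) * r * (g : G)⁻¹, hRS (hconjR _ g.2 r hr), by
        show (g : G)⁻¹ * ((g : G) * r * (g : G)⁻¹) * (g : G)⁻¹⁻¹ = r
        group⟩) (fun k hk => (hNA k).1 (hle hk)) ⟨x, hxS, rfl⟩
    have h3 := hconjR _ g.2 _ hxg
    rw [show (g : G) * ((MulAut.conj (g : G)⁻¹).toMonoidHom x) * (g : G)⁻¹ = x by
      show (g : G) * ((g : G)⁻¹ * x * (g : G)⁻¹⁻¹) * (g : G)⁻¹ = x
      group] at h3
    exact hxR h3
  have hχx : χ xN = -1 := by
    refine Crit.sign_of_free_invol _ ?_ hxfree (by rw [← Nat.card_eq_fintype_card]; exact hcard)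
    rw [← map_mul]
    refine hRtriv _ ?_
    exact mul_self_mem_of_index_two hidx ⟨x, hxS⟩
  -- the two blocks
  let blk : N ⧸ H → ℤˣ := Quotient.lift (fun g => χ g) fun a b hab => by
    obtain ⟨k, hk, rfl⟩ : ∃ k ∈ H, b = a * k :=
      ⟨a⁻¹ * b, QuotientGroup.leftRel_apply.1 hab, (mul_inv_cancel_left a b).symm⟩
    show χ a = χ (a * k)
    rw [map_mul, hχH k hk, mul_one]
  have hblk : ∀ (g : N) (q : N ⧸ H), blk (g • q) = χ g * blk q := fun g q => by
    obtain ⟨a, rfl⟩ := QuotientGroup.mk_surjective q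
    exact map_mul χ g a
  set o : N ⧸ H := ((1 : N) : N ⧸ H) with ho
  have hko : ∀ k : N, k ∈ H → k • o = o := fun k hk => by
    rw [ho, smul_coe_eq_iff]; simpa using hk
  have hblko : blk o = 1 := map_one χ
  let C := {s : G // s ∈ J ∧ Commute s y}
  have hmap : ∀ q : N ⧸ H, q ≠ o → cq q ∈ J ∧ Commute (cq q) y := fun q hq =>
    (hcqE q).resolve_right (hcq1 q hq)
  have hdvd : ∀ P : N ⧸ H → Prop, (∀ q, P q → q ≠ o) → (∀ k : N, k ∈ H → ∀ q, P q → P (k • q)) →
      Nat.card C ∣ Nat.card {q // P q} := by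
    intro P hPo hPk
    refine dvd_card_of_transitive (fun q : {q // P q} => (⟨cq q.1, hmap q.1 (hPo q.1 q.2)⟩ : C))
      fun u v => ?_
    obtain ⟨k, hk, hkuv⟩ := htrH u v
    refine ⟨(MulAction.toPerm k).subtypeEquiv fun q => ⟨hPk k hk q, fun hq => by
      have := hPk k⁻¹ (inv_mem hk) _ hq
      rwa [MulAction.toPerm_apply, inv_smul_smul] at this⟩, fun q => ?_⟩
    obtain ⟨g, hg⟩ := QuotientGroup.mk_surjective q.1
    have e : cq (k • q.1) = (k : G) * cq q.1 * (k : G)⁻¹ := by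
      rw [← hg]; exact hcL g k hk
    rw [Subtype.ext_iff, Subtype.ext_iff]
    show cq q.1 = u.1 ↔ cq (k • q.1) = v.1
    rw [e, ← hkuv]
    exact ⟨fun e => by rw [e], fun e => mul_left_cancel (mul_right_cancel e)⟩
  have hPos : Nat.card {q : N ⧸ H // blk q = 1} = Nat.card {q : N ⧸ H // blk q = -1} :=
    Nat.card_congr ((MulAction.toPerm xN).subtypeEquiv fun q => by
      rw [MulAction.toPerm_apply, hblk, hχx]
      rcases Int.units_eq_one_or (blk q) with e | e <;> rw [e] <;> decide)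
  have hpred : Nat.card {q : N ⧸ H // blk q = 1} = Nat.card {q : N ⧸ H // blk q = 1 ∧ q ≠ o} + 1 := by
    rw [← Nat.card_congr (Equiv.optionSubtypeNe (⟨o, hblko⟩ : {q : N ⧸ H // blk q = 1})),
      Finite.card_option]
    congr 1
    exact Nat.card_congr ⟨fun q => ⟨q.1.1, q.1.2, fun e => q.2 (Subtype.ext e)⟩,
      fun q => ⟨⟨q.1, q.2.1⟩, fun e => q.2.2 (congrArg Subtype.val e)⟩, fun _ => rfl, fun _ => rfl⟩
  have d1 := hdvd (fun q => blk q = 1 ∧ q ≠ o) (fun q hq => hq.2) fun k hk q hq =>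
    ⟨by rw [hblk, hχH k hk, one_mul, hq.1],
      fun e => hq.2 (smul_left_cancel k (e.trans (hko k hk).symm))⟩
  have d2 := hdvd (fun q => blk q = -1)
    (fun q hq e => by rw [e, hblko] at hq; exact absurd hq (by decide))
    fun k hk q hq => by rw [hblk, hχH k hk, one_mul, hq]
  rw [← hPos, hpred] at d2
  have hC1 := Nat.le_of_dvd one_pos ((Nat.dvd_add_right d1).1 d2)
  obtain ⟨u, hu, v, hv, huv, huy, hvy⟩ := htwo
  haveI : Nontrivial C := ⟨⟨u, hu, huy⟩, ⟨v, hv, hvy⟩, fun e => huv (congrArg Subtype.val e)⟩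
  have : 1 < Nat.card C := Finite.one_lt_card
  omega

end CfsgLib.SECrit
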