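import Cfsg.Agent.Lib.Invol.SECriterion.PureE
import Cfsg.Agent.Lib.Invol.SECriterion.SmallType.Klein
import Cfsg.Agent.Lib.Invol.SECriterion.TWeak.Pair
import Cfsg.Agent.Lib.Invol.SECriterion.SmallType.NoIndexTwo

/-!
# The strong embedding criterion: a line determines the coset

`y` and `k` are commuting bad involutions at `p`, and `k` centralizes the members at `p` commuting with
`y`.  If no bad involution at `p` commutes with more members than `y` and some member does not commute
with `y`, then `k` is `y` or the product of `y` with one of those members: otherwise the four group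
formula on the members at `p`, under the odd core of a two point stabilizer, gives all members.
Hence the stabilizer of the coset has no index two in the sense of `SigmaData.false_of_index_two`.
-/

set_option autoImplicit false
set_option linter.style.haveILetI false

namespace CfsgLib.SECrit

open CfsgLib.Invol Subgroup TWeak

variable {G : Type*} [Group G] [Finite G] {M : Subgroup G} {z : G}

/-- The members at `p` commuting with `x`. -/
abbrev MemComm (z x : G) (p : G ⧸ M) : Type _ := {u : G // IsConj z u ∧ u • p = p ∧ Commute u x}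

/-- An involution `y` moving `a` commutes with a swap centralizing an involution `k` that commutes with
`y` and fixes `a`. -/
theorem Crit.exists_swap_commuting_pair (h : Crit M z) {y k : G} (hy : orderOf y = 2)
    (hk : orderOf k = 2) (hyk : Commute y k) {a : G ⧸ M} (hka : k • a = a) (hya : y • a ≠ a) :
    ∃ g : G, IsConj z g ∧ g • a = y • a ∧ Commute y g ∧ Commute k g := by
  obtain ⟨d, hd, hda, hkd⟩ := h.exists_commuting_invol hk hka
  have he : IsConj z (y * d * y⁻¹) := hd.trans (isConj_iff.2 ⟨y, rfl⟩)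
  have hea : (y * d * y⁻¹) • (y • a) = y • a := by
    rw [smul_smul, inv_mul_cancel_right, mul_smul, hda]
  obtain ⟨g, hg, hge⟩ := h.exists_midpoint hd he hda hea hya.symm
  have hga : g • a = y • a := h.smul_eq_of_conj he hge hda hea
  refine ⟨g, hg, hga, ?_, h.commute_midpoint hd he hg hda hea hya.symm hge hkd
    ((hyk.symm.mul_right hkd).mul_right hyk.symm.inv_right)⟩
  have hgo := h.orderOf_conj hg
  have hgb : g • (y • a) ≠ y • a := by
    rw [← hga, smul_smul, invol_mul_self hgo, one_smul, hga]; exact hya.symm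
  have hgd : g * (y * d * y⁻¹) * g⁻¹ = d := by
    rw [← hge, invol_inv hgo]
    calc g * (g * d * g) * g = (g * g) * d * (g * g) := by group
      _ = d := by rw [invol_mul_self hgo, one_mul, mul_one]
  have heq : g * (y * d * y⁻¹) * g⁻¹ = (y * g * y⁻¹) * (y * d * y⁻¹) * (y * g * y⁻¹)⁻¹ := by
    have e2 : (y * g * y⁻¹) * (y * d * y⁻¹) * (y * g * y⁻¹)⁻¹ = y * (g * d * g⁻¹) * y⁻¹ := by group
    rw [hgd, e2, hge, invol_inv hy]
    calc d = (y * y) * d * (y * y) := by rw [invol_mul_self hy, one_mul, mul_one]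
      _ = y * (y * d * y) * y := by group
  exact (mul_inv_eq_iff_eq_mul.1
    (h.midpoint_unique he hg (hg.trans (isConj_iff.2 ⟨y, rfl⟩)) hea hgb heq).symm)

/-- **The four group formula at a point.**  Commuting involutions `y` and `k` fixing `p` and another
point, `k` centralizing the members at `p` commuting with `y`, and none of `k`, `y * k` commuting with
more: then every member at `p` commutes with `y`. -/
theorem Crit.commute_of_klein (h : Crit M z) {y k : G} (hy : orderOf y = 2) (hk : orderOf k = 2)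
    (hyk : Commute y k) {p b : G ⧸ M} (hpb : p ≠ b) (hyp : y • p = p) (hyb : y • b = b)
    (hkp : k • p = p) (hkb : k • b = b)
    (hle : ∀ u : G, IsConj z u → u • p = p → Commute u y → Commute u k)
    (h1 : Nat.card (MemComm z k p) ≤ Nat.card (MemComm z y p))
    (h2 : Nat.card (MemComm z (y * k) p) ≤ Nat.card (MemComm z y p))
    {v : G} (hv : IsConj z v) (hvp : v • p = p) : Commute v y := by
  classical
  set U := pairU p b with hU
  have hUn : ∀ g : G, g • p = p → g • b = b → ∀ t ∈ U, g * t * g⁻¹ ∈ U := fun g hgp hgb t ht =>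
    (mem_normalizer_iff.1 (pairFix_le_normalizer (a := p) (b := b) ⟨hgp, hgb⟩) t).1 ht
  have hconj : ∀ (g : G) (d : DAt z p), g • p = p → IsConj z (g * d.1 * g⁻¹) ∧ (g * d.1 * g⁻¹) • p = p :=
    fun g d hgp => ⟨d.2.1.trans (isConj_iff.2 ⟨g, rfl⟩), by
      rw [mul_smul, mul_smul, inv_smul_eq_iff.2 hgp.symm, d.2.2, hgp]⟩
  letI : MulAction U (DAt z p) :=
    { smul := fun t d => ⟨(t : G) * d.1 * (t : G)⁻¹, hconj t d (pairU_le t.2).1⟩
      one_smul := fun d => Subtype.ext (show ((1 : U) : G) * d.1 * ((1 : U) : G)⁻¹ = d.1 by simp)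
      mul_smul := fun s t d => Subtype.ext (show ((s * t : U) : G) * d.1 * ((s * t : U) : G)⁻¹ =
        (s : G) * ((t : G) * d.1 * (t : G)⁻¹) * (s : G)⁻¹ by simp [mul_assoc]) }
  have htr : ∀ d d' : DAt z p, ∃ t : U, t • d = d' := fun d d' => by
    obtain ⟨r, hr, hrd⟩ := exists_pairU_conj h hpb d.2.1 d'.2.1 d.2.2 d'.2.2
    exact ⟨⟨r, hr⟩, Subtype.ext hrd⟩
  have hinv : ∀ g : G, orderOf g = 2 → ∀ t : G, g * (g * t * g⁻¹) * g⁻¹ = t := fun g hg t => by
    rw [invol_inv hg, show g * (g * t * g) * g = (g * g) * t * (g * g) by group, invol_mul_self hg,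
      one_mul, mul_one]
  let aut : ∀ g : G, orderOf g = 2 → g • p = p → g • b = b → (U ≃* U) := fun g hg hgp hgb =>
    { toFun := fun t => ⟨g * t * g⁻¹, hUn g hgp hgb t t.2⟩
      invFun := fun t => ⟨g * t * g⁻¹, hUn g hgp hgb t t.2⟩
      left_inv := fun t => Subtype.ext (hinv g hg t)
      right_inv := fun t => Subtype.ext (hinv g hg t)
      map_mul' := fun s t => Subtype.ext (show g * ((s : G) * t) * g⁻¹ = g * s * g⁻¹ * (g * t * g⁻¹) by group) }
  let per : ∀ g : G, g • p = p → DAt z p → DAt z p := fun g hgp d => ⟨g * d.1 * g⁻¹, hconj g d hgp⟩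
  have hper : ∀ (g : G) (hgp : g • p = p) (d : DAt z p), per g hgp d = d ↔ Commute d.1 g := fun g hgp d => by
    rw [Subtype.ext_iff]
    show g * d.1 * g⁻¹ = d.1 ↔ _
    rw [mul_inv_eq_iff_eq_mul]
    exact eq_comm
  have hcompat : ∀ (g : G) (hg : orderOf g = 2) (hgp : g • p = p) (hgb : g • b = b) (t : U) (d : DAt z p),
      per g hgp (t • d) = aut g hg hgp hgb t • per g hgp d := fun g hg hgp hgb t d => Subtype.ext (by
    show g * ((t : G) * d.1 * (t : G)⁻¹) * g⁻¹ =
      g * t * g⁻¹ * (g * d.1 * g⁻¹) * (g * t * g⁻¹)⁻¹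
    group)
  obtain ⟨d₀, hd₀, hd₀p, hyd₀⟩ := h.exists_commuting_invol hy hyp
  have hcard := Small.klein_card_set (odd_card_pairU p b) htr (aut y hy hyp hyb) (aut k hk hkp hkb)
    (fun t => Subtype.ext (hinv y hy t)) (fun t => Subtype.ext (hinv k hk t))
    (fun t => Subtype.ext (by
      show y * (k * (t : G) * k⁻¹) * y⁻¹ = k * (y * (t : G) * y⁻¹) * k⁻¹
      calc y * (k * (t : G) * k⁻¹) * y⁻¹ = (y * k) * t * (y * k)⁻¹ := by group
        _ = _ := by rw [hyk.eq]; group))
    (per y hyp) (per k hkp) (hcompat y hy hyp hyb) (hcompat k hk hkp hkb)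
    (fun d => Subtype.ext (by
      show y * (k * d.1 * k⁻¹) * y⁻¹ = k * (y * d.1 * y⁻¹) * k⁻¹
      calc y * (k * d.1 * k⁻¹) * y⁻¹ = (y * k) * d.1 * (y * k)⁻¹ := by group
        _ = _ := by rw [hyk.eq]; group))
    (j := (⟨d₀, hd₀, hd₀p⟩ : DAt z p)) ((hper y hyp _).2 hyd₀.symm)
    ((hper k hkp _).2 (hle d₀ hd₀ hd₀p hyd₀.symm))
  have emem : ∀ (g : G) (hgp : g • p = p),
      Nat.card (Small.Fixed (per g hgp)) = Nat.card (MemComm z g p) := fun g hgp =>
    Nat.card_congr
      { toFun := fun d => ⟨d.1.1, d.1.2.1, d.1.2.2, (hper g hgp d.1).1 d.2⟩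
        invFun := fun u => ⟨⟨u.1, u.2.1, u.2.2.1⟩, (hper g hgp _).2 u.2.2.2⟩
        left_inv := fun _ => rfl
        right_inv := fun _ => rfl }
  have eboth : Nat.card {d : DAt z p // per y hyp d = d ∧ per k hkp d = d} = Nat.card (MemComm z y p) := by
    rw [← emem y hyp]
    exact Nat.card_congr (Equiv.subtypeEquivRight fun d => ⟨fun hd => hd.1, fun hd =>
      ⟨hd, (hper k hkp d).2 (hle _ d.2.1 d.2.2 ((hper y hyp d).1 hd))⟩⟩)
  have hykp : (y * k) • p = p := by rw [mul_smul, hkp, hyp]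
  have e3 : Nat.card {d : DAt z p // per y hyp (per k hkp d) = d} = Nat.card (MemComm z (y * k) p) := by
    rw [← emem (y * k) hykp]
    refine Nat.card_congr (Equiv.subtypeEquivRight fun d => ?_)
    rw [show per y hyp (per k hkp d) = per (y * k) hykp d from Subtype.ext (by
      show y * (k * d.1 * k⁻¹) * y⁻¹ = y * k * d.1 * (y * k)⁻¹
      group)]
  rw [eboth, e3, emem y hyp, emem k hkp] at hcard
  haveI : Nonempty (MemComm z y p) := ⟨⟨d₀, hd₀, hd₀p, hyd₀.symm⟩⟩
  have ha : 0 < Nat.card (MemComm z y p) := Nat.card_pos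
  have hJ : Nat.card (DAt z p) ≤ Nat.card (MemComm z y p) := by
    refine Nat.le_of_mul_le_mul_right (c := Nat.card (MemComm z y p) ^ 2) ?_ (pow_pos ha 2)
    rw [hcard, mul_assoc, sq]
    exact Nat.mul_le_mul_left _ (Nat.mul_le_mul h1 h2)
  have hsurj := ((Nat.bijective_iff_injective_and_card
      (fun u : MemComm z y p => (⟨u.1, u.2.1, u.2.2.1⟩ : DAt z p))).2
    ⟨fun a b hab => Subtype.ext (congrArg (fun d : DAt z p => d.1) hab), le_antisymm
      (Nat.card_le_card_of_injective (fun u : MemComm z y p => (⟨u.1, u.2.1, u.2.2.1⟩ : DAt z p))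
        fun a b hab => Subtype.ext (congrArg (fun d : DAt z p => d.1) hab)) hJ⟩).2
  obtain ⟨⟨u, hu⟩, e⟩ := hsurj ⟨v, hv, hvp⟩
  obtain rfl : u = v := congrArg (fun d : DAt z p => d.1) e
  exact hu.2.2

variable (h : Setup M z) (hloc : ∀ x : G, IsBad M x → Local M z x)
include h hloc

/-- **A line determines the coset.** -/
theorem Setup.eq_or_exists_of_line {p : G ⧸ M} {y k : G} (hy : IsBad M y) (hyp : y • p = p)
    (hk : IsBad M k) (hkp : k • p = p) (hyk : Commute y k)
    (hle : ∀ u : G, IsConj z u → u • p = p → Commute u y → Commute u k)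
    (hcnt : ∀ x : G, IsBad M x → x • p = p → Nat.card (MemComm z x p) ≤ Nat.card (MemComm z y p))
    (hlt : ∃ v : G, IsConj z v ∧ v • p = p ∧ ¬ Commute v y) :
    k = y ∨ ∃ u : G, IsConj z u ∧ u • p = p ∧ Commute u y ∧ k = y * u := by
  obtain ⟨v, hv, hvp, hvy⟩ := hlt
  obtain ⟨a, hap, hka⟩ : ∃ a : G ⧸ M, a ≠ p ∧ k • a = a := by
    obtain ⟨-, r, s, hrs, hr, hs⟩ := hk
    by_cases hrp : r = p
    · exact ⟨s, fun e => hrs (hrp.trans e.symm), hs⟩
    · exact ⟨r, hrp, hr⟩
  -- a member `g` of the line (or `1`) with `y * g` fixing `a`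
  obtain ⟨y', hy', hy'p, hy'a, hy'k, hcomm, hy'y⟩ : ∃ y' : G, orderOf y' = 2 ∧ y' • p = p ∧ y' • a = a ∧
      Commute y' k ∧ (∀ u : G, IsConj z u → u • p = p → (Commute u y' ↔ Commute u y)) ∧
      (y' = y ∨ ∃ g : G, IsConj z g ∧ g • p = p ∧ Commute g y ∧ y' = y * g) := by
    by_cases hya : y • a = a
    · exact ⟨y, hy.1, hyp, hya, hyk, fun _ _ _ => Iff.rfl, Or.inl rfl⟩
    obtain ⟨g, hg, hga, hyg, hkg⟩ := h.crit.exists_swap_commuting_pair hy.1 hk.1 hyk hka hya
    obtain ⟨c, hc⟩ := h.crit.fix_exists hg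
    have hyc : y • c = c := h.crit.smul_of_commute hg hyg hc
    have hkc : k • c = c := h.crit.smul_of_commute hg hkg hc
    obtain rfl : c = p := by
      by_contra hcp
      have hykp : (y * k) • p = p := by rw [mul_smul, hkp, hyp]
      have hyk2 : orderOf (y * k) = 2 := invol_iff.2 ⟨by
          rw [hyk.symm.mul_mul_mul_comm, invol_mul_self hy.1, invol_mul_self hk.1, one_mul],
        fun e => hya (by rw [(eq_inv_of_mul_eq_one_left e).trans (invol_inv hk.1), hka])⟩
      exact hvy (h.crit.commute_of_klein hy.1 hk.1 hyk (Ne.symm hcp) hyp hyc hkp hkc hle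
        (hcnt k hk hkp) (hcnt _ ⟨hyk2, c, p, hcp, by rw [mul_smul, hkc, hyc], hykp⟩ hykp) hv hvp)
    have hgo := h.crit.orderOf_conj hg
    have hyy := invol_mul_self hy.1
    have hygp : (y * g) • c = c := by rw [mul_smul, hc, hyc]
    have hyga : (y * g) • a = a := by rw [mul_smul, hga, smul_smul, hyy, one_smul]
    have hbad : IsBad M (y * g) := ⟨invol_iff.2 ⟨by
        rw [hyg.symm.mul_mul_mul_comm, hyy, invol_mul_self hgo, one_mul], fun e => hap (by
        have e' : y = g := (eq_inv_of_mul_eq_one_left e).trans (invol_inv hgo)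
        obtain ⟨-, r, s, hrs, hr, hs⟩ := hy
        exact absurd (h.crit.fix_unique hg (e' ▸ hr) (e' ▸ hs)) hrs)⟩, c, a, hap.symm, hygp, hyga⟩
    refine ⟨y * g, hbad.1, hygp, hyga, hyk.mul_left hkg.symm, fun u hu hup => ⟨fun huy' => ?_, fun huy => ?_⟩,
      Or.inr ⟨g, hg, hc, hyg.symm, rfl⟩⟩
    · have hgy' : Commute (y * g) g := hyg.mul_left (Commute.refl g)
      have hug : Commute u g := (hloc _ hbad).comm_at u g c hu hg huy'.symm hgy' hup hc
      have := huy'.mul_right hug
      rwa [mul_assoc, invol_mul_self hgo, mul_one] at this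
    · exact huy.mul_right ((hloc y hy).comm_at u g c hu hg huy.symm hyg hup hc)
  by_cases hky' : k = y'
  · rcases hy'y with e | ⟨g, hg, hgp, hgy, e⟩
    · exact Or.inl (hky'.trans e)
    · exact Or.inr ⟨g, hg, hgp, hgy, hky'.trans e⟩
  have hcard : Nat.card (MemComm z y' p) = Nat.card (MemComm z y p) :=
    Nat.card_congr (Equiv.subtypeEquivRight fun u => and_congr_right fun hu =>
      and_congr_right fun hup => hcomm u hu hup)
  have hykp : (y' * k) • p = p := by rw [mul_smul, hkp, hy'p]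
  have hbad' : IsBad M (y' * k) := ⟨invol_iff.2 ⟨by
      rw [hy'k.symm.mul_mul_mul_comm, invol_mul_self hy', invol_mul_self hk.1, one_mul], fun e =>
      hky' ((eq_inv_of_mul_eq_one_left e).trans (invol_inv hk.1)).symm⟩, a, p, hap,
    by rw [mul_smul, hka, hy'a], hykp⟩
  exact absurd ((hcomm v hv hvp).1 (h.crit.commute_of_klein hy' hk.1 hy'k hap.symm hy'p hy'a hkp hka
    (fun u hu hup huy => hle u hu hup ((hcomm u hu hup).1 huy))
    (hcard ▸ hcnt k hk hkp) (hcard ▸ hcnt _ hbad' hykp) hv hvp)) hvy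

/-- **LEMMA B at a point.** A Sylow two-subgroup of the stabilizer of `p` does not have a subgroup of
index two that is maximal among the two-groups stabilizing the coset of the line of `y` and centralizes
the line. -/
theorem Setup.false_of_index_two {p : G ⧸ M} {y : MulAction.stabilizer G p} (hy : IsBad M (y : G))
    (htwo : ∃ u v : G, IsConj z u ∧ IsConj z v ∧ u • p = p ∧ v • p = p ∧ u ≠ v ∧ Commute u (y : G) ∧
      Commute v (y : G))
    (hcnt : ∀ x : G, IsBad M x → x • p = p → Nat.card (MemComm z x p) ≤ Nat.card (MemComm z (y : G) p))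
    (hlt : ∃ v : G, IsConj z v ∧ v • p = p ∧ ¬ Commute v (y : G))
    {R S : Subgroup (MulAction.stabilizer G p)} (hS : IsPGroup 2 S) (hSi : Odd S.index) (hRS : R ≤ S)
    (hidx : R.relIndex S = 2)
    (hRA : ∀ r ∈ R, r * y * r⁻¹ ∈ lineCoset {d : MulAction.stabilizer G p | IsConj z (d : G)} y)
    (hRE : ∀ r ∈ R, ∀ u : G, IsConj z u → u • p = p → Commute u (y : G) → Commute (r : G) u)
    (hRmax : ∀ P : Subgroup (MulAction.stabilizer G p), IsPGroup 2 P → R ≤ P →
      (∀ g ∈ P, g * y * g⁻¹ ∈ lineCoset {d : MulAction.stabilizer G p | IsConj z (d : G)} y) → P ≤ R) :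
    False := by
  have cc : ∀ {a b : MulAction.stabilizer G p}, Commute a b → Commute (a : G) b :=
    fun hh => congrArg Subtype.val hh
  refine (h.sigmaData hloc p).false_of_index_two (fun k hk g => ?_) hy ?_ ?_ hS hSi hRS hidx hRA
    (fun r hr u hu huy => Subtype.ext (hRE r hr u hu u.2 (cc huy)).eq) hRmax
  · obtain ⟨hko, a, b, hab, ha, hb⟩ := hk
    refine ⟨by simpa using invol_conj hko (g : G), (g : G) • a, (g : G) • b,
      fun e => hab (smul_left_cancel _ e), ?_, ?_⟩ <;>
    · simp only [coe_mul, coe_inv, mul_smul, inv_smul_smul]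
      first | rw [ha] | rw [hb]
  · obtain ⟨u, v, hu, hv, hup, hvp, hne, huy, hvy⟩ := htwo
    exact ⟨⟨u, hup⟩, hu, ⟨v, hvp⟩, hv, fun e => hne (congrArg Subtype.val e), Subtype.ext huy.eq,
      Subtype.ext hvy.eq⟩
  · intro k hk hky hline
    rcases h.eq_or_exists_of_line hloc hy y.2 hk k.2 (cc hky).symm
        (fun u hu hup huy => cc (hline ⟨u, hup⟩ hu (Subtype.ext huy.eq))) hcnt hlt with e | ⟨u, hu, hup, huy, e⟩
    · exact Or.inl (Subtype.ext e)
    · exact Or.inr ⟨⟨u, hup⟩, hu, Subtype.ext huy.eq, Subtype.ext e⟩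

end CfsgLib.SECrit
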