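import Cfsg.Agent.Lib.Invol.SECriterion.Closed
import Cfsg.Agent.Lib.Invol.SECriterion.SmallType.Swaps

/-!
# The strong embedding criterion, small type: the setting

The conjugates of `z` at a point, with the identity, form an elementary abelian group.  A bad
involution is one that is not a conjugate of `z`.  If it centralizes fewer members at one of its
points than the point has, the group at the point has the square order of the centralized part.
-/

set_option autoImplicit false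

namespace CfsgLib.SECrit.Small

open CfsgLib.Invol

variable {G : Type*} [Group G] {M : Subgroup G} {z : G}

/-- An involution which is not a conjugate of `z`. -/
structure Bad (z x : G) : Prop where
  invol : orderOf x = 2
  not_conj : ¬ IsConj z x

/-- The hypotheses of the residue. -/
structure Res [Finite G] (M : Subgroup G) (z : G) : Prop where
  crit : Crit M z
  free : ∀ c : G, orderOf c = 2 → ∃ a : G ⧸ M, c • a ≠ a
  gen : Subgroup.normalClosure ({z} : Set G) = ⊤
  comm : ∀ (d e : G) (p : G ⧸ M), IsConj z d → IsConj z e → d • p = p → e • p = p → Commute d e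
  mul : ∀ d e : G, IsConj z d → IsConj z e → Commute d e → d ≠ e → IsConj z (d * e)
  reg : ∀ x : G, Bad z x →
    (∃ d e : G, IsConj z d ∧ IsConj z e ∧ Commute x d ∧ Commute x e ∧ Commute d e ∧ d ≠ e) →
    ∀ p : G ⧸ M, x • p = p → ∃ P : Subgroup G, IsPGroup 2 P ∧ (∀ g ∈ P, Commute x g) ∧
      (∀ g ∈ P, g • p = p) ∧ (∀ c : G, Commute x c → c • p = p → ∀ g ∈ P, c * g * c⁻¹ ∈ P) ∧
      (∀ a b : G ⧸ M, x • a = a → x • b = b → a ≠ p → b ≠ p → ∃ g ∈ P, g • a = b) ∧
      (∀ g ∈ P, ∀ a : G ⧸ M, x • a = a → a ≠ p → g • a = a → ∀ b : G ⧸ M, x • b = b → g • b = b)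

/-- The number of members at `p` commuting with `x`. -/
noncomputable def cnt (z x : G) (p : G ⧸ M) : ℕ := Nat.card (CAt z ({x} : Set G) p)

/-- The number of fixed points. -/
noncomputable def fix (M : Subgroup G) (x : G) : ℕ := Nat.card {a : G ⧸ M // x • a = a}

theorem mul_conj_invol {x h : G} (hx : orderOf x = 2) (hh : orderOf h = 2) (hc : Commute x h)
    (hne : x ≠ h) : orderOf (x * h) = 2 := by
  rw [invol_iff]
  refine ⟨?_, fun e => hne ((eq_inv_of_mul_eq_one_left e).trans (invol_inv hh))⟩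
  calc x * h * (x * h) = x * (h * x) * h := by group
    _ = 1 := by rw [← hc.eq, ← mul_assoc, invol_mul_self hx, one_mul, invol_mul_self hh]

theorem fix_conj (x g : G) : fix M (g * x * g⁻¹) = fix M x :=
  (Nat.card_congr ⟨fun a => ⟨g • a.1, by rw [smul_smul, inv_mul_cancel_right, mul_smul, a.2]⟩,
    fun a => ⟨g⁻¹ • a.1, by
      calc x • g⁻¹ • a.1 = g⁻¹ • (g * x * g⁻¹) • a.1 := by simp [smul_smul, mul_assoc]
        _ = g⁻¹ • a.1 := by rw [a.2]⟩,
    fun a => Subtype.ext (inv_smul_smul g a.1), fun a => Subtype.ext (smul_inv_smul g a.1)⟩).symm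

variable [Finite G]

theorem isPGroup_closure_invol {x : G} (hx : orderOf x = 2) :
    IsPGroup 2 (Subgroup.closure ({x} : Set G)) := by
  rw [← Subgroup.zpowers_eq_closure]
  exact Crit.isPGroup_zpowers_invol hx

theorem Bad.conj {x : G} (hx : Bad z x) (g : G) : Bad z (g * x * g⁻¹) :=
  ⟨invol_conj hx.invol g, fun hh => hx.not_conj (hh.trans (isConj_iff.2 ⟨g, rfl⟩).symm)⟩

/-- A two-group fixes a point. -/
theorem exists_common_fix (hc : Crit M z) {A : Subgroup G} (hA : IsPGroup 2 A) :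
    ∃ a : G ⧸ M, ∀ g ∈ A, g • a = a := by
  haveI : Fact (Nat.Prime 2) := ⟨Nat.prime_two⟩
  obtain ⟨a, ha⟩ := hA.nonempty_fixed_point_of_prime_not_dvd_card (G ⧸ M) fun hh =>
    Nat.not_even_iff_odd.2 hc.odd_index (even_iff_two_dvd.2 hh)
  exact ⟨a, fun g hg => ha ⟨g, hg⟩⟩

theorem exists_fix (hc : Crit M z) {x : G} (hx : orderOf x = 2) : ∃ a : G ⧸ M, x • a = a := by
  obtain ⟨a, ha⟩ := exists_common_fix hc (Crit.isPGroup_zpowers_invol hx)
  exact ⟨a, ha x (Subgroup.mem_zpowers x)⟩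

namespace Res

variable (h : Res M z)
include h

/-- An involution with at most one fixed point is a conjugate of `z`. -/
theorem isConj_of_single {c : G} (hc : orderOf c = 2)
    (h1 : ∀ a b : G ⧸ M, c • a = a → c • b = b → a = b) : IsConj z c := by
  obtain ⟨a, ha⟩ := exists_fix h.crit hc
  obtain ⟨o, ho⟩ := h.free c hc
  obtain ⟨e, he, hec⟩ := h.crit.exists_fixing o
  have heo := h.crit.orderOf_conj he
  by_cases hodd : Odd (orderOf (e * c))
  · exact he.trans (Invol.isConj_of_odd heo hc hodd)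
  have heven := Nat.not_odd_iff_even.1 hodd
  set w := (e * c) ^ (orderOf (e * c) / 2) with hw
  have hwo : orderOf w = 2 := orderOf_pow_half heven
  have hwe : Commute w e := commute_pow_half (invol_conj_mul heo hc) heven
  have hwc : Commute w c := commute_pow_half (invol_conj_mul' heo hc) heven
  have hwo' : w • o = o := h.crit.smul_of_commute he hwe hec
  have hwa : w • a = a := h1 _ _ (by rw [smul_smul, ← hwc.eq, mul_smul, ha]) ha
  exact h.crit.isConj_of_single_fix h.free hwo (fun e' => ho (by first | (subst e'; exact ha) | rw [e', ha] | rw [← e', ha]))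
    hwo' hwa hc hwc h1

theorem bad_two_fix {x : G} (hx : Bad z x) {p : G ⧸ M} (hp : x • p = p) :
    ∃ q : G ⧸ M, q ≠ p ∧ x • q = q := by
  by_contra hh
  push Not at hh
  refine hx.not_conj (h.isConj_of_single hx.invol fun a b ha hb => ?_)
  have : ∀ c, x • c = c → c = p := fun c hc => by
    by_contra hne; exact hh c hne hc
  rw [this a ha, this b hb]

/-- The members at a point with the identity. -/
def grp (p : G ⧸ M) : Subgroup G where
  carrier := {g | g = 1 ∨ (IsConj z g ∧ g • p = p)}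
  one_mem' := Or.inl rfl
  inv_mem' := by
    rintro g (rfl | ⟨hg, hgp⟩)
    · exact Or.inl inv_one
    · rw [invol_inv (h.crit.orderOf_conj hg)]; exact Or.inr ⟨hg, hgp⟩
  mul_mem' := by
    rintro a b (rfl | ⟨ha, hap⟩) (rfl | ⟨hb, hbp⟩)
    · exact Or.inl (one_mul 1)
    · rw [one_mul]; exact Or.inr ⟨hb, hbp⟩
    · rw [mul_one]; exact Or.inr ⟨ha, hap⟩
    · rcases eq_or_ne a b with rfl | hne
      · exact Or.inl (invol_mul_self (h.crit.orderOf_conj ha))
      · exact Or.inr ⟨h.mul a b ha hb (h.comm a b p ha hb hap hbp) hne, by rw [mul_smul, hbp, hap]⟩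

theorem mem_grp {p : G ⧸ M} {g : G} : g ∈ h.grp p ↔ g = 1 ∨ (IsConj z g ∧ g • p = p) := Iff.rfl

theorem grp_smul {p : G ⧸ M} {g : G} (hg : g ∈ h.grp p) : g • p = p := by
  rcases hg with rfl | ⟨-, hgp⟩
  exacts [one_smul G p, hgp]

theorem grp_commute {p : G ⧸ M} {a b : G} (ha : a ∈ h.grp p) (hb : b ∈ h.grp p) : Commute a b := by
  rcases ha with rfl | ⟨ha, hap⟩
  · exact Commute.one_left b
  rcases hb with rfl | ⟨hb, hbp⟩
  · exact Commute.one_right a
  exact h.comm a b p ha hb hap hbp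

theorem grp_sq {p : G ⧸ M} {a : G} (ha : a ∈ h.grp p) : a * a = 1 := by
  rcases ha with rfl | ⟨ha, -⟩
  exacts [one_mul 1, invol_mul_self (h.crit.orderOf_conj ha)]

theorem grp_conj {p : G ⧸ M} {c g : G} (hc : c • p = p) (hg : g ∈ h.grp p) :
    c * g * c⁻¹ ∈ h.grp p := by
  rcases hg with rfl | ⟨hg, hgp⟩
  · exact Or.inl (by group)
  · exact Or.inr ⟨hg.trans (isConj_iff.2 ⟨c, rfl⟩),
      by rw [mul_smul, mul_smul, inv_smul_eq_iff.2 hc.symm, hgp, hc]⟩

theorem isPGroup_grp (p : G ⧸ M) : IsPGroup 2 (h.grp p) := fun g =>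
  ⟨1, Subtype.ext (by
    show (g : G) ^ 2 ^ 1 = 1
    rw [pow_one, pow_two, h.grp_sq g.2])⟩

theorem card_grp_inf (A : Set G) (p : G ⧸ M) :
    Nat.card ↥(h.grp p ⊓ Subgroup.centralizer A) = Nat.card (CAt z A p) + 1 := by
  classical
  rw [← Finite.card_option, ← Nat.card_congr (Equiv.optionSubtypeNe
    (1 : ↥(h.grp p ⊓ Subgroup.centralizer A)))]
  refine Nat.card_congr (Equiv.optionCongr
    ⟨fun g => ⟨g.1.1, ?_, ?_, fun x hx => g.1.2.2 x hx⟩,
      fun d => ⟨⟨d.1, Or.inr ⟨d.2.1, d.2.2.1⟩, fun x hx => d.2.2.2 x hx⟩, fun hd => ?_⟩,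
      fun _ => rfl, fun _ => rfl⟩)
  · exact ((h.mem_grp.1 g.1.2.1).resolve_left fun hh => g.2 (Subtype.ext hh)).1
  · exact ((h.mem_grp.1 g.1.2.1).resolve_left fun hh => g.2 (Subtype.ext hh)).2
  · have h1 : d.1 = 1 := congrArg Subtype.val hd
    exact invol_ne_one (h.crit.orderOf_conj d.2.1) h1

theorem card_grp (p : G ⧸ M) : Nat.card (h.grp p) = deg M z + 1 := by
  have := h.card_grp_inf ∅ p
  rw [show Subgroup.centralizer (∅ : Set G) = ⊤ from top_unique fun g _ y hy => absurd hy (Set.notMem_empty y),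
    inf_top_eq] at this
  rw [this, ← card_DAt (z := z) p]
  exact congrArg (· + 1) (Nat.card_congr (Equiv.subtypeEquivRight fun d =>
    ⟨fun hd => ⟨hd.1, hd.2.1⟩, fun hd => ⟨hd.1, hd.2, by simp⟩⟩))

/-- A two-power. -/
theorem exists_card_CAt (A : Set G) (p : G ⧸ M) :
    ∃ k : ℕ, Nat.card (CAt z A p) + 1 = 2 ^ k := by
  haveI : Fact (Nat.Prime 2) := ⟨Nat.prime_two⟩
  obtain ⟨k, hk⟩ := IsPGroup.iff_card.1 ((h.isPGroup_grp p).to_le
    (inf_le_left : h.grp p ⊓ Subgroup.centralizer A ≤ h.grp p))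
  exact ⟨k, h.card_grp_inf A p ▸ hk⟩

theorem cnt_eq {x : G} (hx : orderOf x = 2) {p q : G ⧸ M} (hp : x • p = p) (hq : x • q = q) :
    cnt z x p = cnt z x q :=
  h.crit.card_CAt_eq (isPGroup_closure_invol hx) (by rintro y rfl; exact hp) (by rintro y rfl; exact hq)

theorem cnt_le {x : G} (p : G ⧸ M) : cnt z x p ≤ deg M z := by
  rw [← card_DAt (z := z) p]
  exact Nat.card_le_card_of_injective (fun d => (⟨d.1, d.2.1, d.2.2.1⟩ : DAt z p))
    fun a b hab => Subtype.ext (congrArg (fun d : DAt z p => d.1) hab)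

theorem cnt_pos {x : G} (hx : orderOf x = 2) {p : G ⧸ M} (hp : x • p = p) : 0 < cnt z x p := by
  obtain ⟨d, hd, hdp, hxd⟩ := h.crit.exists_commuting_invol hx hp
  haveI : Nonempty (CAt z ({x} : Set G) p) := ⟨⟨d, hd, hdp, by rintro y rfl; exact hxd⟩⟩
  exact Nat.card_pos

theorem cnt_conj (x g : G) (p : G ⧸ M) : cnt z (g * x * g⁻¹) (g • p) = cnt z x p := by
  refine (Nat.card_congr ?_).symm
  exact
    { toFun := fun d => ⟨g * d.1 * g⁻¹, d.2.1.trans (isConj_iff.2 ⟨g, rfl⟩),
        by rw [smul_smul, inv_mul_cancel_right, mul_smul, d.2.2.1],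
        by rintro y rfl; exact Commute.map (d.2.2.2 x rfl) (MulAut.conj g).toMonoidHom⟩
      invFun := fun d => ⟨g⁻¹ * d.1 * g, d.2.1.trans (isConj_iff.2 ⟨g⁻¹, by rw [inv_inv]⟩),
        by rw [mul_smul, mul_smul, d.2.2.1, inv_smul_smul],
        by
          rintro y rfl
          have := Commute.map (d.2.2.2 (g * y * g⁻¹) rfl) (MulAut.conj g⁻¹).toMonoidHom
          simpa [mul_assoc] using this⟩
      left_inv := fun d => Subtype.ext (by simp [mul_assoc])
      right_inv := fun d => Subtype.ext (by simp [mul_assoc]) }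

/-- A product with a member centralizing `x` centralizes as many members. -/
theorem cnt_mul {x d : G} (hx : Bad z x) (hd : IsConj z d) (hxd : Commute x d) {p a : G ⧸ M}
    (hp : x • p = p) (ha : (x * d) • a = a) : cnt z (x * d) a = cnt z x p := by
  obtain ⟨c, hc⟩ := h.crit.fix_exists hd
  have hxc : x • c = c := h.crit.smul_of_commute hd hxd hc
  have hxdo := mul_conj_invol hx.invol (h.crit.orderOf_conj hd) hxd fun e => hx.not_conj (e ▸ hd)
  rw [h.cnt_eq hxdo ha (q := c) (by rw [mul_smul, hc, hxc]), h.cnt_eq hx.invol hp hxc]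
  exact Nat.card_congr (Equiv.subtypeEquivRight fun t => ⟨fun ht => ⟨ht.1, ht.2.1, by
      intro y hy
      rw [Set.mem_singleton_iff.1 hy]
      have h1 := ((ht.2.2 (x * d) rfl).symm.mul_right (h.comm t d c ht.1 hd ht.2.1 hc))
      rw [mul_assoc, invol_mul_self (h.crit.orderOf_conj hd), mul_one] at h1
      exact h1.symm⟩,
    fun ht => ⟨ht.1, ht.2.1, by
      intro y hy
      rw [Set.mem_singleton_iff.1 hy]
      exact (ht.2.2 x rfl).mul_left (h.comm d t c hd ht.1 hc ht.2.1)⟩⟩)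

/-- Every moved point has the same number of commuting swaps. -/
theorem card_cswap {x : G} (hx : Bad z x) {p a : G ⧸ M} (hp : x • p = p) (ha : x • a ≠ a) :
    Nat.card (CSwap z ({x} : Set G) a (x • a)) * cnt z x p = deg M z := by
  have hxx : x • x • a = a := by rw [smul_smul, invol_mul_self hx.invol, one_smul]
  have := h.crit.card_swap_mul (A := (∅ : Set G)) (r := x) (a := a) (b := x • a) ha.symm rfl hxx
    (fun d y hy => absurd hy (Set.notMem_empty y))
    (fun d => by rw [invol_mul_self hx.invol]; exact Commute.one_left _) (k := cnt z x p) fun g => by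
      obtain ⟨g, hg, hga, hgx⟩ := g
      have hxg : Commute x g := hgx x (Set.mem_insert _ _)
      show Nat.card (CAt z (insert (g * x) ∅) a) = cnt z x p
      rw [insert_empty_eq, ← hxg.eq]
      exact h.cnt_mul hx hg hxg hp (by
        rw [hxg.eq, mul_smul, ← hga, smul_smul, invol_mul_self (h.crit.orderOf_conj hg), one_smul])
  rw [show Nat.card (CAt z (∅ : Set G) a) = deg M z from by
    rw [← card_DAt (z := z) a]
    exact Nat.card_congr (Equiv.subtypeEquivRight fun d =>
      ⟨fun hd => ⟨hd.1, hd.2.1⟩, fun hd => ⟨hd.1, hd.2, by simp⟩⟩)] at this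
  rwa [insert_empty_eq] at this

theorem cnt_dvd {x : G} (hx : Bad z x) {p : G ⧸ M} (hp : x • p = p) : cnt z x p ∣ deg M z := by
  obtain ⟨a, ha⟩ := h.free x hx.invol
  exact Dvd.intro_left _ (h.card_cswap hx hp ha)

/-- The members centralizing a bad involution. -/
theorem card_dcomm {x : G} (hx : Bad z x) {p : G ⧸ M} (hp : x • p = p) :
    Nat.card {d : G // IsConj z d ∧ ∀ y ∈ ({x} : Set G), Commute y d} = fix M x * cnt z x p := by
  letI := Fintype.ofFinite {a : G ⧸ M // x • a = a}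
  rw [← Nat.card_eq_of_bijective (α := Σ a : {a : G ⧸ M // x • a = a}, CAt z ({x} : Set G) a.1)
    (fun s => ⟨s.2.1, s.2.2.1, s.2.2.2.2⟩) ⟨?_, fun d => ?_⟩, Nat.card_sigma,
    Finset.sum_congr rfl (fun a _ => (h.cnt_eq hx.invol a.2 hp :
      Nat.card (CAt z ({x} : Set G) a.1) = _)), Finset.sum_const, smul_eq_mul,
    Finset.card_univ, fix, Nat.card_eq_fintype_card]
  · rintro ⟨⟨a, ha⟩, ⟨d, hd⟩⟩ ⟨⟨b, hb⟩, ⟨e, he⟩⟩ hh
    simp only [Subtype.mk.injEq] at hh
    subst hh
    obtain rfl := h.crit.fix_unique hd.1 hd.2.1 he.2.1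
    rfl
  · obtain ⟨a, ha⟩ := h.crit.fix_exists d.2.1
    exact ⟨⟨⟨a, h.crit.smul_of_commute d.2.1 (d.2.2 x rfl) ha⟩, ⟨d.1, d.2.1, ha, d.2.2⟩⟩, rfl⟩

/-- **The small type.**  The group at the point has order `(a + 1) ^ 2` and the conjugation by
it moves `x` over the whole centralized part. -/
theorem small_type {x : G} (hx : Bad z x) {p : G ⧸ M} (hp : x • p = p)
    (hlt : cnt z x p < deg M z) :
    deg M z + 1 = (cnt z x p + 1) ^ 2 ∧
      ∀ d ∈ h.grp p, Commute x d → ∃ e ∈ h.grp p, e * x * e⁻¹ = x * d := by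
  haveI : Fact (Nat.Prime 2) := ⟨Nat.prime_two⟩
  set E := h.grp p with hE
  set C := h.grp p ⊓ Subgroup.centralizer ({x} : Set G) with hC
  have hxi := invol_inv hx.invol
  have hxx := invol_mul_self hx.invol
  have hconj : ∀ e ∈ E, x * e * x ∈ E := fun e he => by
    have := h.grp_conj hp he; rwa [hxi] at this
  let φ : E →* G :=
    { toFun := fun e => (e : G) * (x * e * x)
      map_one' := by simp [hxx]
      map_mul' := fun a b => by
        show (a : G) * b * (x * ((a : G) * b) * x) = a * (x * a * x) * (b * (x * b * x))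
        rw [show x * ((a : G) * b) * x = (x * a * x) * (x * b * x) by
          simp only [mul_assoc]; rw [← mul_assoc x x, hxx, one_mul]]
        exact Commute.mul_mul_mul_comm (h.grp_commute b.2 (hconj a a.2)) _ _ }
  have hker : Nat.card φ.ker = cnt z x p + 1 := by
    rw [cnt, ← h.card_grp_inf]
    refine Nat.card_congr ⟨fun e => ⟨e.1.1, e.1.2, ?_⟩, fun g => ⟨⟨g.1, g.2.1⟩, ?_⟩,
      fun _ => rfl, fun _ => rfl⟩
    · show e.1.1 ∈ Subgroup.centralizer ({x} : Set G)
      rw [Subgroup.mem_centralizer_singleton_iff]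
      have h1 : (e.1 : G) * (x * e.1 * x) = 1 := e.2
      have h2 := inv_eq_of_mul_eq_one_right h1
      rw [inv_eq_of_mul_eq_one_right (h.grp_sq e.1.2)] at h2
      calc (e.1 : G) * x = x * e.1 * x * x := by rw [← h2]
        _ = x * e.1 := by rw [mul_assoc, hxx, mul_one]
    · show (g : G) * (x * g * x) = 1
      rw [← Subgroup.mem_centralizer_singleton_iff.1 g.2.2, mul_assoc (g : G) x x, hxx, mul_one,
        h.grp_sq g.2.1]
  have hrange : φ.range ≤ C := by
    rintro _ ⟨e, rfl⟩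
    refine ⟨mul_mem e.2 (hconj e e.2), Subgroup.mem_centralizer_singleton_iff.2 ?_⟩
    show (e : G) * (x * e * x) * x = x * (e * (x * e * x))
    calc (e : G) * (x * e * x) * x = e * (x * e) * (x * x) := by group
      _ = e * (x * e) := by rw [hxx, mul_one]
      _ = (x * x) * (e * (x * e)) := by rw [hxx, one_mul]
      _ = x * ((x * e * x) * e) := by group
      _ = x * (e * (x * e * x)) := by rw [(h.grp_commute (hconj e e.2) e.2).eq]
  have hCcard : Nat.card C = cnt z x p + 1 := h.card_grp_inf _ p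
  have hmul : Nat.card φ.range * (cnt z x p + 1) = deg M z + 1 := by
    rw [← hker, ← h.card_grp p, ← Subgroup.index_ker, mul_comm, Subgroup.card_mul_index]
  obtain ⟨β, hβ⟩ := h.exists_card_CAt ({x} : Set G) p
  obtain ⟨k, hk⟩ := IsPGroup.iff_card.1 (((h.isPGroup_grp p).to_le inf_le_left).to_le hrange)
  rw [hk] at hmul
  rw [← cnt] at hβ
  have hkβ : 2 ^ k ≤ cnt z x p + 1 := hk ▸ hCcard ▸ Subgroup.card_le_of_le hrange
  have hdvd : cnt z x p ∣ 2 ^ k - 1 := by
    obtain ⟨c, hc⟩ := h.cnt_dvd hx hp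
    rw [hc] at hmul
    refine ⟨c - 2 ^ k, ?_⟩
    have e := hmul
    rw [Nat.mul_sub]
    have : cnt z x p * 2 ^ k + 2 ^ k = cnt z x p * c + 1 := by rw [← e]; ring
    omega
  have h2k : 2 ^ k = cnt z x p + 1 := by
    rcases Nat.eq_zero_or_pos (2 ^ k - 1) with h0 | h0
    · exfalso
      have : 2 ^ k = 1 := by have := Nat.one_le_two_pow (n := k); omega
      rw [this, one_mul] at hmul; omega
    · have := Nat.le_of_dvd h0 hdvd; omega
  refine ⟨by rw [← hmul, h2k]; ring, fun d hd hxd => ?_⟩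
  have hrC : φ.range = C := Subgroup.eq_of_le_of_card_ge hrange (by rw [hk, h2k, hCcard])
  obtain ⟨e, he⟩ : d ∈ φ.range := by
    rw [hrC]
    exact ⟨hd, Subgroup.mem_centralizer_singleton_iff.2 hxd.symm.eq⟩
  refine ⟨e, e.2, ?_⟩
  rw [← he]
  show (e : G) * x * (e : G)⁻¹ = x * (e * (x * e * x))
  rw [inv_eq_of_mul_eq_one_right (h.grp_sq e.2), (h.grp_commute e.2 (hconj e e.2)).eq,
    show x * (x * (e : G) * x * (e : G)) = (x * x) * ((e : G) * x * (e : G)) by group, hxx, one_mul]

end Res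

end CfsgLib.SECrit.Small
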