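import Cfsg.Agent.Lib.Invol.SECriterion.SmallType.Roots
import Cfsg.Agent.Lib.Invol.SECriterion.SignKill
import Cfsg.Agent.Lib.Coprime.Action

/-!
# The strong embedding criterion, small type: more fixed points than centralized members

Then the two point stabilizers have Sylow order at most two, a Sylow subgroup `S` of the stabilizer
contains `W = E T` with index two, and the two halves of the `N(W)`-class of a bad involution in `W`
have different sizes modulo the number of centralized members: a contradiction.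
-/

set_option autoImplicit false

namespace CfsgLib.SECrit.Small

open CfsgLib.Invol

variable {G : Type*} [Group G] {M : Subgroup G} {z : G} [Finite G]

namespace Uni

variable {a : ℕ} (h : Uni M z a)
include h

/-- In a two-group fixing two points there is a central involution, bad and the only involution. -/
theorem exists_unique_invol {R : Subgroup G} (hR : IsPGroup 2 R) {p γ : G ⧸ M} (hγp : γ ≠ p)
    (hp : ∀ g ∈ R, g • p = p) (hγ : ∀ g ∈ R, g • γ = γ) (hne : R ≠ ⊥) :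
    ∃ c ∈ R, Bad z c ∧ ∀ g ∈ R, g * g = 1 → g = 1 ∨ g = c := by
  haveI : Fact (Nat.Prime 2) := ⟨Nat.prime_two⟩
  haveI : Nontrivial R := (Subgroup.nontrivial_iff_ne_bot R).2 hne
  haveI := hR.center_nontrivial
  obtain ⟨n, hn0, hn⟩ := (hR.to_subgroup (Subgroup.center R)).nontrivial_iff_card.1 inferInstance
  obtain ⟨w, hw⟩ := exists_prime_orderOf_dvd_card' (G := Subgroup.center R) 2
    (hn ▸ dvd_pow_self 2 hn0.ne')
  have hco : orderOf ((w : R) : G) = 2 := by rw [Subgroup.orderOf_coe, Subgroup.orderOf_coe, hw]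
  have hb := h.toRes.bad_of_two_fix hco hγp (hγ _ (w : R).2) (hp _ (w : R).2)
  refine ⟨_, (w : R).2, hb, fun g hg hgg => ?_⟩
  by_cases hg1 : g = 1
  · exact Or.inl hg1
  exact Or.inr (h.eq_of_two_common hb (invol_iff.2 ⟨hgg, hg1⟩)
    (show Commute ((w : R) : G) g from
      congrArg Subtype.val (Subgroup.mem_center_iff.1 w.2 ⟨g, hg⟩).symm)
    hγp (hγ _ (w : R).2) (hp _ (w : R).2) (hγ g hg) (hp g hg))

variable {x : G} (hx : Bad z x) {p : G ⧸ M} (hxp : x • p = p) (hfx : fix M x ≠ a + 2)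
include hx hxp hfx

/-- A two-group fixing two points has at most two elements. -/
theorem card_le_two {R : Subgroup G} (hR : IsPGroup 2 R) {o γ : G ⧸ M} (hγo : γ ≠ o)
    (ho : ∀ g ∈ R, g • o = o) (hγ : ∀ g ∈ R, g • γ = γ) : Nat.card R ≤ 2 := by
  rcases eq_or_ne R ⊥ with rfl | hne
  · rw [Subgroup.card_bot]; omega
  obtain ⟨c, hcR, hc, huniq⟩ := h.exists_unique_invol hR hγo ho hγ hne
  have hall : ∀ g : R, (g : G) = 1 ∨ (g : G) = c := by
    intro g
    obtain ⟨k, hk⟩ := hR g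
    have hgk : (g : G) ^ 2 ^ k = 1 := by rw [← Subgroup.coe_pow, hk, Subgroup.coe_one]
    by_contra hh
    push Not at hh
    -- a power of order four
    have : ∀ (k : ℕ) (g : G), g ∈ R → g ^ 2 ^ k = 1 → g ≠ 1 → g ≠ c → False := by
      intro k
      induction k with
      | zero => intro g _ h1 h2 _; exact h2 (by simpa using h1)
      | succ k ih =>
        intro g hg h1 h2 h3
        rcases eq_or_ne (g * g) c with h4 | h4
        · have hrd := h.root_data hc h4 hγo (ho g hg) (hγ g hg)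
          obtain ⟨-, -, -, -, hfc⟩ := hrd
          have hxlt := h.small hx hxp
          have hc2 : 2 ≤ cnt z x p := by rw [h.cnt_uni x p hx hxp]; exact h.le
          exact hfx ((h.small_uniform hx hxp hxlt hc2 hc (ho c hcR)).2.symm.trans hfc)
        · refine ih (g * g) (mul_mem hg hg) (by rw [← pow_two, ← pow_mul, ← pow_succ']; exact h1)
            (fun h5 => ?_) h4
          rcases huniq g hg h5 with h6 | h6
          exacts [h2 h6, h3 h6]
    exact this k g g.2 hgk hh.1 hh.2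
  classical
  calc Nat.card R ≤ Nat.card Bool :=
        Nat.card_le_card_of_injective (fun g : R => decide ((g : G) = c)) fun g g' hgg => by
          rcases hall g with h1 | h1 <;> rcases hall g' with h2 | h2 <;>
            first
            | exact Subtype.ext (h1.trans h2.symm)
            | (exfalso; simp [h1, h2, (invol_ne_one hc.invol).symm, invol_ne_one hc.invol] at hgg)
    _ = 2 := by rw [Nat.card_eq_fintype_card, Fintype.card_bool]

/-- The two-elements centralizing `x` at its point form a group of order twice the other fixed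
points. -/
theorem exists_T : ∃ T : Subgroup G, IsPGroup 2 T ∧ Nat.card T = 2 * (fix M x - 1) ∧
    (∀ g ∈ T, Commute x g ∧ g • p = p) ∧
    (∀ c : G, Commute x c → c • p = p → ∀ g ∈ T, c * g * c⁻¹ ∈ T) ∧
    (∀ c : G, Commute x c → c • p = p → ∀ k : ℕ, c ^ 2 ^ k = 1 → c ∈ T) ∧
    (∀ α β : G ⧸ M, x • α = α → x • β = β → α ≠ p → β ≠ p → ∃ g ∈ T, g • α = β) := by
  haveI : Fact (Nat.Prime 2) := ⟨Nat.prime_two⟩
  have hc2 : 2 ≤ cnt z x p := by rw [h.cnt_uni x p hx hxp]; exact h.le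
  obtain ⟨P, hP, hPc, hPp, hPn, htr, -⟩ := h.reg x hx (h.exists_commuting_pair hc2) p hxp
  obtain ⟨γ, hγp, hxγ⟩ := h.bad_two_fix hx hxp
  set T := P ⊔ Subgroup.zpowers x with hT
  have hxN : Subgroup.zpowers x ≤ Subgroup.normalizer (P : Set G) := by
    rw [Subgroup.zpowers_le]
    exact Subgroup.mem_normalizer_iff.2 fun g => ⟨fun hg => by
      rw [(hPc g hg).eq, mul_inv_cancel_right]; exact hg, fun hg => by
      have := hPn x⁻¹ (Commute.refl x).inv_right (inv_smul_eq_iff.2 hxp.symm) _ hg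
      simpa [mul_assoc] using this⟩
  have hT2 : IsPGroup 2 T :=
    hP.to_sup_of_normal_left' (Crit.isPGroup_zpowers_invol hx.invol) hxN
  have hTc : ∀ g ∈ T, Commute x g ∧ g • p = p := by
    intro g hg
    have hle : T ≤ Subgroup.centralizer ({x} : Set G) ⊓ MulAction.stabilizer G p :=
      sup_le (fun t ht => ⟨Subgroup.mem_centralizer_singleton_iff.2 (hPc t ht).symm.eq, hPp t ht⟩)
        (Subgroup.zpowers_le.2 ⟨Subgroup.mem_centralizer_singleton_iff.2 rfl, hxp⟩)
    exact ⟨(Commute.symm (Subgroup.mem_centralizer_singleton_iff.1 (hle hg).1)), (hle hg).2⟩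
  have hPT : P ≤ T := le_sup_left
  have horb : ∀ Q : Subgroup G, T ≤ Q → (∀ g ∈ Q, Commute x g ∧ g • p = p) → IsPGroup 2 Q →
      Nat.card Q = 2 * (fix M x - 1) := by
    intro Q hTQ hQc hQ2
    have horbit : MulAction.orbit Q γ = {t : G ⧸ M | x • t = t ∧ t ≠ p} := by
      ext t
      constructor
      · rintro ⟨g, rfl⟩
        refine ⟨?_, fun e => hγp (smul_left_cancel (g : G) (e.trans (hQc g g.2).2.symm))⟩
        show x • (g : G) • γ = (g : G) • γ
        rw [smul_smul, (hQc g g.2).1.eq, mul_smul, hxγ]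
      · rintro ⟨ht, htp⟩
        obtain ⟨g, hg, hgt⟩ := htr γ t hxγ ht hγp htp
        exact ⟨⟨g, hTQ (hPT hg)⟩, hgt⟩
    have hstab : Nat.card (MulAction.stabilizer Q γ) = 2 := by
      refine le_antisymm ?_ ?_
      · rw [Nat.card_congr ((MulAction.stabilizer Q γ).equivMapOfInjective Q.subtype
          (Subgroup.subtype_injective _)).toEquiv]
        refine h.card_le_two hx hxp hfx ((hQ2.to_subgroup _).map Q.subtype) hγp ?_ ?_ <;>
          rintro _ ⟨g, hg, rfl⟩
        exacts [(hQc g g.2).2, hg]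
      · have hxs : (⟨x, hTQ (Subgroup.mem_sup_right (Subgroup.mem_zpowers x))⟩ : Q) ∈
            MulAction.stabilizer Q γ := hxγ
        haveI : Nontrivial (MulAction.stabilizer Q γ) :=
          ⟨⟨_, hxs⟩, 1, fun e => invol_ne_one hx.invol (congrArg (fun t => ((t.1 : Q) : G)) e)⟩
        exact Finite.one_lt_card
    rw [← Subgroup.card_mul_index (MulAction.stabilizer Q γ), hstab, MulAction.index_stabilizer,
      horbit, ← Nat.card_coe_set_eq]
    exact congrArg (2 * ·) (h.toRes.card_fix_sub hxp)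
  have hTn : ∀ c : G, Commute x c → c • p = p → ∀ g ∈ T, c * g * c⁻¹ ∈ T := by
    intro c hxc hcp g hg
    have hle : T ≤ T.comap (MulAut.conj c).toMonoidHom := sup_le
      (fun t ht => hPT (hPn c hxc hcp t ht))
      (Subgroup.zpowers_le.2 (show c * x * c⁻¹ ∈ T by
        rw [hxc.symm.eq, mul_inv_cancel_right]
        exact Subgroup.mem_sup_right (Subgroup.mem_zpowers x)))
    exact hle hg
  refine ⟨T, hT2, horb T le_rfl hTc hT2, hTc, hTn, fun c hxc hcp k hk => ?_,
    fun α β hα hβ hαp hβp => ?_⟩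
  · have hcN : Subgroup.zpowers c ≤ Subgroup.normalizer (T : Set G) := by
      rw [Subgroup.zpowers_le]
      exact Subgroup.mem_normalizer_iff.2 fun g => ⟨fun hg => hTn c hxc hcp g hg, fun hg => by
        have := hTn c⁻¹ hxc.inv_right (inv_smul_eq_iff.2 hcp.symm) _ hg
        simpa [mul_assoc] using this⟩
    obtain ⟨j, -, hj⟩ := (Nat.dvd_prime_pow Nat.prime_two).1 (orderOf_dvd_of_pow_eq_one hk)
    have hQ : IsPGroup 2 ↥(T ⊔ Subgroup.zpowers c) := hT2.to_sup_of_normal_left'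
      (IsPGroup.of_card (n := j) (by rw [Nat.card_zpowers, hj])) hcN
    have hle : T ⊔ Subgroup.zpowers c ≤ Subgroup.centralizer ({x} : Set G) ⊓ MulAction.stabilizer G p :=
      sup_le (fun t ht => ⟨Subgroup.mem_centralizer_singleton_iff.2 (hTc t ht).1.symm.eq, (hTc t ht).2⟩)
        (Subgroup.zpowers_le.2 ⟨Subgroup.mem_centralizer_singleton_iff.2 hxc.symm.eq, hcp⟩)
    have hcard := horb _ le_sup_left (fun g hg =>
      ⟨(Commute.symm (Subgroup.mem_centralizer_singleton_iff.1 (hle hg).1)), (hle hg).2⟩) hQ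
    rw [Subgroup.eq_of_le_of_card_ge (le_sup_left : T ≤ _) (by rw [hcard, horb T le_rfl hTc hT2])]
    exact Subgroup.mem_sup_right (Subgroup.mem_zpowers c)
  · obtain ⟨g, hg, hgt⟩ := htr α β hα hβ hαp hβp
    exact ⟨g, hPT hg, hgt⟩

/-- The data of the two-group `W = E T`. -/
theorem exists_W : ∃ W : Subgroup G, IsPGroup 2 W ∧ Nat.card W = (a + 1) * (2 * (fix M x - 1)) ∧
    h.toRes.grp p ≤ W ∧ x ∈ W ∧ (∀ g ∈ W, g • p = p) ∧
    (∀ g ∈ W, ∃ e ∈ h.toRes.grp p, g * x * g⁻¹ = e * x * e⁻¹) ∧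
    (∀ c : G, Commute x c → c • p = p → ∀ g ∈ W, c * g * c⁻¹ ∈ W) ∧
    (∀ c : G, Commute x c → c • p = p → ∃ o : ℕ, Odd o ∧ c ^ o ∈ W) := by
  haveI : Fact (Nat.Prime 2) := ⟨Nat.prime_two⟩
  obtain ⟨T, hT2, hTcard, hTc, hTn, hTel, -⟩ := h.exists_T hx hxp hfx
  set E := h.toRes.grp p with hE
  have hTE : T ≤ Subgroup.normalizer (E : Set G) := fun t ht => by
    refine Subgroup.mem_normalizer_iff.2 fun g => ⟨fun hg => h.toRes.grp_conj (hTc t ht).2 hg,
      fun hg => ?_⟩
    have := h.toRes.grp_conj (inv_smul_eq_iff.2 (hTc t ht).2.symm) hg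
    simpa [mul_assoc] using this
  have hW2 : IsPGroup 2 ↥(E ⊔ T) := (h.isPGroup_grp p).to_sup_of_normal_left' hT2 hTE
  have hWp : ∀ g ∈ E ⊔ T, g • p = p := by
    intro g hg
    obtain ⟨e, he, t, ht, rfl⟩ := CfsgLib.Coprime.mem_sup_exists hTE hg
    rw [mul_smul, (hTc t ht).2, h.toRes.grp_smul he]
  have hWx : ∀ g ∈ E ⊔ T, ∃ e ∈ E, g * x * g⁻¹ = e * x * e⁻¹ := by
    intro g hg
    obtain ⟨e, he, t, ht, rfl⟩ := CfsgLib.Coprime.mem_sup_exists hTE hg
    refine ⟨e, he, ?_⟩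
    calc e * t * x * (e * t)⁻¹ = e * (t * x) * t⁻¹ * e⁻¹ := by group
      _ = e * x * e⁻¹ := by rw [← (hTc t ht).1.eq]; group
  refine ⟨E ⊔ T, hW2, ?_, le_sup_left, Subgroup.mem_sup_right (hTel x (Commute.refl x) hxp 1
    (by rw [pow_one, pow_two, invol_mul_self hx.invol])), hWp, hWx, fun c hxc hcp g hg => ?_,
    fun c hxc hcp => ?_⟩
  · letI : MulAction ↥(E ⊔ T) G := MulAction.compHom G
      ((MulAut.conj : G →* MulAut G).comp (E ⊔ T).subtype)
    have hact : ∀ (g : ↥(E ⊔ T)) (y : G), g • y = (g : G) * y * (g : G)⁻¹ := fun g y => rfl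
    have hst : Nat.card (MulAction.stabilizer ↥(E ⊔ T) x) = 2 * (fix M x - 1) := by
      rw [← hTcard]
      refine Nat.card_congr ⟨fun g => ⟨g.1.1, ?_⟩, fun t => ⟨⟨t.1, Subgroup.mem_sup_right t.2⟩, ?_⟩,
        fun _ => rfl, fun _ => rfl⟩
      · obtain ⟨e, he, t, ht, heq⟩ := CfsgLib.Coprime.mem_sup_exists hTE g.1.2
        have h1 : (g.1 : G) * x * (g.1 : G)⁻¹ = x := g.2
        have hxe : Commute x e := by
          refine (mul_inv_eq_iff_eq_mul.1 ?_).symm
          calc e * x * e⁻¹ = e * (t * x * t⁻¹) * e⁻¹ := by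
                rw [← (hTc t ht).1.eq, mul_inv_cancel_right]
            _ = (e * t) * x * (e * t)⁻¹ := by group
            _ = x := by rw [heq]; exact h1
        rw [← heq]
        exact mul_mem (hTel e hxe (h.toRes.grp_smul he) 1 (by rw [pow_one, pow_two, h.toRes.grp_sq he])) ht
      · show (t : G) * x * (t : G)⁻¹ = x
        rw [← (hTc t t.2).1.eq, mul_inv_cancel_right]
    have hob : Nat.card (MulAction.orbit ↥(E ⊔ T) x) = a + 1 := by
      rw [← h.cnt_uni x p hx hxp, cnt, ← h.card_grp_inf]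
      refine Nat.card_congr (Equiv.symm (Equiv.ofBijective (fun d => ⟨x * d.1, ?_⟩) ⟨?_, ?_⟩))
      · obtain ⟨e, he, heq⟩ := h.exists_grp_conj hx hxp d.2.1
          (Commute.symm (Subgroup.mem_centralizer_singleton_iff.1 d.2.2))
        exact ⟨⟨e, Subgroup.mem_sup_left he⟩, heq⟩
      · intro d d' hdd
        exact Subtype.ext (mul_left_cancel (congrArg Subtype.val hdd))
      · rintro ⟨y, g, rfl⟩
        obtain ⟨e, he, heq⟩ := hWx g.1 g.2
        have hxe : x * e * x⁻¹ ∈ E := h.toRes.grp_conj hxp he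
        rw [invol_inv hx.invol] at hxe
        refine ⟨⟨x * e * x * e, mul_mem hxe he, Subgroup.mem_centralizer_singleton_iff.2 ?_⟩,
          Subtype.ext ?_⟩
        · calc x * e * x * e * x = (x * e * x) * (e * x) := by group
            _ = x * (x * ((x * e * x) * e) * x) := by
              rw [show x * (x * ((x * e * x) * e) * x) = (x * x) * ((x * e * x) * e) * x by group,
                invol_mul_self hx.invol]; group
            _ = x * ((x * x) * e * x * e * x) := by group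
            _ = x * (e * (x * e * x)) := by rw [invol_mul_self hx.invol]; group
            _ = x * (x * e * x * e) := by rw [(h.toRes.grp_commute he hxe).eq]
        · show x * (x * e * x * e) = g.1 * x * g.1⁻¹
          rw [heq, show x * (x * e * x * e) = (x * x) * e * x * e by group, invol_mul_self hx.invol,
            one_mul, inv_eq_of_mul_eq_one_right (h.toRes.grp_sq he)]
    rw [← Subgroup.card_mul_index (MulAction.stabilizer ↥(E ⊔ T) x), hst, MulAction.index_stabilizer,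
      ← Nat.card_coe_set_eq, hob, mul_comm]
  · have hle : E ⊔ T ≤ (E ⊔ T).comap (MulAut.conj c).toMonoidHom := sup_le
      (fun e he => Subgroup.mem_sup_left (h.toRes.grp_conj hcp he))
      (fun t ht => Subgroup.mem_sup_right (hTn c hxc hcp t ht))
    exact hle hg
  · obtain ⟨j, o, ho, hn⟩ := Nat.exists_eq_pow_mul_and_not_dvd (orderOf_pos c).ne' 2 (by norm_num)
    refine ⟨o, Nat.odd_iff.2 (by omega), Subgroup.mem_sup_right (hTel _ (hxc.pow_right o)
      (MulAction.mem_stabilizer_iff.1 (pow_mem (MulAction.mem_stabilizer_iff.2 hcp) o)) j ?_)⟩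
    rw [← pow_mul, mul_comm, ← hn, pow_orderOf_eq_one]

/-- A Sylow subgroup of the stabilizer over `W`, in which `W` has index two. -/
theorem exists_sylow_over {W : Subgroup G} (hW2 : IsPGroup 2 W) (hWp : ∀ g ∈ W, g • p = p)
    (hWcard : Nat.card W = (a + 1) * (2 * (fix M x - 1))) :
    ∃ S : Subgroup G, W ≤ S ∧ (∀ g ∈ S, g • p = p) ∧ Nat.card S = 2 * Nat.card W ∧
      ∃ o : ℕ, Odd o ∧ Nat.card (MulAction.stabilizer G p) = Nat.card S * o := by
  haveI : Fact (Nat.Prime 2) := ⟨Nat.prime_two⟩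
  set Mp := MulAction.stabilizer G p with hMp
  have hWMp : W ≤ Mp := fun g hg => hWp g hg
  obtain ⟨S, hS⟩ := (IsPGroup.of_equiv hW2
    (Subgroup.subgroupOfEquivOfLe hWMp).symm).exists_le_sylow
  set S' := (S : Subgroup Mp).map Mp.subtype with hS'
  have hS'c : Nat.card S' = Nat.card (S : Subgroup Mp) :=
    (Nat.card_congr ((S : Subgroup Mp).equivMapOfInjective Mp.subtype
      (Subgroup.subtype_injective _)).toEquiv).symm
  have hS'p : ∀ g ∈ S', g • p = p := by rintro _ ⟨g, -, rfl⟩; exact g.2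
  have hS2 : IsPGroup 2 S' := S.2.map Mp.subtype
  set o := (S : Subgroup Mp).index with ho
  have hoodd : Odd o := Nat.not_even_iff_odd.1 fun hh => S.not_dvd_index (even_iff_two_dvd.1 hh)
  have hMc : Nat.card Mp = Nat.card S' * o := by rw [hS'c, ho, Subgroup.card_mul_index]
  refine ⟨S', fun g hg => ⟨⟨g, hWMp hg⟩, hS (Subgroup.mem_subgroupOf.2 hg), rfl⟩, hS'p, ?_,
    o, hoodd, hMc⟩
  obtain ⟨T, hT2, -, hTc, -, -, hTtr⟩ := h.exists_T hx hxp hfx
  obtain ⟨γ, hγp, hxγ⟩ := h.bad_two_fix hx hxp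
  -- the orbit with even stabilizers
  set Oe := MulAction.orbit Mp γ
  set R := Mp ⊓ MulAction.stabilizer G γ
  have hRcard : Nat.card (MulAction.stabilizer Mp γ) = Nat.card R :=
    Nat.card_congr ⟨fun g => ⟨g.1.1, g.1.2, g.2⟩, fun g => ⟨⟨g.1, g.2.1⟩, g.2.2⟩,
      fun _ => rfl, fun _ => rfl⟩
  obtain ⟨R2⟩ : Nonempty (Sylow 2 R) := inferInstance
  obtain ⟨σ, hσ⟩ := IsPGroup.iff_card.1 hS2
  obtain ⟨τ, hτ⟩ := IsPGroup.iff_card.1 R2.2
  have hτ2 : 2 ^ τ ≤ 2 := by
    rw [← hτ, Nat.card_congr ((R2 : Subgroup R).equivMapOfInjective R.subtype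
      (Subgroup.subtype_injective _)).toEquiv]
    refine h.card_le_two hx hxp hfx (R2.2.map R.subtype) hγp ?_ ?_ <;> rintro _ ⟨g, -, rfl⟩
    exacts [g.2.1, g.2.2]
  have hτ1 : τ = 1 := by
    rcases τ with _ | _ | τ
    · exfalso
      have h2 : 2 ∣ Nat.card R := by
        rw [← hx.invol, ← Subgroup.orderOf_mk (H := R) x ⟨hxp, hxγ⟩]
        exact orderOf_dvd_natCard _
      have := (R2 : Subgroup R).card_mul_index
      rw [hτ, pow_zero, one_mul] at this
      exact R2.not_dvd_index (this ▸ h2)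
    · rfl
    · exfalso
      have h4 : 4 ≤ 2 ^ (τ + 1 + 1) :=
        Nat.pow_le_pow_right (n := 2) (by norm_num) (show 2 ≤ τ + 1 + 1 by omega)
      omega
  obtain ⟨o', ho', hRo⟩ : ∃ o', Odd o' ∧ Nat.card R = 2 * o' :=
    ⟨(R2 : Subgroup R).index,
      Nat.not_even_iff_odd.1 fun hh => R2.not_dvd_index (even_iff_two_dvd.1 hh),
      by rw [← (R2 : Subgroup R).card_mul_index, hτ, hτ1, pow_one]⟩
  have hOe : Nat.card Oe * (2 * o') = 2 ^ σ * o := by
    rw [← hRo, ← hRcard, ← hσ, ← hMc, Nat.card_coe_set_eq, ← MulAction.index_stabilizer,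
      Subgroup.index_mul_card]
  -- the other points
  set F := {t : G ⧸ M // t ∉ Oe ∧ t ≠ p}
  have hOep : ∀ t ∈ Oe, t ≠ p := by
    rintro _ ⟨g, rfl⟩ e
    exact hγp (smul_left_cancel (g : G) (e.trans (MulAction.mem_stabilizer_iff.1 g.2).symm))
  letI : MulAction S' F :=
    { smul := fun g t => ⟨(g : G) • t.1, fun ⟨k, hk⟩ => t.2.1
          ⟨(⟨g, hS'p g g.2⟩ : Mp)⁻¹ * k, by
            show ((g : G)⁻¹ * (k : G)) • γ = t.1
            rw [mul_smul, show (k : G) • γ = (g : G) • t.1 from hk, inv_smul_smul]⟩,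
        fun e => t.2.2 (smul_left_cancel (g : G) (e.trans (hS'p g g.2).symm))⟩
      one_smul := fun t => Subtype.ext (one_smul G t.1)
      mul_smul := fun g g' t => Subtype.ext (mul_smul (g : G) (g' : G) t.1) }
  have hfree : ∀ t : F, MulAction.stabilizer S' t = ⊥ := fun t => by
    by_contra hne
    set R' := (MulAction.stabilizer S' t).map S'.subtype
    have hR' : R' ≠ ⊥ := fun e => hne
      ((Subgroup.map_eq_bot_iff_of_injective _ (Subgroup.subtype_injective _)).1 e)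
    obtain ⟨c, hcR, hc, -⟩ := h.exists_unique_invol ((hS2.to_subgroup _).map S'.subtype)
      t.2.2 (p := p) (by rintro _ ⟨g, -, rfl⟩; exact hS'p g g.2)
      (by rintro _ ⟨g, hg, rfl⟩; exact congrArg Subtype.val hg) hR'
    obtain ⟨g, hg, rfl⟩ := hcR
    obtain ⟨k, hkp, hk⟩ := h.exists_conj_at hx hc hxp (hS'p _ g.2)
    have hgt : (g : G) • t.1 = t.1 := congrArg Subtype.val hg
    have hxt : x • k⁻¹ • t.1 = k⁻¹ • t.1 := by
      rw [eq_inv_smul_iff, smul_smul, smul_smul,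
        show k * x * k⁻¹ = (g : G) from hk]
      exact hgt
    obtain ⟨u, hu, hut⟩ := hTtr γ (k⁻¹ • t.1) hxγ hxt hγp (fun e => t.2.2 (by
      rw [← smul_inv_smul k t.1, e, hkp]))
    exact t.2.1 ⟨⟨k * u, show (k * u) • p = p by rw [mul_smul, (hTc u hu).2, hkp]⟩,
      show (k * u) • γ = t.1 by rw [mul_smul, hut, smul_inv_smul]⟩
  obtain ⟨u, hu⟩ : 2 ^ σ ∣ Nat.card F := by
    rw [← hσ]
    exact Dvd.intro_left _ ((Nat.card_congr (MulAction.selfEquivOrbitsQuotientProd hfree)).trans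
      (Nat.card_prod _ _)).symm
  have hN : Nat.card (G ⧸ M) = Nat.card Oe + Nat.card F + 1 := by
    classical
    rw [← Nat.card_congr (Equiv.optionSubtypeNe p), Finite.card_option, ← Nat.card_sum]
    exact congrArg (· + 1) (Nat.card_congr
      { toFun := fun t => if hh : t.1 ∈ Oe then Sum.inl ⟨t.1, hh⟩ else Sum.inr ⟨t.1, hh, t.2⟩
        invFun := Sum.elim (fun t => ⟨t.1, hOep t.1 t.2⟩) (fun t => ⟨t.1, t.2.2⟩)
        left_inv := fun t => by by_cases hh : t.1 ∈ Oe <;> simp [hh]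
        right_inv := fun t => by
          rcases t with t | t
          · simp [t.2]
          · simp [t.2.1] })
  -- the arithmetic
  have hc2 : 2 ≤ cnt z x p := by rw [h.cnt_uni x p hx hxp]; exact h.le
  obtain ⟨β, i, hβ, hi, hβc, hfix, -, hK, -⟩ := h.small_pows hx hxp (h.small hx hxp) hc2
  rw [h.cnt_uni x p hx hxp] at hβc
  have hi0 : i ≠ 0 := by
    rintro rfl
    rw [add_zero, ← hβc] at hfix
    exact hfx (by omega)
  obtain ⟨k, rfl⟩ : ∃ k, i = k + 2 := ⟨i - 2, by omega⟩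
  rcases σ with _ | σ
  · rw [pow_zero, one_mul] at hOe
    rw [← hOe] at hoodd
    exact absurd hoodd (Nat.not_odd_iff_even.2 ((even_two.mul_right o').mul_left _))
  have hrhs : 2 ^ (β + (k + 2)) * (2 * 2 ^ β + 2 ^ (β + (k + 2)) * (2 ^ β - 1)) =
      2 ^ (β + β + (k + 3)) * (1 + 2 ^ (k + 1) * (2 ^ β - 1)) := by
    simp only [pow_add, pow_one]; ring
  have hlhs : (Nat.card Oe + Nat.card F) * (2 ^ β + 1) * o' =
      2 ^ σ * ((o + 2 * u * o') * (2 ^ β + 1)) := by
    have e : Nat.card Oe * o' = 2 ^ σ * o := by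
      refine Nat.eq_of_mul_eq_mul_left (show 0 < 2 by norm_num) ?_
      calc 2 * (Nat.card Oe * o') = Nat.card Oe * (2 * o') := by ring
        _ = 2 * (2 ^ σ * o) := by rw [hOe, pow_succ]; ring
    calc (Nat.card Oe + Nat.card F) * (2 ^ β + 1) * o'
        = (Nat.card Oe * o' + Nat.card F * o') * (2 ^ β + 1) := by ring
      _ = _ := by rw [e, hu, pow_succ]; ring
  rw [hN, Nat.add_sub_cancel, hrhs] at hK
  rw [hK, mul_assoc] at hlhs
  obtain ⟨e1, -⟩ := eq_of_two_pow_mul_odd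
    ((((even_two.pow_of_ne_zero (by omega)).mul_right _).one_add).mul ho')
    ((hoodd.add_even ((even_two.mul_right u).mul_right o')).mul
      ((even_two.pow_of_ne_zero (by omega)).add_one)) hlhs
  rw [hσ, hWcard, hfix, hβc, Nat.add_sub_cancel, ← e1]
  simp only [pow_add, pow_one]; ring

/-- **The small type with more fixed points does not occur.** -/
theorem false_large : False := by
  classical
  haveI : Fact (Nat.Prime 2) := ⟨Nat.prime_two⟩
  obtain ⟨W, hW2, hWcard, hEW, hxW, hWp, hWx, hWn, hWodd⟩ := h.exists_W hx hxp hfx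
  obtain ⟨S, hWS, hSp, hScard, o, ho, hMc⟩ := h.exists_sylow_over hx hxp hfx hW2 hWp hWcard
  set Mp := MulAction.stabilizer G p with hMp
  set Nm := Subgroup.normalizer (W : Set G) ⊓ Mp with hNm
  have hWN : W ≤ Nm := fun g hg => ⟨Subgroup.le_normalizer hg, hWp g hg⟩
  haveI : (W.subgroupOf Nm).Normal :=
    (Subgroup.normal_subgroupOf_iff_le_normalizer hWN).2 inf_le_left
  letI := Fintype.ofFinite (Nm ⧸ W.subgroupOf Nm)
  have hrel : W.relIndex S = 2 := by
    have h1 := Subgroup.card_mul_index (W.subgroupOf S)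
    rw [Nat.card_congr (Subgroup.subgroupOfEquivOfLe hWS).toEquiv, hScard, mul_comm 2] at h1
    exact Nat.eq_of_mul_eq_mul_left Nat.card_pos h1
  have hSN : S ≤ Nm := fun g hg => ⟨(Subgroup.normal_subgroupOf_iff_le_normalizer hWS).1
    (Subgroup.normal_of_index_eq_two hrel) hg, hSp g hg⟩
  have hidx : (W.subgroupOf Nm).index % 4 = 2 := by
    have h1 := Subgroup.card_mul_index (W.subgroupOf Nm)
    rw [Nat.card_congr (Subgroup.subgroupOfEquivOfLe hWN).toEquiv] at h1
    obtain ⟨l, hl⟩ : Nat.card Nm ∣ Nat.card Mp := Subgroup.card_dvd_of_le inf_le_right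
    obtain ⟨l', hl'⟩ : Nat.card S ∣ Nat.card Nm := Subgroup.card_dvd_of_le hSN
    rw [hl', hScard] at h1
    have h2 : (W.subgroupOf Nm).index = 2 * l' :=
      Nat.eq_of_mul_eq_mul_left (Nat.card_pos (α := W)) (h1.trans (by ring))
    rw [hMc, hl', mul_assoc] at hl
    have h3 : o = l' * l := Nat.eq_of_mul_eq_mul_left Nat.card_pos hl
    obtain ⟨i, hi⟩ := (h3 ▸ ho).of_dvd_nat (Dvd.intro l rfl : l' ∣ l' * l)
    omega
  set χ : Nm →* ℤˣ := Equiv.Perm.sign.comp (MulAction.toPermHom Nm (Nm ⧸ W.subgroupOf Nm)) with hχ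
  have hker : ∀ w : Nm, (w : G) ∈ W → MulAction.toPermHom Nm (Nm ⧸ W.subgroupOf Nm) w = 1 := by
    intro w hw
    refine Equiv.ext fun t => ?_
    obtain ⟨t, rfl⟩ := QuotientGroup.mk_surjective t
    show ((w * t : Nm) : Nm ⧸ W.subgroupOf Nm) = (t : Nm ⧸ W.subgroupOf Nm)
    rw [QuotientGroup.eq, mul_inv_rev, mul_assoc]
    have h1 := (inferInstance : (W.subgroupOf Nm).Normal).conj_mem w⁻¹
      (Subgroup.mem_subgroupOf.2 (by simpa using hw)) t⁻¹
    simpa [mul_assoc] using h1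
  -- elements centralizing `x` are in the kernel
  have hCN : ∀ c : G, Commute x c → c • p = p → c ∈ Nm := fun c hxc hcp =>
    ⟨Subgroup.mem_normalizer_iff.2 fun g => ⟨fun hg => hWn c hxc hcp g hg, fun hg => by
      have := hWn c⁻¹ hxc.inv_right (inv_smul_eq_iff.2 hcp.symm) _ hg
      simpa [mul_assoc] using this⟩, hcp⟩
  have hCker : ∀ (c : G) (hxc : Commute x c) (hcp : c • p = p), χ ⟨c, hCN c hxc hcp⟩ = 1 := by
    intro c hxc hcp
    obtain ⟨k, hk, hkW⟩ := hWodd c hxc hcp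
    obtain ⟨j, rfl⟩ := hk
    have h1 : χ (⟨c, hCN c hxc hcp⟩ ^ (2 * j + 1)) = 1 := by
      rw [hχ, MonoidHom.comp_apply, hker _ (by simpa using hkW), map_one]
    rwa [map_pow, pow_succ, pow_mul, Int.units_sq, one_pow, one_mul] at h1
  have hEker : ∀ e : G, ∀ he : e ∈ h.toRes.grp p, χ ⟨e, hWN (hEW he)⟩ = 1 := fun e he => by
    rw [hχ, MonoidHom.comp_apply, hker _ (hEW he), map_one]
  obtain ⟨g, hgS, hgW⟩ : ∃ g ∈ S, g ∉ W := by
    by_contra hh
    push Not at hh
    have := Subgroup.card_le_of_le (show S ≤ W from hh)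
    have := Nat.card_pos (α := W)
    omega
  have hgχ : χ ⟨g, hSN hgS⟩ = -1 := by
    refine Crit.sign_of_free_invol _ ?_ ?_ ?_
    · rw [← map_mul]
      exact hker _ (show g * g ∈ W from by
        have := Subgroup.mul_self_mem_of_index_two (H := W.subgroupOf S) hrel ⟨g, hgS⟩
        exact Subgroup.mem_subgroupOf.1 this)
    · intro t ht
      obtain ⟨t, rfl⟩ := QuotientGroup.mk_surjective t
      change ((⟨g, hSN hgS⟩ * t : Nm) : Nm ⧸ W.subgroupOf Nm) = (t : Nm ⧸ W.subgroupOf Nm) at ht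
      rw [QuotientGroup.eq, mul_inv_rev, mul_assoc] at ht
      have h1 := (inferInstance : (W.subgroupOf Nm).Normal).conj_mem _ ht t
      have h2 : (⟨g, hSN hgS⟩ : Nm) ∈ W.subgroupOf Nm := by
        have := inv_mem h1
        simpa [mul_assoc] using this
      exact hgW (Subgroup.mem_subgroupOf.1 h2)
    · rw [← Nat.card_eq_fintype_card]; exact hidx
  -- the two halves of the class
  have hNp : ∀ k : Nm, (k : G) • p = p := fun k => k.2.2
  let C1 (x0 : G) : Type _ := {y : G // ∃ k : Nm, χ k = 1 ∧ y = (k : G) * x0 * (k : G)⁻¹}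
  have hin : ∀ (x0 : G), x0 ∈ W → Bad z x0 → ∀ y : C1 x0, Bad z y.1 ∧ y.1 ∈ W := by
    rintro x0 hx0 hb ⟨y, k, -, rfl⟩
    exact ⟨hb.conj _, (Subgroup.mem_normalizer_iff.1 k.2.1 x0).1 hx0⟩
  set g' : G := g * x * g⁻¹ with hg'
  have hg'W : g' ∈ W := (Subgroup.mem_normalizer_iff.1 (hSN hgS).1 x).1 hxW
  have hcomm1 : ∀ y : G, Bad z y → y ∈ W → Commute x y →
      ∃ k : Nm, χ k = 1 ∧ y = (k : G) * x * (k : G)⁻¹ := by
    intro y hy hyW hxy
    rcases eq_or_ne y x with rfl | hne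
    · exact ⟨1, map_one χ, by simp⟩
    obtain ⟨d, hd, hdp, hxd, rfl⟩ := h.comm_bad hx hy hxy hne hxp (hWp y hyW)
    obtain ⟨e, he, heq⟩ := h.exists_grp_conj hx hxp (Or.inr ⟨hd, hdp⟩) hxd
    exact ⟨⟨e, hWN (hEW he)⟩, hEker e he, heq.symm⟩
  have hdisj : ∀ y : C1 x, ∀ y' : C1 g', y.1 ≠ y'.1 := by
    rintro ⟨_, k, hk, rfl⟩ ⟨_, k', hk', rfl⟩ e
    set c : Nm := k⁻¹ * k' * ⟨g, hSN hgS⟩ with hcdef
    have hxc : Commute x (c : G) := by
      refine (mul_inv_eq_iff_eq_mul.1 ?_).symm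
      rw [hcdef]
      simp only [Subgroup.coe_mul, Subgroup.coe_inv]
      calc (k : G)⁻¹ * k' * g * x * ((k : G)⁻¹ * k' * g)⁻¹
          = (k : G)⁻¹ * ((k' : G) * (g * x * g⁻¹) * (k' : G)⁻¹) * k := by group
        _ = x := by
          rw [← hg', ← (show (k : G) * x * (k : G)⁻¹ = (k' : G) * g' * (k' : G)⁻¹ from e)]; group
    have h1 := hCker _ hxc (hNp c)
    change χ c = 1 at h1
    rw [hcdef, map_mul, map_mul, map_inv, hk, hk', hgχ] at h1
    exact absurd h1 (by decide)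
  -- the commutator with `x` is equivariant
  have hδ : ∀ (x0 : G), x0 ∈ W → Bad z x0 →
      ∃ u : ℕ, Nat.card {y : C1 x0 // ¬ Commute x y.1} = a * u := by
    intro x0 hx0 hb
    let Z := {y : C1 x0 // ¬ Commute x y.1}
    have hval : ∀ y : Z, IsConj z (x * (y.1.1 * x * y.1.1⁻¹)) ∧
        (x * (y.1.1 * x * y.1.1⁻¹)) • p = p ∧ Commute x (x * (y.1.1 * x * y.1.1⁻¹)) := by
      intro y
      obtain ⟨-, hyW⟩ := hin x0 hx0 hb y.1
      obtain ⟨e, he, heq⟩ := hWx _ hyW
      rw [heq]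
      have hxe : x * e * x⁻¹ ∈ h.toRes.grp p := h.toRes.grp_conj hxp he
      rw [invol_inv hx.invol] at hxe
      have hd : x * (e * x * e⁻¹) = x * e * x * e := by
        rw [inv_eq_of_mul_eq_one_right (h.toRes.grp_sq he)]; group
      have hmem : x * (e * x * e⁻¹) ∈ h.toRes.grp p := by rw [hd]; exact mul_mem hxe he
      refine ⟨((h.toRes.mem_grp.1 hmem).resolve_left fun h1 => y.2 ?_).1,
        h.toRes.grp_smul hmem, ?_⟩
      · have h2 : y.1.1 * x * y.1.1⁻¹ = x := by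
          rw [heq]
          exact (inv_eq_of_mul_eq_one_right h1).symm.trans (invol_inv hx.invol)
        exact (mul_inv_eq_iff_eq_mul.1 h2).symm
      · rw [hd]
        show x * (x * e * x * e) = x * e * x * e * x
        symm
        calc x * e * x * e * x = (x * e * x) * (e * x) := by group
          _ = x * (x * ((x * e * x) * e) * x) := by
            rw [show x * (x * ((x * e * x) * e) * x) = (x * x) * ((x * e * x) * e) * x by group,
              invol_mul_self hx.invol]; group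
          _ = x * ((x * x) * e * x * e * x) := by group
          _ = x * (e * (x * e * x)) := by rw [invol_mul_self hx.invol]; group
          _ = x * (x * e * x * e) := by rw [(h.toRes.grp_commute he hxe).eq]
    let δ : Z → CAt z ({x} : Set G) p := fun y =>
      ⟨x * (y.1.1 * x * y.1.1⁻¹), (hval y).1, (hval y).2.1, fun t ht => by
        rw [Set.mem_singleton_iff.1 ht]; exact (hval y).2.2⟩
    letI := Fintype.ofFinite (CAt z ({x} : Set G) p)
    obtain ⟨d0, hd0, hd0p, hxd0⟩ := h.toRes.exists_member hx hxp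
    refine ⟨Nat.card {y : Z // δ y = ⟨d0, hd0, hd0p, fun t ht => by
      rw [Set.mem_singleton_iff.1 ht]; exact hxd0⟩}, ?_⟩
    rw [show Nat.card {y : C1 x0 // ¬ Commute x y.1} = Nat.card (Σ d, {y : Z // δ y = d}) from
      (Nat.card_congr (Equiv.sigmaFiberEquiv δ)).symm, Nat.card_sigma]
    rw [Finset.sum_congr rfl (g := fun _ => Nat.card {y : Z // δ y = ⟨d0, hd0, hd0p, fun t ht => by
      rw [Set.mem_singleton_iff.1 ht]; exact hxd0⟩}) fun d _ => ?_, Finset.sum_const, smul_eq_mul,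
      Finset.card_univ, ← Nat.card_eq_fintype_card]
    · exact congrArg (· * _) (h.cnt_uni x p hx hxp)
    obtain ⟨c, hxc, hcd⟩ := h.toRes.exists_conj_comm hx d.2.1 hd0 (d.2.2.2 x rfl) hxd0
    have hcp : c • p = p := h.crit.smul_eq_of_conj hd0 hcd d.2.2.1 hd0p
    have hcx : ∀ y : G, x * (c * y * c⁻¹ * x * (c * y * c⁻¹)⁻¹) = c * (x * (y * x * y⁻¹)) * c⁻¹ := by
      intro y
      have e1 : c⁻¹ * x * c = x := by rw [mul_assoc, hxc.eq, inv_mul_cancel_left]
      calc x * (c * y * c⁻¹ * x * (c * y * c⁻¹)⁻¹)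
          = c * ((c⁻¹ * x * c) * (y * (c⁻¹ * x * c) * y⁻¹)) * c⁻¹ := by group
        _ = c * (x * (y * x * y⁻¹)) * c⁻¹ := by rw [e1]
    have hconjC : ∀ (c' : G), Commute x c' → c' • p = p → ∀ y : Z,
        (∃ k : Nm, χ k = 1 ∧ c' * y.1.1 * c'⁻¹ = (k : G) * x0 * (k : G)⁻¹) ∧
          ¬ Commute x (c' * y.1.1 * c'⁻¹) := by
      intro c' hxc' hcp' y
      obtain ⟨k, hk, hy⟩ := y.1.2
      refine ⟨⟨⟨c', hCN c' hxc' hcp'⟩ * k, by rw [map_mul, hk, hCker c' hxc' hcp', one_mul],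
        by rw [hy]; simp only [Subgroup.coe_mul]; group⟩, fun hh => y.2 ?_⟩
      have := (hxc'.inv_right.mul_right hh).mul_right hxc'
      simpa [mul_assoc] using this
    refine Nat.card_congr
      { toFun := fun y => ⟨⟨⟨c * y.1.1.1 * c⁻¹, (hconjC c hxc hcp y.1).1⟩,
          (hconjC c hxc hcp y.1).2⟩, Subtype.ext ?_⟩
        invFun := fun y => ⟨⟨⟨c⁻¹ * y.1.1.1 * c⁻¹⁻¹,
          (hconjC c⁻¹ hxc.inv_right (inv_smul_eq_iff.2 hcp.symm) y.1).1⟩,
          (hconjC c⁻¹ hxc.inv_right (inv_smul_eq_iff.2 hcp.symm) y.1).2⟩, Subtype.ext ?_⟩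
        left_inv := fun y => Subtype.ext (Subtype.ext (Subtype.ext (by simp [mul_assoc])))
        right_inv := fun y => Subtype.ext (Subtype.ext (Subtype.ext (by simp [mul_assoc]))) }
    · show x * (c * y.1.1.1 * c⁻¹ * x * (c * y.1.1.1 * c⁻¹)⁻¹) = d0
      rw [hcx, show x * (y.1.1.1 * x * y.1.1.1⁻¹) = d.1 from congrArg Subtype.val y.2, hcd]
    · show x * (c⁻¹ * y.1.1.1 * c⁻¹⁻¹ * x * (c⁻¹ * y.1.1.1 * c⁻¹⁻¹)⁻¹) = d.1
      have h1 : x * (y.1.1.1 * x * y.1.1.1⁻¹) = d0 := congrArg Subtype.val y.2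
      have h2 := hcx (c⁻¹ * y.1.1.1 * c⁻¹⁻¹)
      rw [show c * (c⁻¹ * y.1.1.1 * c⁻¹⁻¹) * c⁻¹ = y.1.1.1 by group, h1] at h2
      exact (mul_left_cancel (mul_right_cancel (hcd.trans h2))).symm
  -- the sizes
  have hO : Nat.card (C1 x) = Nat.card (C1 g') := by
    have hconj : ∀ (k : Nm), χ k = 1 →
        χ (⟨g, hSN hgS⟩ * k * (⟨g, hSN hgS⟩ : Nm)⁻¹) = 1 ∧
        χ ((⟨g, hSN hgS⟩ : Nm)⁻¹ * k * ⟨g, hSN hgS⟩) = 1 := fun k hk => by
      constructor <;> rw [map_mul, map_mul, map_inv, hk, mul_one] <;>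
        first | exact mul_inv_cancel _ | exact inv_mul_cancel _
    refine Nat.card_congr
      { toFun := fun y => ⟨g * y.1 * g⁻¹, ?_⟩
        invFun := fun y => ⟨g⁻¹ * y.1 * g, ?_⟩
        left_inv := fun y => Subtype.ext (by simp [mul_assoc])
        right_inv := fun y => Subtype.ext (by simp [mul_assoc]) }
    · obtain ⟨k, hk, hy⟩ := y.2
      exact ⟨_, (hconj k hk).1, by rw [hy, hg']; simp only [Subgroup.coe_mul, Subgroup.coe_inv]; group⟩
    · obtain ⟨k, hk, hy⟩ := y.2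
      exact ⟨_, (hconj k hk).2, by rw [hy, hg']; simp only [Subgroup.coe_mul, Subgroup.coe_inv]; group⟩
  obtain ⟨u, hu⟩ := hδ x hxW hx
  obtain ⟨v, hv⟩ := hδ g' hg'W (hx.conj g)
  have hC2 : Nat.card {y : C1 g' // ¬ Commute x y.1} = Nat.card (C1 g') :=
    Nat.card_congr (Equiv.subtypeUnivEquiv fun y hh => by
      obtain ⟨hyb, hyW⟩ := hin g' hg'W (hx.conj g) y
      obtain ⟨k, hk, hy⟩ := hcomm1 y.1 hyb hyW hh
      exact hdisj ⟨y.1, k, hk, hy⟩ y rfl)
  have hC1 : Nat.card {y : C1 x // Commute x y.1} = a + 1 := by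
    rw [← h.cnt_uni x p hx hxp, cnt, ← h.card_grp_inf]
    refine Nat.card_congr (Equiv.symm (Equiv.ofBijective (fun d => ⟨⟨x * d.1, ?_⟩, ?_⟩) ⟨?_, ?_⟩))
    · obtain ⟨e, he, heq⟩ := h.exists_grp_conj hx hxp d.2.1
        (Commute.symm (Subgroup.mem_centralizer_singleton_iff.1 d.2.2))
      exact ⟨⟨e, hWN (hEW he)⟩, hEker e he, heq.symm⟩
    · exact (Commute.refl x).mul_right (Commute.symm (Subgroup.mem_centralizer_singleton_iff.1 d.2.2))
    · intro d d' hdd
      exact Subtype.ext (mul_left_cancel (congrArg (fun t => t.1.1) hdd))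
    · rintro ⟨y, hy⟩
      obtain ⟨hyb, hyW⟩ := hin x hxW hx y
      rcases eq_or_ne y.1 x with hyx | hne
      · exact ⟨1, Subtype.ext (Subtype.ext (by simp [hyx]))⟩
      obtain ⟨d, hd, hdp, hxd, heq⟩ := h.comm_bad hx hyb hy hne hxp (hWp y.1 hyW)
      exact ⟨⟨d, Or.inr ⟨hd, hdp⟩, Subgroup.mem_centralizer_singleton_iff.2 hxd.symm.eq⟩,
        Subtype.ext (Subtype.ext heq.symm)⟩
  have hsplit : Nat.card (C1 x) =
      Nat.card {y : C1 x // Commute x y.1} + Nat.card {y : C1 x // ¬ Commute x y.1} := by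
    rw [← Nat.card_sum]
    exact (Nat.card_congr (Equiv.sumCompl _)).symm
  rw [hO, ← hC2, hv, hC1, hu] at hsplit
  have hdvd : a ∣ 1 := by
    have h1 : a ∣ a * v := Dvd.intro v rfl
    rw [hsplit, show a + 1 + a * u = a * (u + 1) + 1 by ring] at h1
    exact (Nat.dvd_add_right (Dvd.intro _ rfl)).1 h1
  have := h.le
  have := Nat.le_of_dvd one_pos hdvd
  omega

end Uni

end CfsgLib.SECrit.Small
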