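import Cfsg.Agent.Lib.Invol.SECriterion.SmallType.Identity

/-!
# The strong embedding criterion, small type: the two-powers

The number of fixed points of a bad involution is one more than a two-power, divisible by the order
of the centralized part of the group at a point; two types do not occur together and the number of
fixed points is the same for all bad involutions.
-/

set_option autoImplicit false

namespace CfsgLib.SECrit.Small

open CfsgLib.Invol

theorem eq_of_two_pow_mul_odd {A B u w : ℕ} (hu : Odd u) (hw : Odd w)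
    (h : 2 ^ A * u = 2 ^ B * w) : A = B ∧ u = w := by
  have key : ∀ {A B u w : ℕ}, Odd u → A ≤ B → 2 ^ A * u = 2 ^ B * w → A = B := by
    intro A B u w hu hAB h
    obtain ⟨k, rfl⟩ := Nat.exists_eq_add_of_le hAB
    rw [pow_add, mul_assoc] at h
    rcases k with _ | k
    · rfl
    · rw [Nat.eq_of_mul_eq_mul_left (Nat.two_pow_pos A) h] at hu
      exact absurd ((even_two.pow_of_ne_zero (by omega)).mul_right w) (Nat.not_even_iff_odd.2 hu)
  obtain rfl : A = B := (le_total A B).elim (fun hh => key hu hh h) fun hh => (key hw hh h.symm).symm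
  exact ⟨rfl, Nat.eq_of_mul_eq_mul_left (Nat.two_pow_pos A) h⟩

/-- `q` and `s` two-powers, `q ∣ s`, `(K) (q + 1) = s (2 q + s (q - 1))`. -/
theorem split_arith {β i K : ℕ} (hβ : 1 ≤ β)
    (h : K * (2 ^ β + 1) = 2 ^ (β + i) * (2 * 2 ^ β + 2 ^ (β + i) * (2 ^ β - 1))) :
    i ≠ 1 ∧ (i = 0 → K = 2 ^ β * 2 ^ β) := by
  obtain ⟨q, hq⟩ : ∃ q, 2 ^ β = q + 1 := ⟨2 ^ β - 1, by have := Nat.two_pow_pos β; omega⟩
  refine ⟨?_, ?_⟩
  · rintro rfl
    have e : K * (2 ^ β + 1) = 2 ^ (β + 1 + 1 + β + β) := by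
      rw [h]; simp only [pow_add, pow_one, hq, Nat.add_sub_cancel]; ring
    obtain ⟨k, -, hk⟩ := (Nat.dvd_prime_pow Nat.prime_two).1 ⟨K, e.symm.trans (mul_comm _ _)⟩
    have hodd : Odd (2 ^ β + 1) := (even_two.pow_of_ne_zero (by omega)).add_one
    rw [hk, Nat.odd_pow_iff (by rintro rfl; rw [pow_zero] at hk; omega)] at hodd
    exact absurd hodd (by decide)
  · rintro rfl
    rw [add_zero, hq, Nat.add_sub_cancel] at h
    rw [hq]
    exact Nat.eq_of_mul_eq_mul_right (show 0 < q + 1 + 1 by omega) (h.trans (by ring))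

variable {G : Type*} [Group G] {M : Subgroup G} {z : G} [Finite G]

namespace Res

variable (h : Res M z)
include h

theorem card_fix_sub {x : G} {p : G ⧸ M} (hp : x • p = p) :
    Nat.card {a : G ⧸ M // x • a = a ∧ a ≠ p} = fix M x - 1 := by
  classical
  rw [fix, ← Nat.card_congr (Equiv.optionSubtypeNe (⟨p, hp⟩ : {a : G ⧸ M // x • a = a})),
    Finite.card_option, Nat.add_sub_cancel]
  exact Nat.card_congr ⟨fun a => ⟨⟨a.1, a.2.1⟩, fun e => a.2.2 (congrArg Subtype.val e)⟩,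
    fun a => ⟨a.1.1, a.1.2, fun e => a.2 (Subtype.ext e)⟩, fun _ => rfl, fun _ => rfl⟩

/-- The centralized part of the group at a point is free on the other fixed points. -/
theorem dvd_fix {x : G} {p : G ⧸ M} (hp : x • p = p) :
    cnt z x p + 1 ∣ fix M x - 1 := by
  rw [← h.card_fix_sub hp, cnt, ← h.card_grp_inf]
  set H := h.grp p ⊓ Subgroup.centralizer ({x} : Set G) with hH
  have hcomm : ∀ g : H, Commute x (g : G) := fun g => Subgroup.mem_centralizer_iff.1 g.2.2 x rfl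
  letI : MulAction H {a : G ⧸ M // x • a = a ∧ a ≠ p} :=
    { smul := fun g a => ⟨(g : G) • a.1,
        by rw [smul_smul, (hcomm g).eq, mul_smul, a.2.1],
        fun e => a.2.2 (smul_left_cancel (g : G) (e.trans (h.grp_smul g.2.1).symm))⟩
      one_smul := fun a => Subtype.ext (one_smul G a.1)
      mul_smul := fun g k a => Subtype.ext (mul_smul (g : G) k a.1) }
  have hfree : ∀ a : {a : G ⧸ M // x • a = a ∧ a ≠ p}, MulAction.stabilizer H a = ⊥ := fun a =>
    (Subgroup.eq_bot_iff_forall _).2 fun g hg => by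
      rcases h.mem_grp.1 g.2.1 with hg' | ⟨hz, hgp⟩
      · exact Subtype.ext hg'
      · exact absurd (h.crit.fix_unique hz (congrArg Subtype.val hg : (g : G) • a.1 = a.1) hgp) a.2.2
  exact Dvd.intro_left _ ((Nat.card_congr (MulAction.selfEquivOrbitsQuotientProd hfree)).trans
    (Nat.card_prod _ _)).symm

theorem exists_commuting_pair {x : G} {p : G ⧸ M} (hc : 2 ≤ cnt z x p) :
    ∃ d e : G, IsConj z d ∧ IsConj z e ∧ Commute x d ∧ Commute x e ∧ Commute d e ∧ d ≠ e := by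
  obtain ⟨⟨d, hd, hdp, hdx⟩, ⟨e, he, hep, hex⟩, hne⟩ :=
    @exists_pair_ne (CAt z ({x} : Set G) p) (Finite.one_lt_card_iff_nontrivial.1 hc)
  exact ⟨d, e, hd, he, hdx x rfl, hex x rfl, h.comm d e p hd he hdp hep,
    fun hh => hne (Subtype.ext hh)⟩

/-- One less than the number of fixed points is a two-power. -/
theorem exists_fix_pow {x : G} (hx : Bad z x) {p : G ⧸ M} (hp : x • p = p)
    (hc : 2 ≤ cnt z x p) : ∃ j : ℕ, fix M x = 2 ^ j + 1 := by
  haveI : Fact (Nat.Prime 2) := ⟨Nat.prime_two⟩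
  obtain ⟨q, hqp, hq⟩ := h.bad_two_fix hx hp
  obtain ⟨P, hP, hPc, hPp, -, htr, -⟩ := h.reg x hx (h.exists_commuting_pair hc) p hp
  obtain ⟨j, hj⟩ := hP.index (MulAction.stabilizer P q)
  have horb : MulAction.orbit P q = {a : G ⧸ M | x • a = a ∧ a ≠ p} := by
    ext a
    constructor
    · rintro ⟨g, rfl⟩
      refine ⟨?_, fun e => hqp (smul_left_cancel (g : G) (e.trans (hPp g g.2).symm))⟩
      show x • (g : G) • q = (g : G) • q
      rw [smul_smul, (hPc g g.2).eq, mul_smul, hq]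
    · rintro ⟨ha, hap⟩
      obtain ⟨g, hg, hgq⟩ := htr q a hq ha hqp hap
      exact ⟨⟨g, hg⟩, hgq⟩
  refine ⟨j, ?_⟩
  rw [MulAction.index_stabilizer, horb, ← Nat.card_coe_set_eq] at hj
  have h1 : Nat.card {a : G ⧸ M // x • a = a ∧ a ≠ p} = 2 ^ j := hj
  rw [h.card_fix_sub hp] at h1
  have := h.two_le_fix hx
  omega

/-- The two-powers of a bad involution of the small type with at least three members. -/
theorem small_pows {x : G} (hx : Bad z x) {p : G ⧸ M} (hp : x • p = p)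
    (hlt : cnt z x p < deg M z) (hc : 2 ≤ cnt z x p) :
    ∃ β i : ℕ, 2 ≤ β ∧ i ≠ 1 ∧ cnt z x p + 1 = 2 ^ β ∧ fix M x = 2 ^ (β + i) + 1 ∧
      deg M z + 1 = 2 ^ β * 2 ^ β ∧
      (Nat.card (G ⧸ M) - 1) * (2 ^ β + 1) =
        2 ^ (β + i) * (2 * 2 ^ β + 2 ^ (β + i) * (2 ^ β - 1)) ∧
      (i = 0 → Nat.card (G ⧸ M) - 1 = 2 ^ β * 2 ^ β) := by
  obtain ⟨β, hβ⟩ := h.exists_card_CAt ({x} : Set G) p
  rw [← cnt] at hβ
  obtain ⟨j, hj⟩ := h.exists_fix_pow hx hp hc
  have hdvd := h.dvd_fix hp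
  rw [hβ, hj, Nat.add_sub_cancel] at hdvd
  obtain ⟨i, rfl⟩ := Nat.exists_eq_add_of_le (Nat.pow_dvd_pow_iff_le_right'.1 hdvd)
  have hβ2 : 2 ≤ β := by
    by_contra hh
    interval_cases β <;> omega
  have hid := h.small_identity hx hp hlt
  have hle : fix M x ≤ Nat.card (G ⧸ M) := by have := h.card_moved x; omega
  rw [hj, Nat.add_sub_cancel, show cnt z x p + 2 = 2 ^ β + 1 by omega,
    show cnt z x p = 2 ^ β - 1 by omega] at hid
  rw [hj] at hle
  have key : (Nat.card (G ⧸ M) - 1) * (2 ^ β + 1) =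
      2 ^ (β + i) * (2 * 2 ^ β + 2 ^ (β + i) * (2 ^ β - 1)) := by
    obtain ⟨K, hK⟩ := Nat.exists_eq_add_of_le hle
    have := Nat.two_pow_pos (β + i)
    rw [hK] at hid ⊢
    rw [show 2 ^ (β + i) + 1 + K - (2 ^ (β + i) + 1) = K by omega] at hid
    rw [show 2 ^ (β + i) + 1 + K - 1 = 2 ^ (β + i) + K by omega, add_mul, hid]
    obtain ⟨q, hq⟩ : ∃ q, 2 ^ β = q + 1 := ⟨2 ^ β - 1, by omega⟩
    rw [hq, Nat.add_sub_cancel]; ring
  refine ⟨β, i, hβ2, (split_arith (by omega) key).1, hβ, hj, ?_, key,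
    (split_arith (by omega) key).2⟩
  rw [(h.small_type hx hp hlt).1, hβ, pow_two]

/-- The equal type does not occur with the small type. -/
theorem lt_of_small {x : G} (hx : Bad z x) {p : G ⧸ M} (hp : x • p = p)
    (hlt : cnt z x p < deg M z) (hc : 2 ≤ cnt z x p) {y : G} (hy : Bad z y) {q : G ⧸ M}
    (hq : y • q = q) : cnt z y q < deg M z := by
  refine lt_of_le_of_ne (h.cnt_le q) fun heq => ?_
  obtain ⟨β, i, hβ, hi, hcx, hfx, hm, hK, hK0⟩ := h.small_pows hx hp hlt hc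
  obtain ⟨j, hj⟩ := h.exists_fix_pow hy hq (by omega)
  have hdvd := h.dvd_fix hq
  rw [heq, hm, ← pow_add, hj, Nat.add_sub_cancel] at hdvd
  obtain ⟨v, rfl⟩ := Nat.exists_eq_add_of_le (Nat.pow_dvd_pow_iff_le_right'.1 hdvd)
  have hid := h.equal_identity hy hq heq (by omega)
  have hle : fix M y ≤ Nat.card (G ⧸ M) := by have := h.card_moved y; omega
  rw [hj] at hid hle
  obtain ⟨m, hm'⟩ : ∃ m, deg M z = m := ⟨_, rfl⟩
  rw [hm'] at hm hid
  rw [Nat.add_sub_cancel] at hid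
  have key : Nat.card (G ⧸ M) - 1 =
      2 ^ (β + β + v) * (2 ^ (β + β) * (1 + 2 ^ v * m)) := by
    obtain ⟨K, hK⟩ := Nat.exists_eq_add_of_le hle
    have := Nat.two_pow_pos (β + β + v)
    rw [hK] at hid ⊢
    rw [show 2 ^ (β + β + v) + 1 + K - (2 ^ (β + β + v) + 1) = K by omega] at hid
    rw [show 2 ^ (β + β + v) + 1 + K - 1 = 2 ^ (β + β + v) + K by omega, hid,
      show 2 ^ (β + β + v) = 2 ^ (β + β) * 2 ^ v from pow_add 2 _ _, pow_add 2 β β, ← hm]
    ring
  have hp1 := Nat.two_pow_pos v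
  rcases Nat.eq_zero_or_pos i with rfl | hi0
  · rw [hK0 rfl, ← pow_add] at key
    have h1 : 2 ^ (β + β) * 1 < 2 ^ (β + β + v) * (2 ^ (β + β) * (1 + 2 ^ v * m)) := by
      rw [pow_add 2 (β + β) v]
      have : 2 ≤ 2 ^ (β + β) := Nat.le_self_pow (by omega) 2
      calc 2 ^ (β + β) * 1 < 2 ^ (β + β) * 2 ^ (β + β) :=
            Nat.mul_lt_mul_of_pos_left (by omega) (Nat.two_pow_pos _)
        _ ≤ _ := Nat.mul_le_mul (Nat.le_mul_of_pos_right _ hp1)
            (Nat.le_mul_of_pos_right _ (by omega))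
    omega
  · obtain ⟨k, rfl⟩ : ∃ k, i = k + 2 := ⟨i - 2, by omega⟩
    rw [key] at hK
    have hodd1 : Odd (1 + 2 ^ (k + 1) * (2 ^ β - 1)) :=
      ((even_two.pow_of_ne_zero (by omega)).mul_right _).one_add
    have hr : 2 ^ (β + (k + 2)) * (2 * 2 ^ β + 2 ^ (β + (k + 2)) * (2 ^ β - 1)) =
        2 ^ (β + β + (k + 3)) * (1 + 2 ^ (k + 1) * (2 ^ β - 1)) := by
      simp only [pow_add, pow_one]; ring
    rw [hr] at hK
    have hβodd : Odd (2 ^ β + 1) := (even_two.pow_of_ne_zero (by omega)).add_one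
    obtain ⟨q, hq'⟩ : ∃ q, 2 ^ β = q + 1 := ⟨2 ^ β - 1, by omega⟩
    have hq4 : 4 ≤ 2 ^ β := Nat.pow_le_pow_right (n := 2) (by norm_num) hβ
    rcases Nat.eq_zero_or_pos v with rfl | hv
    · have hl : 2 ^ (β + β + 0) * (2 ^ (β + β) * (1 + 2 ^ 0 * m)) * (2 ^ β + 1) =
          2 ^ (β + β + (β + β) + (β + β)) * (2 ^ β + 1) := by
        rw [show 2 ^ (β + β) = 2 ^ β * 2 ^ β from pow_add 2 β β]
        simp only [pow_add, pow_zero]
        rw [← hm]; ring
      rw [hl] at hK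
      obtain ⟨e1, e2⟩ := eq_of_two_pow_mul_odd hβodd hodd1 hK
      have : 2 ^ β ≤ 2 ^ k := Nat.pow_le_pow_right (n := 2) (by norm_num) (by omega)
      rw [hq', Nat.add_sub_cancel, pow_succ] at e2
      nlinarith
    · have hl : 2 ^ (β + β + v) * (2 ^ (β + β) * (1 + 2 ^ v * m)) * (2 ^ β + 1) =
          2 ^ (β + β + v + (β + β)) * ((1 + 2 ^ v * m) * (2 ^ β + 1)) := by
        simp only [pow_add]; ring
      rw [hl] at hK
      have hodd2 : Odd (1 + 2 ^ v * m) := ((even_two.pow_of_ne_zero (by omega)).mul_right _).one_add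
      obtain ⟨e1, e2⟩ := eq_of_two_pow_mul_odd (hodd2.mul hβodd) hodd1 hK
      have e3 : 2 ^ (k + 1) * 4 = 2 ^ v * (2 ^ β * 2 ^ β) := by
        rw [← pow_add, ← pow_add, show (4 : ℕ) = 2 ^ 2 from rfl, ← pow_add]
        exact congrArg _ (by omega)
      rw [hq', Nat.add_sub_cancel] at e2
      rw [hq'] at hm e3 hq4
      rw [← hm] at e3
      have : 2 ^ v * ((m + 1) * q) ≤ 2 ^ v * (4 * (m * (q + 2))) :=
        Nat.mul_le_mul_left _ (by nlinarith)
      nlinarith

/-- All bad involutions fix the same number of points. -/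
theorem small_uniform {x : G} (hx : Bad z x) {p : G ⧸ M} (hp : x • p = p)
    (hlt : cnt z x p < deg M z) (hc : 2 ≤ cnt z x p) {y : G} (hy : Bad z y) {q : G ⧸ M}
    (hq : y • q = q) : cnt z y q = cnt z x p ∧ fix M y = fix M x := by
  have hlt' := h.lt_of_small hx hp hlt hc hy hq
  have hcnt : cnt z y q = cnt z x p := by
    have := (h.small_type hx hp hlt).1
    have := (h.small_type hy hq hlt').1
    nlinarith
  refine ⟨hcnt, ?_⟩
  have k1 := h.small_identity hx hp hlt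
  have k2 := h.small_identity hy hq hlt'
  rw [hcnt] at k2
  have n1 : fix M x ≤ Nat.card (G ⧸ M) := by have := h.card_moved x; omega
  have n2 : fix M y ≤ Nat.card (G ⧸ M) := by have := h.card_moved y; omega
  have f1 := h.two_le_fix hx
  have f2 := h.two_le_fix hy
  generalize fix M x = f at *
  generalize fix M y = g at *
  generalize cnt z x p = a at *
  generalize Nat.card (G ⧸ M) = N at *
  obtain ⟨K, rfl⟩ := Nat.exists_eq_add_of_le n1
  obtain ⟨L, hL⟩ := Nat.exists_eq_add_of_le n2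
  rw [Nat.add_sub_cancel_left] at k1
  rw [hL, Nat.add_sub_cancel_left] at k2
  obtain ⟨s, rfl⟩ := Nat.exists_eq_add_of_le f1
  obtain ⟨t, rfl⟩ := Nat.exists_eq_add_of_le f2
  rw [show 2 + s - 1 = 1 + s by omega] at k1
  rw [show 2 + t - 1 = 1 + t by omega] at k2
  rcases lt_trichotomy s t with hst | hst | hst
  · obtain ⟨w, rfl⟩ := Nat.exists_eq_add_of_lt hst
    obtain rfl : K = L + (w + 1) := by omega
    have : (2 + s) * a * (1 + s) ≤ (2 + (s + w + 1)) * a * (1 + (s + w + 1)) := by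
      gcongr <;> omega
    nlinarith
  · rw [hst]
  · obtain ⟨w, rfl⟩ := Nat.exists_eq_add_of_lt hst
    obtain rfl : L = K + (w + 1) := by omega
    have : (2 + t) * a * (1 + t) ≤ (2 + (t + w + 1)) * a * (1 + (t + w + 1)) := by
      gcongr <;> omega
    nlinarith

end Res

end CfsgLib.SECrit.Small
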