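import Cfsg.Agent.Lib.Invol.SECriterion.SmallType.Basic

/-!
# The strong embedding criterion, small type: the counting identity

A bad involution moves a point exactly as a unique part of the members centralizing it does, so the
number of moved points is determined by the number of fixed points.
-/

set_option autoImplicit false

namespace CfsgLib.SECrit.Small

open CfsgLib.Invol

variable {G : Type*} [Group G] {M : Subgroup G} {z : G} [Finite G]

namespace Res

variable (h : Res M z)
include h

theorem exists_pair {x : G} (hx : Bad z x) : ∃ p q : G ⧸ M, p ≠ q ∧ x • p = p ∧ x • q = q := by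
  obtain ⟨p, hp⟩ := exists_fix h.crit hx.invol
  obtain ⟨q, hne, hq⟩ := h.bad_two_fix hx hp
  exact ⟨p, q, hne.symm, hp, hq⟩

theorem two_le_fix {x : G} (hx : Bad z x) : 2 ≤ fix M x := by
  obtain ⟨p, q, hne, hp, hq⟩ := h.exists_pair hx
  haveI : Nontrivial {a : G ⧸ M // x • a = a} :=
    ⟨⟨p, hp⟩, ⟨q, hq⟩, fun e => hne (congrArg Subtype.val e)⟩
  exact Finite.one_lt_card

/-- The members centralizing a bad involution are conjugate in its centralizer. -/
theorem exists_conj_comm {x : G} (hx : Bad z x) {d e : G} (hd : IsConj z d) (he : IsConj z e)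
    (hxd : Commute x d) (hxe : Commute x e) : ∃ u : G, Commute x u ∧ u * d * u⁻¹ = e := by
  obtain ⟨p, q, hne, hp, hq⟩ := h.exists_pair hx
  have hpow : ∀ {t : G}, Commute x t → ∀ y ∈ Subgroup.zpowers x, Commute y t := fun ht y hy => by
    obtain ⟨k, rfl⟩ := Subgroup.mem_zpowers_iff.1 hy
    exact ht.zpow_left k
  obtain ⟨u, hu, hud⟩ := h.crit.exists_conj_commuting (Crit.isPGroup_zpowers_invol hx.invol) hne
    (Crit.forall_zpowers_fix hp) (Crit.forall_zpowers_fix hq) hd he (hpow hxd) (hpow hxe)
  exact ⟨u, hu x (Subgroup.mem_zpowers x), hud⟩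

theorem fix_mul_eq {x : G} (hx : Bad z x) {d e : G} (hd : IsConj z d) (he : IsConj z e)
    (hxd : Commute x d) (hxe : Commute x e) : fix M (x * d) = fix M (x * e) := by
  obtain ⟨u, hu, hud⟩ := h.exists_conj_comm hx hd he hxd hxe
  rw [← fix_conj (M := M) (x * d) u, ← hud]
  congr 1
  calc u * (x * d) * u⁻¹ = u * x * d * u⁻¹ := by group
    _ = x * u * d * u⁻¹ := by rw [hu.eq]
    _ = x * (u * d * u⁻¹) := by group

theorem card_moved (x : G) :
    Nat.card {a : G ⧸ M // a ∈ (Set.univ : Set (G ⧸ M)) ∧ x • a ≠ a} + fix M x =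
      Nat.card (G ⧸ M) := by
  classical
  rw [fix, ← Nat.card_sum]
  exact Nat.card_congr ((Equiv.sumCongr (Equiv.subtypeEquivRight fun a => by simp)
    (Equiv.refl _)).trans ((Equiv.sumComm _ _).trans (Equiv.sumCompl fun a => x • a = a)))

/-- The identity of a bad involution `x` and its product with a member. -/
theorem identity {x : G} (hx : Bad z x) {p : G ⧸ M} (hp : x • p = p) {d : G} (hd : IsConj z d)
    (hxd : Commute x d) :
    (Nat.card (G ⧸ M) - fix M x) * deg M z =
      fix M x * cnt z x p * cnt z x p * (fix M (x * d) - 1) := by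
  have hcp := h.cnt_pos hx.invol hp
  obtain ⟨r, hr⟩ := h.cnt_dvd hx hp
  have key := h.crit.moved_mul_eq (A := (∅ : Set G)) (r := x) (Φ := Set.univ)
    (fun _ _ _ _ _ => Set.mem_univ _) (fun _ _ _ _ _ => Set.mem_univ _) (R := r)
    (f' := fix M (x * d)) (fun a _ ha => by
      rw [insert_empty_eq]
      refine Nat.eq_of_mul_eq_mul_right hcp ?_
      rw [h.card_cswap hx hp ha, hr, mul_comm])
    (fun e he hxe => by
      rw [← h.fix_mul_eq hx he hd (hxe x (Set.mem_insert _ _)) hxd]
      exact Nat.card_congr (Equiv.subtypeEquivRight fun a => by simp))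
  rw [insert_empty_eq, h.card_dcomm hx hp] at key
  rw [← h.card_moved x, Nat.add_sub_cancel, hr, ← mul_assoc, mul_comm _ (cnt z x p), mul_assoc, key]
  ring

/-- For the small type a product with a member fixes as many points. -/
theorem fix_mul_small {x : G} (hx : Bad z x) {p : G ⧸ M} (hp : x • p = p)
    (hlt : cnt z x p < deg M z) {d : G} (hd : IsConj z d) (hxd : Commute x d) :
    fix M (x * d) = fix M x := by
  obtain ⟨c, hc⟩ := h.crit.fix_exists hd
  have hxc : x • c = c := h.crit.smul_of_commute hd hxd hc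
  obtain ⟨e, -, he⟩ := (h.small_type hx hxc (h.cnt_eq hx.invol hp hxc ▸ hlt)).2 d
    (Or.inr ⟨hd, hc⟩) hxd
  rw [← he, fix_conj]

theorem exists_member {x : G} (hx : Bad z x) {p : G ⧸ M} (hp : x • p = p) :
    ∃ d : G, IsConj z d ∧ d • p = p ∧ Commute x d :=
  h.crit.exists_commuting_invol hx.invol hp

/-- **The count of the small type.** -/
theorem small_identity {x : G} (hx : Bad z x) {p : G ⧸ M} (hp : x • p = p)
    (hlt : cnt z x p < deg M z) :
    (Nat.card (G ⧸ M) - fix M x) * (cnt z x p + 2) = fix M x * cnt z x p * (fix M x - 1) := by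
  obtain ⟨d, hd, -, hxd⟩ := h.exists_member hx hp
  have key := h.identity hx hp hd hxd
  rw [h.fix_mul_small hx hp hlt hd hxd,
    show deg M z = cnt z x p * (cnt z x p + 2) by
      have := (h.small_type hx hp hlt).1
      nlinarith] at key
  refine Nat.eq_of_mul_eq_mul_left (h.cnt_pos hx.invol hp) ?_
  rw [show ∀ u v w : ℕ, u * (v * w) = v * (u * w) from fun u v w => by ring, key]
  ring

theorem bad_mul {x d : G} (hx : Bad z x) (hd : IsConj z d) (hxd : Commute x d) : Bad z (x * d) := by
  have hne : x ≠ d := fun e => hx.not_conj (e ▸ hd)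
  have hdo := h.crit.orderOf_conj hd
  refine ⟨mul_conj_invol hx.invol hdo hxd hne, fun hh => hx.not_conj ?_⟩
  have := h.mul _ d hh hd (hxd.mul_left (Commute.refl d)) fun e => invol_ne_one hx.invol (by
    calc x = x * d * d := by rw [mul_assoc, invol_mul_self hdo, mul_one]
      _ = 1 := by rw [e, invol_mul_self hdo])
  rwa [mul_assoc, invol_mul_self hdo, mul_one] at this

/-- The count of the equal type, if some bad involution is of the small type. -/
theorem equal_identity {y : G} (hy : Bad z y) {p : G ⧸ M} (hp : y • p = p)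
    (heq : cnt z y p = deg M z) (hm : 2 ≤ deg M z) :
    Nat.card (G ⧸ M) - fix M y = fix M y * deg M z * (fix M y - 1) := by
  obtain ⟨d, hd, hdp, hyd⟩ := h.exists_member hy hp
  have hb := h.bad_mul hy hd hyd
  have hpb : (y * d) • p = p := by rw [mul_smul, hdp, hp]
  have k1 := h.identity hy hp hd hyd
  have k2 := h.identity hb hpb hd (hyd.mul_left (Commute.refl d))
  rw [mul_assoc y, invol_mul_self (h.crit.orderOf_conj hd), mul_one, h.cnt_mul hy hd hyd hp hpb,
    heq] at k2
  rw [heq] at k1
  have f1 := h.two_le_fix hy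
  have f2 := h.two_le_fix hb
  have hdp' : 0 < deg M z := by omega
  have n1 : fix M y ≤ Nat.card (G ⧸ M) := by have := h.card_moved y; omega
  have n2 : fix M (y * d) ≤ Nat.card (G ⧸ M) := by have := h.card_moved (y * d); omega
  have e1 : Nat.card (G ⧸ M) - fix M y = fix M y * deg M z * (fix M (y * d) - 1) :=
    Nat.eq_of_mul_eq_mul_right hdp' (by rw [k1]; ring)
  have e2 : Nat.card (G ⧸ M) - fix M (y * d) = fix M (y * d) * deg M z * (fix M y - 1) :=
    Nat.eq_of_mul_eq_mul_right hdp' (by rw [k2]; ring)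
  suffices heq' : fix M (y * d) = fix M y by rwa [heq'] at e1
  generalize Nat.card (G ⧸ M) = N at *
  obtain ⟨s, hs⟩ := Nat.exists_eq_add_of_le f1
  obtain ⟨t, ht⟩ := Nat.exists_eq_add_of_le f2
  obtain ⟨u, hu⟩ := Nat.exists_eq_add_of_le hm
  rw [hu] at e1 e2
  simp only [hs, ht] at e1 e2 n1 n2 ⊢
  rw [show 2 + s - 1 = 1 + s by omega] at e2
  rw [show 2 + t - 1 = 1 + t by omega] at e1
  rcases lt_trichotomy s t with hst | hst | hst
  · obtain ⟨w, rfl⟩ := Nat.exists_eq_add_of_lt hst; nlinarith [Nat.sub_add_cancel n1, Nat.sub_add_cancel n2]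
  · rw [hst]
  · obtain ⟨w, rfl⟩ := Nat.exists_eq_add_of_lt hst; nlinarith [Nat.sub_add_cancel n1, Nat.sub_add_cancel n2]

end Res

end CfsgLib.SECrit.Small
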