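import Cfsg.Agent.Lib.Invol.SECriterion.SmallType.Pairs

/-!
# The strong embedding criterion, small type: roots of a bad involution

An element whose square is a bad involution and which fixes two of its points acts on the members
centralizing the involution at a point as an involution with square root many fixed members; then
the involution fixes as few points as possible.
-/

set_option autoImplicit false

namespace CfsgLib.SECrit.Small

open CfsgLib.Invol

/-- `q = 2^(2k)`, `s = q * 2^i`, `s₀ = 2^(k+l)`: only `i = 0` satisfies both counts. -/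
theorem root_arith {k i l K : ℕ} (hk : 1 ≤ k)
    (h0 : 2 ^ (k + k + i) * (2 ^ k + 1) = 2 ^ (k + l) * (2 * 2 ^ k + 2 ^ (k + l) * (2 ^ k - 1)))
    (h1 : K * (2 ^ (k + k) + 1) =
      2 ^ (k + k + i) * (2 * 2 ^ (k + k) + 2 ^ (k + k + i) * (2 ^ (k + k) - 1))) : i = 0 := by
  obtain ⟨q, hq⟩ : ∃ q, 2 ^ k = q + 1 := ⟨2 ^ k - 1, by have := Nat.two_pow_pos k; omega⟩
  have hq1 : 1 ≤ q := by have := Nat.le_self_pow (show k ≠ 0 by omega) 2; omega
  have hodd : Odd (2 ^ k + 1) := (even_two.pow_of_ne_zero (by omega)).add_one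
  rcases l with _ | _ | l
  · have e : 2 ^ (k + 0) * (2 * 2 ^ k + 2 ^ (k + 0) * (2 ^ k - 1)) = 2 ^ (k + k) * (2 ^ k + 1) := by
      simp only [add_zero, pow_add, hq, Nat.add_sub_cancel]; ring
    obtain ⟨e1, -⟩ := eq_of_two_pow_mul_odd hodd hodd (h0.trans e)
    omega
  · have e : 2 ^ (k + 1) * (2 * 2 ^ k + 2 ^ (k + 1) * (2 ^ k - 1)) = 2 ^ (k + k + k + 2) * 1 := by
      simp only [pow_add, pow_one, hq, Nat.add_sub_cancel]; ring
    obtain ⟨-, e2⟩ := eq_of_two_pow_mul_odd hodd odd_one (h0.trans e)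
    omega
  · have e : 2 ^ (k + (l + 2)) * (2 * 2 ^ k + 2 ^ (k + (l + 2)) * (2 ^ k - 1)) =
        2 ^ (k + k + l + 3) * (1 + 2 ^ (l + 1) * (2 ^ k - 1)) := by
      simp only [pow_add, pow_one]; ring
    obtain ⟨e1, e2⟩ := eq_of_two_pow_mul_odd hodd
      (((even_two.pow_of_ne_zero (by omega)).mul_right _).one_add) (h0.trans e)
    rw [hq, Nat.add_sub_cancel, pow_succ] at e2
    rcases l with _ | l
    · simp only [pow_zero] at e2
      obtain rfl : k = 1 := by
        rcases k with _ | _ | k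
        · omega
        · rfl
        · have := Nat.pow_le_pow_right (n := 2) (by norm_num) (show 2 ≤ k + 2 by omega)
          omega
      obtain rfl : i = 3 := by omega
      norm_num at h1
      omega
    · have hp : 2 ≤ 2 ^ (l + 1) := Nat.le_self_pow (by omega) 2
      nlinarith

variable {G : Type*} [Group G] {M : Subgroup G} {z : G} [Finite G]

namespace Uni

variable {a : ℕ} (h : Uni M z a) {x r : G} (hx : Bad z x) (hr : r * r = x)
include h hx hr

theorem root_commute : Commute x r := by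
  show x * r = r * x
  rw [← hr, mul_assoc]

theorem root_smul {o : G ⧸ M} (ho : r • o = o) : x • o = o := by rw [← hr, mul_smul, ho, ho]

theorem isPGroup_root (A : Set G) (hA : A ⊆ ↑(Subgroup.zpowers r)) :
    IsPGroup 2 (Subgroup.closure A) := by
  haveI : Fact (Nat.Prime 2) := ⟨Nat.prime_two⟩
  have h4 : r ^ 2 ^ 2 = 1 := by
    rw [show (2 : ℕ) ^ 2 = 2 + 2 from rfl, pow_add, pow_two, hr, invol_mul_self hx.invol]
  obtain ⟨k, -, hk⟩ := (Nat.dvd_prime_pow Nat.prime_two).1 (orderOf_dvd_of_pow_eq_one h4)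
  exact (IsPGroup.of_card (n := k) (by rw [Nat.card_zpowers, hk]) :
    IsPGroup 2 (Subgroup.zpowers r)).to_le ((Subgroup.closure_le _).2 hA)

theorem insert_root_subset : insert r ({x} : Set G) ⊆ ↑(Subgroup.zpowers r) := by
  rintro y (rfl | hy)
  · exact Subgroup.mem_zpowers _
  · rw [Set.mem_singleton_iff.1 hy, ← hr]
    exact mul_mem (Subgroup.mem_zpowers r) (Subgroup.mem_zpowers r)

theorem root_cat_eq {o o' : G ⧸ M} (ho : r • o = o) (ho' : r • o' = o') :
    Nat.card (CAt z (insert r ({x} : Set G)) o) = Nat.card (CAt z (insert r ({x} : Set G)) o') := by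
  refine h.crit.card_CAt_eq (h.isPGroup_root hx hr _ (h.insert_root_subset hx hr)) ?_ ?_ <;>
    rintro y (rfl | hy)
  exacts [ho, by rw [Set.mem_singleton_iff.1 hy, h.root_smul hx hr ho], ho',
    by rw [Set.mem_singleton_iff.1 hy, h.root_smul hx hr ho']]

/-- The swaps commuting with `r` of a pair moved by it. -/
theorem root_swaps {o δ : G ⧸ M} (ho : r • o = o) (hδ : x • δ = δ) (hne : r • δ ≠ δ) :
    Nat.card (CSwap z (insert r ({x} : Set G)) δ (r • δ)) *
      Nat.card (CAt z (insert r ({x} : Set G)) o) = a := by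
  have hxr := h.root_commute hx hr
  have hrr : r • r • δ = δ := by rw [smul_smul, hr, hδ]
  refine (h.crit.card_swap_mul (A := ({x} : Set G)) hne.symm rfl hrr (fun d y hy => ?_)
    (fun d => ?_) fun g => ?_).trans (h.cnt_uni x δ hx hδ)
  · rw [Set.mem_singleton_iff.1 hy]
    exact (hxr.mul_right (d.2.2.2 x rfl)).mul_right hxr.inv_right
  · rw [hr]; exact d.2.2.2 x rfl
  obtain ⟨g, hg, hgδ, hgA⟩ := g
  have hrg : Commute r g := hgA r (Set.mem_insert _ _)
  have hxg : Commute x g := hgA x (Set.mem_insert_of_mem _ rfl)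
  obtain ⟨c, hc⟩ := h.crit.fix_exists hg
  have hrc : r • c = c := h.crit.smul_of_commute hg hrg hc
  have hgo := h.crit.orderOf_conj hg
  have hsq : g * r * (g * r) = x := by
    calc g * r * (g * r) = g * (r * g) * r := by group
      _ = (g * g) * (r * r) := by rw [hrg.eq]; group
      _ = x := by rw [invol_mul_self hgo, hr, one_mul]
  have hfix : (g * r) • δ = δ := by
    rw [mul_smul, ← hgδ, smul_smul, invol_mul_self hgo, one_smul]
  have hfixc : (g * r) • c = c := by rw [mul_smul, hrc, hc]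
  rw [h.root_cat_eq hx hsq hfix hfixc, h.root_cat_eq hx hr ho hrc]
  refine Nat.card_congr (Equiv.subtypeEquivRight fun t => ⟨?_, ?_⟩)
  · rintro ⟨ht, htc, htA⟩
    refine ⟨ht, htc, ?_⟩
    rintro y (rfl | hy)
    · have h1 : Commute g t := h.comm g t c hg ht hc htc
      have h2 : Commute (g * y) t := htA _ (Set.mem_insert _ _)
      have := h1.inv_left.mul_left h2
      rwa [inv_mul_cancel_left] at this
    · exact htA y (Set.mem_insert_of_mem _ hy)
  · rintro ⟨ht, htc, htA⟩
    refine ⟨ht, htc, ?_⟩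
    rintro y (rfl | hy)
    · exact (h.comm g t c hg ht hc htc).mul_left (htA r (Set.mem_insert _ _))
    · exact htA y (Set.mem_insert_of_mem _ hy)

/-- The members centralizing `x` at a fixed point of `r` under `r`. -/
theorem root_local {o : G ⧸ M} (ho : r • o = o) :
    ∃ k : ℕ, 1 ≤ k ∧ a + 1 = 2 ^ k * 2 ^ k ∧
      Nat.card (CAt z (insert r ({x} : Set G)) o) + 1 = 2 ^ k ∧
      ∀ d ∈ h.toRes.grp o, Commute x d → Commute r d →
        ∃ e ∈ h.toRes.grp o, Commute x e ∧ e * r * e⁻¹ = r * d := by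
  haveI : Fact (Nat.Prime 2) := ⟨Nat.prime_two⟩
  have hxr := h.root_commute hx hr
  have hxo := h.root_smul hx hr ho
  set C := h.toRes.grp o ⊓ Subgroup.centralizer ({x} : Set G) with hC
  set K := h.toRes.grp o ⊓ Subgroup.centralizer (insert r ({x} : Set G)) with hK
  have hCc : ∀ e ∈ C, Commute x e := fun e he => Subgroup.mem_centralizer_iff.1 he.2 x rfl
  have hCr : ∀ e ∈ C, r * e * r⁻¹ ∈ C := fun e he =>
    ⟨h.toRes.grp_conj ho he.1, Subgroup.mem_centralizer_singleton_iff.2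
      ((hxr.mul_right (hCc e he)).mul_right hxr.inv_right).symm.eq⟩
  have hr2 : ∀ e : G, Commute x e → r * (r * e * r⁻¹) * r⁻¹ = e := fun e he => by
    calc r * (r * e * r⁻¹) * r⁻¹ = (r * r) * e * (r * r)⁻¹ := by group
      _ = e := by rw [hr, he.eq, mul_inv_cancel_right]
  have hcom : ∀ e ∈ h.toRes.grp o, Commute x e → Commute r (e * (r * e * r⁻¹)) := by
    intro e he hxe
    refine mul_inv_eq_iff_eq_mul.1 ?_
    calc r * (e * (r * e * r⁻¹)) * r⁻¹ = (r * e * r⁻¹) * (r * (r * e * r⁻¹) * r⁻¹) := by group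
      _ = (r * e * r⁻¹) * e := by rw [hr2 e hxe]
      _ = e * (r * e * r⁻¹) := (h.toRes.grp_commute (h.toRes.grp_conj ho he) he).eq
  let φ : C →* G :=
    { toFun := fun e => (e : G) * (r * e * r⁻¹)
      map_one' := by simp
      map_mul' := fun e e' => by
        show (e : G) * e' * (r * ((e : G) * e') * r⁻¹) = e * (r * e * r⁻¹) * (e' * (r * e' * r⁻¹))
        rw [show r * ((e : G) * e') * r⁻¹ = (r * e * r⁻¹) * (r * e' * r⁻¹) by group]
        exact Commute.mul_mul_mul_comm (h.toRes.grp_commute e'.2.1 (hCr e e.2).1) _ _ }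
  have hker : Nat.card φ.ker = Nat.card (CAt z (insert r ({x} : Set G)) o) + 1 := by
    rw [← h.card_grp_inf]
    refine Nat.card_congr ⟨fun e => ⟨e.1.1, e.1.2.1, ?_⟩, fun g => ⟨⟨g.1, g.2.1, ?_⟩, ?_⟩,
      fun _ => rfl, fun _ => rfl⟩
    · rintro y (rfl | hy)
      · show y * e.1.1 = e.1.1 * y
        have h2 := inv_eq_of_mul_eq_one_right (show (e.1 : G) * (y * e.1 * y⁻¹) = 1 from e.2)
        rw [inv_eq_of_mul_eq_one_right (h.toRes.grp_sq e.1.2.1)] at h2
        exact mul_inv_eq_iff_eq_mul.1 h2.symm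
      · rw [Set.mem_singleton_iff.1 hy]; exact (hCc _ e.1.2).eq
    · rintro y hy; exact g.2.2 y (Set.mem_insert_of_mem _ hy)
    · show (g : G) * (r * g * r⁻¹) = 1
      rw [Subgroup.mem_centralizer_iff.1 g.2.2 r (Set.mem_insert _ _), mul_inv_cancel_right,
        h.toRes.grp_sq g.2.1]
  have hrange : φ.range ≤ K := by
    rintro _ ⟨e, rfl⟩
    refine ⟨mul_mem e.2.1 (hCr e e.2).1, ?_⟩
    rintro y (rfl | hy)
    · exact (hcom e e.2.1 (hCc e e.2)).eq
    · rw [Set.mem_singleton_iff.1 hy]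
      exact ((hCc e e.2).mul_right (hCc _ (hCr e e.2))).eq
  set a0 := Nat.card (CAt z (insert r ({x} : Set G)) o) with ha0
  have hKcard : Nat.card K = a0 + 1 := h.card_grp_inf _ o
  have hCcard : Nat.card C = a + 1 := by
    rw [hC, h.card_grp_inf]; exact congrArg (· + 1) (h.cnt_uni x o hx hxo)
  have hmul : Nat.card φ.range * (a0 + 1) = a + 1 := by
    rw [← hker, ← hCcard, ← Subgroup.index_ker, mul_comm, Subgroup.card_mul_index]
  obtain ⟨k, hk⟩ := IsPGroup.iff_card.1
    ((((h.isPGroup_grp o).to_le inf_le_left) : IsPGroup 2 K).to_le hrange)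
  rw [hk] at hmul
  have hle : 2 ^ k ≤ a0 + 1 := hk ▸ hKcard ▸ Subgroup.card_le_of_le hrange
  rcases Nat.eq_zero_or_pos k with rfl | hk0
  · -- `r` would centralize all members centralizing `x`
    exfalso
    rw [pow_zero, one_mul] at hmul
    have hCK : C ≤ K := by
      have hKC : K ≤ C := inf_le_inf_left _ (Subgroup.centralizer_le (Set.subset_insert _ _))
      exact (Subgroup.eq_of_le_of_card_ge hKC (by rw [hKcard, hCcard, hmul])).ge
    have hEr : ∀ d ∈ C, Commute r d := fun d hd =>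
      Subgroup.mem_centralizer_iff.1 (hCK hd).2 r (Set.mem_insert _ _)
    have hEC : h.toRes.grp o ≤ Subgroup.centralizer ({x} : Set G) := by
      intro e he
      have hxx := invol_mul_self hx.invol
      have hxi := invol_inv hx.invol
      have hei : e⁻¹ = e := inv_eq_of_mul_eq_one_right (h.toRes.grp_sq he)
      have hxe : x * e * x ∈ h.toRes.grp o := by
        have := h.toRes.grp_conj hxo he; rwa [hxi] at this
      have hdC : x * e * x * e ∈ C := by
        refine ⟨mul_mem hxe he, Subgroup.mem_centralizer_singleton_iff.2 ?_⟩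
        calc x * e * x * e * x = (x * e * x) * (e * x) := by group
          _ = (x * x) * ((x * e * x) * e) * x := by rw [hxx]; group
          _ = x * (x * ((x * e * x) * e) * x) := by group
          _ = x * ((x * x) * e * x * e * x) := by group
          _ = x * (e * (x * e * x)) := by rw [hxx]; group
          _ = x * (x * e * x * e) := by rw [(h.toRes.grp_commute he hxe).eq]
      have hc : e * x * e⁻¹ = x * (x * e * x * e) := by
        rw [show x * (x * e * x * e) = (x * x) * e * x * e by group, hxx, one_mul, hei]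
      have hrxe : Commute r (e * x * e⁻¹) := by
        rw [hc]; exact hxr.symm.mul_right (hEr _ hdC)
      have hcC : e⁻¹ * (r * e * r⁻¹) ∈ C := by
        refine ⟨mul_mem ((h.toRes.grp o).inv_mem he) (h.toRes.grp_conj ho he),
          Subgroup.mem_centralizer_singleton_iff.2 ?_⟩
        calc e⁻¹ * (r * e * r⁻¹) * x = e⁻¹ * r * e * (r⁻¹ * x) := by group
          _ = e⁻¹ * r * e * (x * r⁻¹) := by rw [hxr.symm.inv_left.eq]
          _ = e⁻¹ * (r * (e * x * e⁻¹)) * e * r⁻¹ := by group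
          _ = e⁻¹ * ((e * x * e⁻¹) * r) * e * r⁻¹ := by rw [hrxe.eq]
          _ = x * (e⁻¹ * (r * e * r⁻¹)) := by group
      set c := e⁻¹ * (r * e * r⁻¹) with hcdef
      have h1 : r * e * r⁻¹ = e * c := by rw [hcdef]; group
      have h2 : x * e * x⁻¹ = e := by
        calc x * e * x⁻¹ = (r * r) * e * (r * r)⁻¹ := by rw [hr]
          _ = r * (r * e * r⁻¹) * r⁻¹ := by group
          _ = r * (e * c) * r⁻¹ := by rw [h1]
          _ = (r * e * r⁻¹) * (r * c * r⁻¹) := by group
          _ = e * c * c := by rw [h1, (hEr c hcC).eq, mul_inv_cancel_right]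
          _ = e := by rw [mul_assoc, h.toRes.grp_sq hcC.1, mul_one]
      exact Subgroup.mem_centralizer_singleton_iff.2 (mul_inv_eq_iff_eq_mul.1 h2).symm
    have : Nat.card C = deg M z + 1 := by
      rw [hC, inf_eq_left.2 hEC, h.card_grp]
    have := h.lt
    omega
  obtain ⟨δ, hδ, hne⟩ : ∃ δ, x • δ = δ ∧ r • δ ≠ δ := by
    by_contra hall
    push Not at hall
    obtain ⟨γ', hγo, hxγ'⟩ := h.bad_two_fix hx hxo
    have htriv : ∀ g ∈ φ.range, g = 1 := by
      rintro _ ⟨e, rfl⟩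
      show (e : G) * (r * e * r⁻¹) = 1
      rcases h.toRes.mem_grp.1 (mul_mem e.2.1 (hCr e e.2).1) with h1 | ⟨h1, h2⟩
      · exact h1
      · refine absurd (h.crit.fix_unique h1 ?_ h2) hγo
        have hxe := hCc e e.2
        have hxeγ : x • (e : G) • γ' = (e : G) • γ' := by rw [smul_smul, hxe.eq, mul_smul, hxγ']
        rw [mul_smul, mul_smul, mul_smul, inv_smul_eq_iff.2 (hall γ' hxγ').symm, hall _ hxeγ,
          smul_smul, h.toRes.grp_sq e.2.1, one_smul]
    have : 2 ^ k = 1 := by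
      rw [← hk, (Subgroup.eq_bot_iff_forall _).2 htriv, Subgroup.card_bot]
    have := Nat.le_self_pow hk0.ne' 2
    omega
  have hdvd : a0 ∣ 2 ^ k - 1 := by
    obtain ⟨c, hc⟩ : a0 ∣ a :=
      Dvd.intro_left _ (h.root_swaps hx hr ho hδ hne)
    rw [hc] at hmul
    refine ⟨c - 2 ^ k, ?_⟩
    rw [Nat.mul_sub]
    have : a0 * 2 ^ k + 2 ^ k = a0 * c + 1 := by rw [← hmul]; ring
    omega
  have h2k : 2 ^ k = a0 + 1 := by
    have h2 : 2 ≤ 2 ^ k := Nat.le_self_pow hk0.ne' 2
    have := Nat.le_of_dvd (by omega) hdvd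
    omega
  refine ⟨k, hk0, by rw [← hmul, h2k], h2k.symm, fun d hd hxd hrd => ?_⟩
  have hrK : φ.range = K := Subgroup.eq_of_le_of_card_ge hrange (by rw [hk, h2k, hKcard])
  obtain ⟨e, he⟩ : d ∈ φ.range := by
    rw [hrK]
    refine ⟨hd, ?_⟩
    rintro y (rfl | hy)
    · exact hrd.eq
    · rw [Set.mem_singleton_iff.1 hy]; exact hxd.eq
  refine ⟨e, e.2.1, hCc e e.2, ?_⟩
  rw [← he]
  show (e : G) * r * (e : G)⁻¹ = r * (e * (r * e * r⁻¹))
  rw [inv_eq_of_mul_eq_one_right (h.toRes.grp_sq e.2.1),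
    show r * ((e : G) * (r * e * r⁻¹)) = (r * e * r⁻¹) * (r * (r * e * r⁻¹)) by group,
    show r * (r * (e : G) * r⁻¹) = (r * (r * e * r⁻¹) * r⁻¹) * r by group, hr2 _ (hCc e e.2),
    ← mul_assoc, (h.toRes.grp_commute (hCr e e.2).1 e.2.1).eq]
  calc (e : G) * r * e = (e : G) * (r * e * r⁻¹) * r := by group
    _ = _ := rfl

/-- **The root forces the least number of fixed points.** -/
theorem root_data {p γ : G ⧸ M} (hγp : γ ≠ p) (hrp : r • p = p) (hrγ : r • γ = γ) :
    ∃ k : ℕ, 1 ≤ k ∧ a + 1 = 2 ^ k * 2 ^ k ∧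
      Nat.card (CAt z (insert r ({x} : Set G)) p) + 1 = 2 ^ k ∧ fix M x = a + 2 := by
  haveI : Fact (Nat.Prime 2) := ⟨Nat.prime_two⟩
  have hxr := h.root_commute hx hr
  have hxp := h.root_smul hx hr hrp
  obtain ⟨k, hk, hka, hk0, -⟩ := h.root_local hx hr hrp
  refine ⟨k, hk, hka, hk0, ?_⟩
  set a0 := Nat.card (CAt z (insert r ({x} : Set G)) p) with ha0
  set Φ : Set (G ⧸ M) := {t | x • t = t}
  set F0 := {t : G ⧸ M // x • t = t ∧ r • t = t}
  set Dm := {d : G // IsConj z d ∧ ∀ y ∈ insert r ({x} : Set G), Commute y d}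
  letI := Fintype.ofFinite F0
  have hD : Nat.card Dm = Nat.card F0 * a0 := by
    rw [← Nat.card_eq_of_bijective (α := Σ t : F0, CAt z (insert r ({x} : Set G)) t.1)
      (fun s => (⟨s.2.1, s.2.2.1, s.2.2.2.2⟩ : Dm)) ⟨?_, fun d => ?_⟩, Nat.card_sigma,
      Finset.sum_congr rfl fun (t : F0) _ => h.root_cat_eq hx hr t.2.2 hrp, Finset.sum_const,
      smul_eq_mul, Finset.card_univ, ← Nat.card_eq_fintype_card]
    · rintro ⟨⟨t, ht⟩, ⟨d, hd⟩⟩ ⟨⟨t', ht'⟩, ⟨d', hd'⟩⟩ hh
      simp only [Subtype.mk.injEq, Dm] at hh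
      subst hh
      obtain rfl := h.crit.fix_unique hd.1 hd.2.1 hd'.2.1
      rfl
    · obtain ⟨t, ht⟩ := h.crit.fix_exists d.2.1
      exact ⟨⟨⟨t, h.crit.smul_of_commute d.2.1 (d.2.2 x (Set.mem_insert_of_mem _ rfl)) ht,
        h.crit.smul_of_commute d.2.1 (d.2.2 r (Set.mem_insert _ _)) ht⟩, ⟨d.1, d.2.1, ht, d.2.2⟩⟩, rfl⟩
  have hid := h.crit.moved_mul_eq (A := ({x} : Set G)) (r := r) (Φ := Φ)
    (fun d _ hdA t ht => by
      show x • d • t = d • t
      rw [smul_smul, (hdA x (Set.mem_insert_of_mem _ rfl)).eq, mul_smul, ht])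
    (fun d hd hdA t ht => h.crit.smul_of_commute hd (hdA x (Set.mem_insert_of_mem _ rfl)) ht)
    (R := a0 + 2) (f' := Nat.card F0) (fun t ht htne => by
      have h0 : 0 < a0 := by have := Nat.le_self_pow (show k ≠ 0 by omega) 2; omega
      refine Nat.eq_of_mul_eq_mul_right h0 ?_
      rw [h.root_swaps hx hr hrp ht htne]
      rw [← hk0] at hka
      nlinarith)
    (fun d hd hdA => by
      obtain ⟨o, ho⟩ := h.crit.fix_exists hd
      have hrd := hdA r (Set.mem_insert _ _)
      have hxd := hdA x (Set.mem_insert_of_mem _ rfl)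
      have hro := h.crit.smul_of_commute hd hrd ho
      obtain ⟨-, -, -, -, hconj⟩ := h.root_local hx hr hro
      obtain ⟨e, -, hxe, he⟩ := hconj d (Or.inr ⟨hd, ho⟩) hxd hrd
      rw [← he]
      exact Nat.card_congr
        { toFun := fun t => ⟨e⁻¹ • t.1, by
            rw [smul_smul, hxe.inv_right.eq, mul_smul, show x • t.1 = t.1 from t.2.1],
            eq_inv_smul_iff.2 (by
              conv_rhs => rw [← t.2.2]
              rw [mul_smul, mul_smul])⟩
          invFun := fun t => ⟨e • t.1, show x • e • t.1 = e • t.1 by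
            rw [smul_smul, hxe.eq, mul_smul, t.2.1],
            by rw [mul_smul, mul_smul, inv_smul_smul, t.2.2]⟩
          left_inv := fun t => Subtype.ext (smul_inv_smul e t.1)
          right_inv := fun t => Subtype.ext (inv_smul_smul e t.1) })
  rw [hD] at hid
  -- fixed and moved points of `r` among the fixed points of `x`
  have hsum : Nat.card {t : G ⧸ M // t ∈ Φ ∧ r • t ≠ t} + Nat.card F0 = fix M x := by
    classical
    rw [fix, ← Nat.card_sum]
    exact Nat.card_congr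
      { toFun := Sum.elim (fun t => ⟨t.1, t.2.1⟩) (fun t => ⟨t.1, t.2.1⟩)
        invFun := fun t => if hh : r • t.1 = t.1 then Sum.inr ⟨t.1, t.2, hh⟩ else Sum.inl ⟨t.1, t.2, hh⟩
        left_inv := fun t => by rcases t with t | t <;> simp [t.2.2]
        right_inv := fun t => by by_cases hh : r • t.1 = t.1 <;> simp [hh] }
  -- a two-power number of fixed points besides `p`
  set F1 := {t : G ⧸ M // (x • t = t ∧ r • t = t) ∧ t ≠ p}
  have hF1 : Nat.card F1 + 1 = Nat.card F0 := by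
    classical
    rw [← Nat.card_congr (Equiv.optionSubtypeNe (⟨p, hxp, hrp⟩ : F0)), Finite.card_option]
    exact congrArg (· + 1) (Nat.card_congr
      ⟨fun t => ⟨⟨t.1, t.2.1⟩, fun e => t.2.2 (congrArg Subtype.val e)⟩,
        fun t => ⟨t.1.1, t.1.2, fun e => t.2 (Subtype.ext e)⟩, fun _ => rfl, fun _ => rfl⟩)
  set H := h.toRes.grp p ⊓ Subgroup.centralizer (insert r ({x} : Set G)) with hH
  have hHc : ∀ g : H, ∀ y ∈ insert r ({x} : Set G), Commute y (g : G) := fun g y hy =>
    Subgroup.mem_centralizer_iff.1 g.2.2 y hy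
  letI : MulAction H F1 :=
    { smul := fun g t => ⟨(g : G) • t.1,
        ⟨by rw [smul_smul, (hHc g x (Set.mem_insert_of_mem _ rfl)).eq, mul_smul, t.2.1.1],
          by rw [smul_smul, (hHc g r (Set.mem_insert _ _)).eq, mul_smul, t.2.1.2]⟩,
        fun e => t.2.2 (smul_left_cancel (g : G) (e.trans (h.toRes.grp_smul g.2.1).symm))⟩
      one_smul := fun t => Subtype.ext (one_smul G t.1)
      mul_smul := fun g g' t => Subtype.ext (mul_smul (g : G) (g' : G) t.1) }
  have hfree : ∀ t : F1, MulAction.stabilizer H t = ⊥ := fun t =>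
    (Subgroup.eq_bot_iff_forall _).2 fun g hg => by
      rcases h.toRes.mem_grp.1 g.2.1 with hg' | ⟨hz, hgp⟩
      · exact Subtype.ext hg'
      · exact absurd (h.crit.fix_unique hz (congrArg Subtype.val hg : (g : G) • t.1 = t.1) hgp) t.2.2
  have hdvd : 2 ^ k ∣ Nat.card F1 := by
    rw [← hk0, ← h.card_grp_inf]
    exact Dvd.intro_left _ ((Nat.card_congr (MulAction.selfEquivOrbitsQuotientProd hfree)).trans
      (Nat.card_prod _ _)).symm
  have hc2 : 2 ≤ cnt z x p := by rw [h.cnt_uni x p hx hxp]; exact h.le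
  obtain ⟨P, hP, hPc, hPp, hPn, htr, hker⟩ :=
    h.reg x hx (h.exists_commuting_pair hc2) p hxp
  let C' : Subgroup P :=
    { carrier := {g | ∀ t : G ⧸ M, x • t = t → r • (g : G) • t = (g : G) • r • t}
      one_mem' := fun t _ => by simp
      mul_mem' := fun {g g'} hg hg' t ht => by
        show r • ((g : G) * g') • t = ((g : G) * g') • r • t
        rw [mul_smul, mul_smul, hg _ (by rw [smul_smul, (hPc g' g'.2).eq, mul_smul, ht]), hg' t ht]
      inv_mem' := fun {g} hg t ht => by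
        show r • (g : G)⁻¹ • t = (g : G)⁻¹ • r • t
        rw [eq_inv_smul_iff, ← hg _ (by
          rw [smul_smul, (hPc g g.2).inv_right.eq, mul_smul, ht]), smul_inv_smul] }
  have hC2 : IsPGroup 2 C' := hP.to_subgroup C'
  obtain ⟨j, hj⟩ := hC2.index (MulAction.stabilizer C' γ)
  have hxγ := h.root_smul hx hr hrγ
  have horb : MulAction.orbit C' γ = {t : G ⧸ M | (x • t = t ∧ r • t = t) ∧ t ≠ p} := by
    ext t
    constructor
    · rintro ⟨g, rfl⟩
      refine ⟨⟨?_, ?_⟩, fun e => hγp (smul_left_cancel ((g : P) : G) (e.trans (hPp _ g.1.2).symm))⟩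
      · show x • ((g : P) : G) • γ = ((g : P) : G) • γ
        rw [smul_smul, (hPc _ g.1.2).eq, mul_smul, hxγ]
      · show r • ((g : P) : G) • γ = ((g : P) : G) • γ
        rw [g.2 γ hxγ, hrγ]
    · rintro ⟨⟨hxt, hrt⟩, htp⟩
      obtain ⟨g, hg, hgt⟩ := htr γ t hxγ hxt hγp htp
      refine ⟨⟨⟨g, hg⟩, fun u hu => ?_⟩, hgt⟩
      have hg' : r * g * r⁻¹ ∈ P := hPn r hxr hrp g hg
      have h1 : (g⁻¹ * (r * g * r⁻¹)) • γ = γ := by
        rw [mul_smul, mul_smul, mul_smul, inv_smul_eq_iff.2 hrγ.symm, hgt, hrt, inv_smul_eq_iff, hgt]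
      have h2 := hker _ (mul_mem (inv_mem hg) hg') γ hxγ hγp h1 (r • u)
        (by rw [smul_smul, hxr.eq, mul_smul, hu])
      rw [mul_smul, inv_smul_eq_iff, mul_smul, mul_smul, inv_smul_smul] at h2
      exact h2
  rw [MulAction.index_stabilizer, horb, ← Nat.card_coe_set_eq] at hj
  have hF1j : Nat.card F1 = 2 ^ j := hj
  rw [hF1j] at hdvd
  obtain ⟨l, rfl⟩ := Nat.exists_eq_add_of_le (Nat.pow_dvd_pow_iff_le_right'.1 hdvd)
  obtain ⟨β, i, -, -, hβ, hfx, -, hK, -⟩ := h.small_pows hx hxp (h.small hx hxp) hc2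
  rw [h.cnt_uni x p hx hxp, hka, ← pow_add] at hβ
  obtain rfl : β = k + k := (Nat.pow_right_injective le_rfl hβ).symm
  obtain ⟨mv, hmv⟩ : ∃ mv, Nat.card {t : G ⧸ M // t ∈ Φ ∧ r • t ≠ t} = mv := ⟨_, rfl⟩
  rw [hmv] at hid hsum
  rw [← hF1, hF1j, hfx] at hsum
  rw [← hF1, hF1j, Nat.add_sub_cancel] at hid
  obtain ⟨s, hs⟩ : ∃ s, 2 ^ (k + l) = s := ⟨_, rfl⟩
  have key : 2 ^ (k + k + i) * (2 ^ k + 1) = 2 ^ (k + l) * (2 * 2 ^ k + 2 ^ (k + l) * (2 ^ k - 1)) := by
    rw [show 2 ^ (k + k + i) = mv + 2 ^ (k + l) by omega, hs, ← hk0, Nat.add_sub_cancel, add_mul]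
    rw [hs] at hid
    rw [hid]; ring
  obtain rfl := root_arith hk key hK
  rw [hfx, add_zero, pow_add, ← hka]

end Uni

end CfsgLib.SECrit.Small
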