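import Cfsg.Agent.Lib.Invol.SECriterion.Transfer

/-!
# The strong embedding criterion, small type: the transfer at a two-element

A character of `M` that is `-1` on the conjugates of a two-element `r` in `M` and trivial on the
conjugates of its even powers and of `z` shows that `r` is outside the normal closure of `z`.
-/

set_option autoImplicit false

namespace CfsgLib.SECrit

open CfsgLib.Invol Subgroup

variable {G : Type*} [Group G] [Finite G] {M : Subgroup G} {z : G}

/-- The transfer of a character at a two-element. -/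
theorem transfer_two_elem (χ : M →* ℤˣ) {r : G} {n : ℕ} (hr : r ^ 2 ^ n = 1)
    (h1 : ∀ g : G, ∀ hm : g⁻¹ * r * g ∈ M, χ ⟨g⁻¹ * r * g, hm⟩ = -1)
    (h2 : ∀ (g : G) (j : ℕ), ∀ hm : g⁻¹ * r ^ (2 * j) * g ∈ M, χ ⟨g⁻¹ * r ^ (2 * j) * g, hm⟩ = 1) :
    MonoidHom.transfer χ r = (-1) ^ Nat.card {a : G ⧸ M // r • a = a} := by
  classical
  haveI : M.FiniteIndex := ⟨index_ne_zero_of_finite⟩
  letI := Fintype.ofFinite (Quotient (MulAction.orbitRel (zpowers r) (G ⧸ M)))
  rw [MonoidHom.transfer_eq_prod_quotient_orbitRel_zpowers_quot]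
  have hper : ∀ q : Quotient (MulAction.orbitRel (zpowers r) (G ⧸ M)),
      ¬ r • q.out = q.out → ∃ j, Function.minimalPeriod (r • ·) q.out = 2 * j := by
    intro q hq
    have hdvd : Function.minimalPeriod (r • ·) q.out ∣ 2 ^ n :=
      Function.IsPeriodicPt.minimalPeriod_dvd (by
        show ((r • ·)^[2 ^ n]) q.out = q.out
        rw [smul_iterate, hr]; exact one_smul G _)
    obtain ⟨k, -, hk⟩ := (Nat.dvd_prime_pow Nat.prime_two).1 hdvd
    rcases k with _ | k
    · exact absurd (Function.minimalPeriod_eq_one_iff_isFixedPt.1 hk) hq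
    · exact ⟨2 ^ k, by rw [hk, pow_succ, mul_comm]⟩
  have hval : ∀ q : Quotient (MulAction.orbitRel (zpowers r) (G ⧸ M)),
      χ ⟨q.out.out⁻¹ * r ^ Function.minimalPeriod (r • ·) q.out * q.out.out,
        QuotientGroup.out_conj_pow_minimalPeriod_mem M r q.out⟩ =
        if r • q.out = q.out then -1 else 1 := by
    intro q
    split_ifs with hq
    · have hm : q.out.out⁻¹ * r * q.out.out ∈ M := by
        rw [← smul_coe_eq_iff, QuotientGroup.out_eq']
        exact hq
      refine (congrArg χ (Subtype.ext ?_)).trans (h1 _ hm)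
      show q.out.out⁻¹ * r ^ _ * q.out.out = q.out.out⁻¹ * r * q.out.out
      rw [Function.minimalPeriod_eq_one_iff_isFixedPt.2 hq, pow_one]
    · obtain ⟨j, hj⟩ := hper q hq
      have hm := QuotientGroup.out_conj_pow_minimalPeriod_mem M r q.out
      rw [hj] at hm
      refine (congrArg χ (Subtype.ext ?_)).trans (h2 _ j hm)
      show q.out.out⁻¹ * r ^ _ * q.out.out = q.out.out⁻¹ * r ^ (2 * j) * q.out.out
      rw [hj]
  rw [Finset.prod_congr rfl fun q _ => hval q, Finset.prod_ite, Finset.prod_const,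
    Finset.prod_const_one, mul_one]
  congr 1
  rw [← Fintype.card_subtype, ← Nat.card_eq_fintype_card]
  have horb : ∀ a : G ⧸ M, r • a = a → ∀ b : G ⧸ M, b ∈ MulAction.orbit (zpowers r) a → b = a := by
    rintro a ha b ⟨⟨g, hg⟩, rfl⟩
    exact MulAction.mem_stabilizer_iff.1 ((zpowers_le.2 (MulAction.mem_stabilizer_iff.2 ha)) hg)
  refine Nat.card_eq_of_bijective (fun q => ⟨q.1.out, q.2⟩) ⟨?_, ?_⟩
  · intro q q' hqq
    have e1 : q.1.out = q'.1.out := congrArg Subtype.val hqq
    exact Subtype.ext (by rw [← Quotient.out_eq q.1, e1, Quotient.out_eq])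
  · rintro ⟨a, ha⟩
    have e1 : (Quotient.mk (MulAction.orbitRel (zpowers r) (G ⧸ M)) a).out = a :=
      horb a ha _ (MulAction.orbitRel_apply.1 (Quotient.exact
        (Quotient.out_eq (Quotient.mk (MulAction.orbitRel (zpowers r) (G ⧸ M)) a))))
    exact ⟨⟨Quotient.mk _ a, by rw [e1]; exact ha⟩, Subtype.ext e1⟩

namespace Crit

variable (h : Crit M z)
include h

/-- A two-element has an odd number of fixed points. -/
theorem odd_card_fix {r : G} {n : ℕ} (hr : r ^ 2 ^ n = 1) :
    Odd (Nat.card {a : G ⧸ M // r • a = a}) := by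
  haveI : Fact (Nat.Prime 2) := ⟨Nat.prime_two⟩
  obtain ⟨k, -, hk⟩ := (Nat.dvd_prime_pow Nat.prime_two).1 (orderOf_dvd_of_pow_eq_one hr)
  have hP : IsPGroup 2 (zpowers r) := IsPGroup.of_card (n := k) (by rw [Nat.card_zpowers, hk])
  have hmod := hP.card_modEq_card_fixedPoints (G ⧸ M)
  have e : Nat.card {a : G ⧸ M // r • a = a} = Nat.card (MulAction.fixedPoints (zpowers r) (G ⧸ M)) :=
    Nat.card_congr (Equiv.subtypeEquivRight fun a =>
      ⟨fun ha g => MulAction.mem_stabilizer_iff.1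
        ((zpowers_le.2 (MulAction.mem_stabilizer_iff.2 ha)) g.2),
        fun ha => ha ⟨r, mem_zpowers r⟩⟩)
  rw [e, Nat.odd_iff, ← hmod, ← Nat.odd_iff]
  exact h.odd_index

/-- **The transfer lemma at a two-element.** -/
theorem not_mem_normalClosure_two {r : G} {n : ℕ} (hr : r ^ 2 ^ n = 1) (χ : M →* ℤˣ)
    (hz : ∀ d : M, IsConj z (d : G) → χ d = 1) (h1 : ∀ y : M, IsConj r (y : G) → χ y = -1)
    (h2 : ∀ (j : ℕ) (y : M), IsConj (r ^ (2 * j)) (y : G) → χ y = 1) :
    r ∉ normalClosure ({z} : Set G) := by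
  haveI : M.FiniteIndex := ⟨index_ne_zero_of_finite⟩
  intro hmem
  have hzero : MonoidHom.transfer χ z = 1 := by
    rw [transfer_invol χ h.invol 1 fun g hm => hz _ (isConj_iff.2 ⟨g⁻¹, by simp⟩), one_pow]
  have hle : normalClosure ({z} : Set G) ≤ (MonoidHom.transfer χ).ker :=
    normalClosure_le_normal (Set.singleton_subset_iff.2 hzero)
  have h3 : MonoidHom.transfer χ r = 1 := hle hmem
  rw [transfer_two_elem χ hr (fun g hm => h1 _ (isConj_iff.2 ⟨g⁻¹, by simp⟩))
    (fun g j hm => h2 j _ (isConj_iff.2 ⟨g⁻¹, by simp⟩)), (h.odd_card_fix hr).neg_one_pow] at h3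
  exact absurd h3 (by decide)

end Crit

end CfsgLib.SECrit
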