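import Cfsg.Agent.Lib.Invol.SECriterion.SmallType.Powers
import Cfsg.Agent.Lib.Invol.SECriterion.SmallType.Transfer
import Mathlib.GroupTheory.Perm.Sign

/-!
# The strong embedding criterion, small type: one member centralizing a bad involution

Then a point has three members and the sign of their permutations is a character of the stabilizer
contradicting the transfer.
-/

set_option autoImplicit false

namespace CfsgLib.SECrit.Small

open CfsgLib.Invol

variable {G : Type*} [Group G] {M : Subgroup G} {z : G}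

theorem mem_iff_smul_one {g : G} :
    g ∈ M ↔ g • ((1 : G) : G ⧸ M) = ((1 : G) : G ⧸ M) := by
  rw [smul_coe_eq_iff]; simp

/-- The permutations of the members at the base point by the elements of `M`. -/
def memPerm (M : Subgroup G) (z : G) : M →* Equiv.Perm (DAt z ((1 : G) : G ⧸ M)) where
  toFun k :=
    { toFun := fun d => ⟨(k : G) * d.1 * (k : G)⁻¹, d.2.1.trans (isConj_iff.2 ⟨k, rfl⟩), by
        rw [mul_smul, mul_smul, inv_smul_eq_iff.2 (mem_iff_smul_one.1 k.2).symm, d.2.2,
          mem_iff_smul_one.1 k.2]⟩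
      invFun := fun d => ⟨(k : G)⁻¹ * d.1 * (k : G),
        d.2.1.trans (isConj_iff.2 ⟨(k : G)⁻¹, by rw [inv_inv]⟩), by
        rw [mul_smul, mul_smul, mem_iff_smul_one.1 k.2, d.2.2,
          inv_smul_eq_iff.2 (mem_iff_smul_one.1 k.2).symm]⟩
      left_inv := fun d => Subtype.ext (by simp [mul_assoc])
      right_inv := fun d => Subtype.ext (by simp [mul_assoc]) }
  map_one' := Equiv.ext fun d => Subtype.ext (show ((1 : M) : G) * d.1 * ((1 : M) : G)⁻¹ = d.1 by simp)
  map_mul' a b := Equiv.ext fun d => Subtype.ext (show ((a * b : M) : G) * d.1 * ((a * b : M) : G)⁻¹ =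
    (a : G) * ((b : G) * d.1 * (b : G)⁻¹) * (a : G)⁻¹ by simp [mul_assoc])

theorem memPerm_eq_iff (k : M) (d : DAt z ((1 : G) : G ⧸ M)) :
    memPerm M z k d = d ↔ Commute (k : G) d.1 := by
  rw [Subtype.ext_iff]
  exact mul_inv_eq_iff_eq_mul

variable [Finite G]

namespace Res

variable (h : Res M z)
include h

/-- **No bad involution centralizes a single member at a point with more members.** -/
theorem false_of_cnt_one {x : G} (hx : Bad z x) {p : G ⧸ M} (hp : x • p = p)
    (hlt : cnt z x p < deg M z) (hc : cnt z x p = 1) : False := by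
  classical
  letI := Fintype.ofFinite (DAt z ((1 : G) : G ⧸ M))
  have hm : deg M z = 3 := by
    have := (h.small_type hx hp hlt).1
    rw [hc] at this; omega
  set χ : M →* ℤˣ := (Equiv.Perm.sign).comp (memPerm M z) with hχ
  have hz : ∀ d : M, IsConj z (d : G) → χ d = 1 := by
    intro d hd
    rw [hχ, MonoidHom.comp_apply]
    rw [show memPerm M z d = 1 from Equiv.ext fun e => (memPerm_eq_iff d e).2
      (h.comm d e.1 _ hd e.2.1 (mem_iff_smul_one.1 d.2) e.2.2), map_one]
  refine h.crit.not_mem_normalClosure hx.invol χ hz (fun y hy => ?_) (h.gen ▸ Subgroup.mem_top x)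
  obtain ⟨g, hg⟩ := isConj_iff.1 hy
  have hy1 := mem_iff_smul_one.1 y.2
  have hyb : Bad z (y : G) := hg ▸ hx.conj g
  have hcy : cnt z (y : G) ((1 : G) : G ⧸ M) = 1 := by
    rw [h.cnt_eq hyb.invol hy1 (q := g • p) (by rw [← hg, mul_smul, mul_smul, inv_smul_smul, hp]),
      ← hg, h.cnt_conj, hc]
  rw [hχ, MonoidHom.comp_apply]
  refine Equiv.Perm.IsSwap.sign_eq (Equiv.Perm.card_support_eq_two.1 ?_)
  have hsupp := Finset.card_add_card_compl (memPerm M z y).support
  have hfix : ((memPerm M z y).support)ᶜ.card = 1 := by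
    rw [← hcy, cnt, ← Fintype.card_coe, ← Nat.card_eq_fintype_card]
    refine Nat.card_congr
      { toFun := fun d => ⟨d.1.1, d.1.2.1, d.1.2.2, fun t ht => ?_⟩
        invFun := fun d => ⟨⟨d.1, d.2.1, d.2.2.1⟩, ?_⟩
        left_inv := fun _ => rfl
        right_inv := fun _ => rfl }
    · have h1 := d.2
      rw [Finset.mem_compl, Equiv.Perm.notMem_support, memPerm_eq_iff] at h1
      rw [Set.mem_singleton_iff.1 ht]; exact h1
    · rw [Finset.mem_compl, Equiv.Perm.notMem_support, memPerm_eq_iff]
      exact d.2.2.2 _ rfl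
  rw [hfix, ← Nat.card_eq_fintype_card, show Nat.card (DAt z ((1 : G) : G ⧸ M)) = 3 from
    (card_DAt _).trans hm] at hsupp
  omega

end Res

end CfsgLib.SECrit.Small
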