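import Cfsg.Agent.Lib.Invol.SECriterion.SmallType.Roots
import Cfsg.Agent.Lib.Invol.SECriterion.SmallType.Transfer
import Cfsg.Agent.Lib.Invol.SECriterion.SmallType.Large
import Cfsg.Agent.Lib.Invol.SECriterion.SmallType.TwoType
import Cfsg.Agent.Lib.Coprime.UniqueOrderP
import Mathlib.GroupTheory.Perm.Cycle.Type

/-!
# The strong embedding criterion, small type: the least number of fixed points

Then the group at a point is regular on the other points, the two point stabilizer has cyclic Sylow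
two-subgroups and the sign of the stabilizer modulo that group contradicts the transfer.
-/

set_option autoImplicit false

namespace CfsgLib.SECrit.Small

open CfsgLib.Invol

universe u

/-- The cycles of the translation by `y`: `|Q| / o(y)` of length `o(y)`. -/
theorem sign_toPerm_two_elem {Q : Type*} [Group Q] [Fintype Q] [DecidableEq Q] {y : Q} {i k o : ℕ}
    (hy : orderOf y = 2 ^ i) (hcard : Fintype.card Q = 2 ^ k * o) (ho : Odd o) (hk : 1 ≤ k) :
    Equiv.Perm.sign (MulAction.toPerm y : Equiv.Perm Q) = if i = k then -1 else 1 := by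
  rcases i with _ | i
  · rw [pow_zero, orderOf_eq_one_iff] at hy
    subst hy
    rw [if_neg (by omega), show (MulAction.toPerm (1 : Q) : Equiv.Perm Q) = 1 from
      Equiv.ext fun t => one_smul Q t, map_one]
  set σ : Equiv.Perm Q := MulAction.toPerm y with hσ
  have hpow : ∀ n : ℕ, ∀ t : Q, (σ ^ n) t = y ^ n * t := by
    intro n
    induction n with
    | zero => intro t; simp
    | succ n ih => intro t; rw [pow_succ', Equiv.Perm.mul_apply, ih, pow_succ', mul_assoc]; rfl
  have hy1 : y ≠ 1 := fun e => by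
    rw [e, orderOf_one] at hy
    have := Nat.one_lt_two_pow (show i + 1 ≠ 0 by omega); omega
  have hsupp : σ.support = Finset.univ := Finset.eq_univ_iff_forall.2 fun t =>
    Equiv.Perm.mem_support.2 fun e => hy1 (mul_eq_right.1 (show y * t = t from e))
  have hall : ∀ n ∈ σ.cycleType, n = 2 ^ (i + 1) := by
    intro n hn
    obtain ⟨c, hc, rfl⟩ : ∃ c ∈ σ.cycleFactorsFinset, c.support.card = n := by
      rw [Equiv.Perm.cycleType_def, Multiset.mem_map] at hn
      obtain ⟨c, hc, he⟩ := hn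
      exact ⟨c, hc, he⟩
    obtain ⟨hcyc, hcσ⟩ := Equiv.Perm.mem_cycleFactorsFinset_iff.1 hc
    obtain ⟨t, ht⟩ := hcyc.nonempty_support
    have hco : orderOf c = c.support.card := hcyc.orderOf
    have hnc : ∀ n : ℕ, (c ^ n) t = (σ ^ n) t := by
      intro n
      induction n with
      | zero => simp
      | succ n ih =>
        rw [pow_succ', pow_succ', Equiv.Perm.mul_apply, Equiv.Perm.mul_apply, ← ih]
        refine hcσ _ ?_
        exact Equiv.Perm.pow_apply_mem_support.2 ht
    refine Nat.dvd_antisymm ?_ ?_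
    · rw [← hco, ← hy]
      refine orderOf_dvd_of_pow_eq_one ((hcyc.pow_eq_one_iff' (Equiv.Perm.mem_support.1 ht)).2 ?_)
      rw [hnc, hpow, pow_orderOf_eq_one, one_mul]
    · rw [← hco, ← hy]
      refine orderOf_dvd_of_pow_eq_one ?_
      have h1 := hnc (orderOf c)
      rw [pow_orderOf_eq_one, Equiv.Perm.one_apply, hpow] at h1
      exact mul_eq_right.1 h1.symm
  have hsum : σ.cycleType.sum = Fintype.card Q := by
    rw [Equiv.Perm.sum_cycleType, hsupp, Finset.card_univ]
  have hn : σ.cycleType.card * 2 ^ (i + 1) = Fintype.card Q := by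
    rw [← hsum]
    conv_rhs => rw [Multiset.eq_replicate_card.2 hall, Multiset.sum_replicate, smul_eq_mul]
  rw [Equiv.Perm.sign_of_cycleType, hsum, hcard]
  have heven : Even (2 ^ k * o) := (even_two.pow_of_ne_zero (by omega)).mul_right o
  rw [hcard] at hn
  split_ifs with hik
  · rw [hik, mul_comm] at hn
    rw [Nat.eq_of_mul_eq_mul_left (Nat.two_pow_pos k) hn]
    exact (heven.add_odd ho).neg_one_pow
  · refine Even.neg_one_pow (heven.add ?_)
    rcases lt_trichotomy (i + 1) k with h1 | h1 | h1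
    · obtain ⟨j, rfl⟩ := Nat.exists_eq_add_of_lt h1
      have : σ.cycleType.card = 2 ^ (j + 1) * o :=
        Nat.eq_of_mul_eq_mul_left (Nat.two_pow_pos (i + 1)) ((mul_comm _ _).trans (hn.trans (by
          rw [← mul_assoc, ← pow_add]; congr 2)))
      rw [this]; exact (even_two.pow_of_ne_zero (by omega)).mul_right o
    · exact absurd h1 hik
    · exfalso
      obtain ⟨j, hj⟩ := Nat.exists_eq_add_of_lt h1
      rw [hj, show k + j + 1 = k + (j + 1) by omega, pow_add, ← mul_assoc,
        mul_comm σ.cycleType.card, mul_assoc] at hn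
      have := Nat.eq_of_mul_eq_mul_left (Nat.two_pow_pos k) hn
      exact Nat.not_even_iff_odd.2 (this ▸ ho) ((even_two.pow_of_ne_zero (by omega)).mul_left _)

variable {G : Type u} [Group G] {M : Subgroup G} {z : G} [Finite G]

namespace Uni

variable {a : ℕ} (h : Uni M z a)
include h

/-- An odd group fixing two points of `x`, centralizing it, transitive on its members at the first
and normalized by what centralizes `x` and fixes both. -/
theorem exists_core_comm {x : G} (hx : Bad z x) {p γ : G ⧸ M} (hγp : γ ≠ p) (hxp : x • p = p)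
    (hxγ : x • γ = γ) : ∃ U : Subgroup G, Odd (Nat.card U) ∧
      (∀ u ∈ U, Commute x u ∧ u • p = p) ∧
      (∀ g : G, Commute x g → g • p = p → g • γ = γ → ∀ u ∈ U, g * u * g⁻¹ ∈ U) ∧
      ∀ d e : CAt z ({x} : Set G) p, ∃ u ∈ U, u * d.1 * u⁻¹ = e.1 := by
  set C := Cfsg.pPrimeCore 2 (pairStab p γ) with hC
  haveI : C.Characteristic := Coprime.pPrimeCore_characteristic 2
  set U := C.map (pairStab p γ).subtype with hU
  have hUodd : Odd (Nat.card U) := by
    rw [hU, Nat.card_congr (C.equivMapOfInjective _ (Subgroup.subtype_injective _)).toEquiv.symm,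
      ← Nat.not_even_iff_odd, even_iff_two_dvd]
    exact Coprime.pPrimeCore_not_dvd Nat.prime_two
  have hUfix : ∀ u ∈ U, u • p = p := by
    intro u hu
    obtain ⟨k, hk⟩ := hUodd.of_dvd_nat (Subgroup.orderOf_dvd_natCard U hu)
    obtain ⟨n, -, rfl⟩ := hu
    rcases n.2 with h1 | ⟨h1, h2⟩
    · exact h1.1
    · exfalso
      have hsq : (n : G) ^ 2 • p = p := by rw [pow_two, mul_smul, h1, h2]
      have h3 : ((n : G) ^ 2) ^ (k + 1) • p = p :=
        MulAction.mem_stabilizer_iff.1 (pow_mem (MulAction.mem_stabilizer_iff.2 hsq) _)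
      rw [← pow_mul, show 2 * (k + 1) = (2 * k + 1) + 1 by ring, pow_succ, ← hk] at h3
      have h4 : ((pairStab p γ).subtype n) ^ orderOf ((pairStab p γ).subtype n) = 1 :=
        pow_orderOf_eq_one _
      rw [Subgroup.coe_subtype] at h4 h3
      rw [h4, one_mul, h1] at h3
      exact hγp h3
  have hUconj : ∀ g : G, g • p = p → g • γ = γ → ∀ u ∈ U, g * u * g⁻¹ ∈ U := by
    rintro g hgp hgγ _ ⟨n, hn, rfl⟩
    exact ⟨_, (inferInstance : C.Normal).conj_mem n hn ⟨g, mem_pairStab_of_fix hgp hgγ⟩, rfl⟩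
  refine ⟨U ⊓ Subgroup.centralizer ({x} : Set G),
    hUodd.of_dvd_nat (Subgroup.card_dvd_of_le inf_le_left),
    fun u hu => ⟨(Subgroup.mem_centralizer_iff.1 hu.2 x rfl), hUfix u hu.1⟩,
    fun g hxg hgp hgγ u hu => ⟨hUconj g hgp hgγ u hu.1, Subgroup.mem_centralizer_iff.2 ?_⟩,
    fun d e => ?_⟩
  · intro y hy
    rw [Set.mem_singleton_iff.1 hy]
    exact ((hxg.mul_right (Subgroup.mem_centralizer_iff.1 hu.2 x rfl)).mul_right hxg.inv_right).eq
  · letI : MulAction U (DAt z p) :=
      { smul := fun u d => ⟨(u : G) * d.1 * (u : G)⁻¹, d.2.1.trans (isConj_iff.2 ⟨u, rfl⟩), by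
          rw [mul_smul, mul_smul, inv_smul_eq_iff.2 (hUfix u u.2).symm, d.2.2, hUfix u u.2]⟩
        one_smul := fun d => Subtype.ext
          (show ((1 : U) : G) * d.1 * ((1 : U) : G)⁻¹ = d.1 by simp)
        mul_smul := fun u v d => Subtype.ext (show ((u * v : U) : G) * d.1 * ((u * v : U) : G)⁻¹ =
          (u : G) * ((v : G) * d.1 * (v : G)⁻¹) * (u : G)⁻¹ by simp [mul_assoc]) }
    have hinv : ∀ u ∈ U, x⁻¹ * u * x ∈ U := by
      intro u hu
      have := hUconj x⁻¹ (inv_smul_eq_iff.2 hxp.symm) (inv_smul_eq_iff.2 hxγ.symm) u hu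
      rwa [inv_inv] at this
    obtain ⟨u, hu, hud⟩ := exists_fixed_smul (J := DAt z p) hUodd (fun d e => by
        obtain ⟨r, hr, -, -, hre⟩ := h.crit.exists_core_conj hγp.symm d.2.1 e.2.1 d.2.2 e.2.2
        exact ⟨⟨r, ⟨r, hr, rfl⟩⟩, Subtype.ext hre⟩)
      (conjOn x (hUconj x hxp hxγ) hinv)
      (fun u => Subtype.ext (by
        show x * (x * (u : G) * x⁻¹) * x⁻¹ = u
        rw [show x * (x * (u : G) * x⁻¹) * x⁻¹ = (x * x) * u * (x * x)⁻¹ by group,
          invol_mul_self hx.invol, one_mul, inv_one, mul_one]))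
      (fun t => ⟨x * t.1 * x⁻¹, t.2.1.trans (isConj_iff.2 ⟨x, rfl⟩),
        by rw [mul_smul, mul_smul, inv_smul_eq_iff.2 hxp.symm, t.2.2, hxp]⟩)
      (fun u t => Subtype.ext (by
        show x * ((u : G) * t.1 * (u : G)⁻¹) * x⁻¹ = x * u * x⁻¹ * (x * t.1 * x⁻¹) * (x * u * x⁻¹)⁻¹
        group))
      (j := ⟨d.1, d.2.1, d.2.2.1⟩) (k := ⟨e.1, e.2.1, e.2.2.1⟩)
      (Subtype.ext (mul_inv_eq_iff_eq_mul.2 (d.2.2.2 x rfl)))
      (Subtype.ext (mul_inv_eq_iff_eq_mul.2 (e.2.2.2 x rfl)))
    refine ⟨u, ⟨u.2, Subgroup.mem_centralizer_iff.2 ?_⟩, congrArg Subtype.val hud⟩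
    intro y hy
    rw [Set.mem_singleton_iff.1 hy]
    exact mul_inv_eq_iff_eq_mul.1 (show x * (u : G) * x⁻¹ = u from congrArg Subtype.val hu)

/-- The roots of a bad involution fixing two points do not anticommute. -/
theorem false_of_anticommuting {x r r' : G} (hx : Bad z x) (hr : r * r = x) (hr' : r' * r' = x)
    (hrr : r * r' * r⁻¹ = r'⁻¹) {p γ : G ⧸ M} (hγp : γ ≠ p) (hrp : r • p = p) (hrγ : r • γ = γ)
    (hr'p : r' • p = p) (hr'γ : r' • γ = γ) : False := by
  have hxp := h.root_smul hx hr hrp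
  have hxγ := h.root_smul hx hr hrγ
  have hxr := h.root_commute hx hr
  have hxr' := h.root_commute hx hr'
  have hprod : r * r' * (r * r') = x := by
    calc r * r' * (r * r') = (r * r' * r⁻¹) * (r * r) * r' := by group
      _ = r'⁻¹ * x * r' := by rw [hrr, hr]
      _ = x := by rw [hxr'.symm.inv_left.eq, inv_mul_cancel_right]
  obtain ⟨k, hk, hka, hk1, -⟩ := h.root_data hx hr hγp hrp hrγ
  obtain ⟨k', -, hka', hk2, -⟩ := h.root_data hx hr' hγp hr'p hr'γ
  obtain ⟨k'', -, hka'', hk3, -⟩ := h.root_data hx hprod hγp (by rw [mul_smul, hr'p, hrp])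
    (by rw [mul_smul, hr'γ, hrγ])
  obtain rfl : k' = k := by
    rw [hka, ← pow_add, ← pow_add] at hka'
    have := Nat.pow_right_injective le_rfl hka'; omega
  obtain rfl : k'' = k' := by
    rw [hka, ← pow_add, ← pow_add] at hka''
    have := Nat.pow_right_injective le_rfl hka''; omega
  obtain ⟨U, hUodd, hUc, hUn, hUtr⟩ := h.exists_core_comm hx hγp hxp hxγ
  let J := CAt z ({x} : Set G) p
  letI : MulAction U J :=
    { smul := fun u d => ⟨(u : G) * d.1 * (u : G)⁻¹, d.2.1.trans (isConj_iff.2 ⟨u, rfl⟩), by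
        rw [mul_smul, mul_smul, inv_smul_eq_iff.2 (hUc u u.2).2.symm, d.2.2.1, (hUc u u.2).2],
        fun y hy => by
          rw [Set.mem_singleton_iff.1 hy]
          exact ((hUc u u.2).1.mul_right (d.2.2.2 x rfl)).mul_right (hUc u u.2).1.inv_right⟩
      one_smul := fun d => Subtype.ext (show ((1 : U) : G) * d.1 * ((1 : U) : G)⁻¹ = d.1 by simp)
      mul_smul := fun u v d => Subtype.ext (show ((u * v : U) : G) * d.1 * ((u * v : U) : G)⁻¹ =
        (u : G) * ((v : G) * d.1 * (v : G)⁻¹) * (u : G)⁻¹ by simp [mul_assoc]) }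
  let act : ∀ g : G, Commute x g → g • p = p → J → J := fun g hxg hg d =>
    ⟨g * d.1 * g⁻¹, d.2.1.trans (isConj_iff.2 ⟨g, rfl⟩),
      by rw [mul_smul, mul_smul, inv_smul_eq_iff.2 hg.symm, d.2.2.1, hg],
      fun y hy => by
        rw [Set.mem_singleton_iff.1 hy]
        exact (hxg.mul_right (d.2.2.2 x rfl)).mul_right hxg.inv_right⟩
  have hcard : ∀ (g : G) (hxg : Commute x g) (hg : g • p = p),
      Nat.card {d : J // act g hxg hg d = d} = Nat.card (CAt z (insert g ({x} : Set G)) p) := by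
    intro g hxg hg
    refine Nat.card_congr
      { toFun := fun d => ⟨d.1.1, d.1.2.1, d.1.2.2.1, ?_⟩
        invFun := fun d => ⟨⟨d.1, d.2.1, d.2.2.1, fun y hy => d.2.2.2 y (Set.mem_insert_of_mem _ hy)⟩,
          Subtype.ext (mul_inv_eq_iff_eq_mul.2 (d.2.2.2 g (Set.mem_insert _ _)))⟩
        left_inv := fun _ => rfl
        right_inv := fun _ => rfl }
    rintro y (rfl | hy)
    · exact mul_inv_eq_iff_eq_mul.1 (congrArg Subtype.val d.2)
    · exact d.1.2.2.2 y hy
  have hinv : ∀ g : G, Commute x g → g • p = p → g • γ = γ → ∀ u ∈ U, g⁻¹ * u * g ∈ U := by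
    intro g hxg hgp hgγ u hu
    have := hUn g⁻¹ hxg.inv_right (inv_smul_eq_iff.2 hgp.symm) (inv_smul_eq_iff.2 hgγ.symm) u hu
    rwa [inv_inv] at this
  have hsq : ∀ (g t : G), g * g = x → Commute x t → g * (g * t * g⁻¹) * g⁻¹ = t := fun g t hg ht => by
    rw [show g * (g * t * g⁻¹) * g⁻¹ = (g * g) * t * (g * g)⁻¹ by group, hg, ht.eq,
      mul_inv_cancel_right]
  have hcomm : ∀ t : G, Commute x t → r * (r' * t * r'⁻¹) * r⁻¹ = r' * (r * t * r⁻¹) * r'⁻¹ := by
    intro t ht
    have h1 : r * r' = r' * r * x := by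
      calc r * r' = (r * r' * r⁻¹) * r := by group
        _ = r'⁻¹ * r := by rw [hrr]
        _ = r' * (r'⁻¹ * r'⁻¹) * r := by group
        _ = r' * x * r := by rw [← mul_inv_rev, hr', invol_inv hx.invol]
        _ = r' * r * x := by rw [mul_assoc, hxr.eq, ← mul_assoc]
    calc r * (r' * t * r'⁻¹) * r⁻¹ = (r * r') * t * (r * r')⁻¹ := by group
      _ = (r' * r) * (x * t * x⁻¹) * (r' * r)⁻¹ := by rw [h1]; group
      _ = (r' * r) * t * (r' * r)⁻¹ := by rw [ht.eq, mul_inv_cancel_right]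
      _ = _ := by group
  have hfixed : ∀ (j : J), j.1 ∈ ({d | Commute r d ∧ Commute r' d} : Set G) ↔
      (act r hxr hrp j = j ∧ act r' hxr' hr'p j = j) := fun j => by
    rw [Subtype.ext_iff, Subtype.ext_iff]
    exact and_congr mul_inv_eq_iff_eq_mul.symm mul_inv_eq_iff_eq_mul.symm
  obtain ⟨j, hj⟩ : ∃ j : J, act r hxr hrp j = j ∧ act r' hxr' hr'p j = j := by
    set A := Subgroup.zpowers r ⊔ Subgroup.zpowers r' with hA
    haveI : Fact (Nat.Prime 2) := ⟨Nat.prime_two⟩
    have hz2 : ∀ g : G, g * g = x → IsPGroup 2 (Subgroup.zpowers g) := fun g hg => by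
      obtain ⟨i, -, hi⟩ := (Nat.dvd_prime_pow Nat.prime_two).1 (orderOf_dvd_of_pow_eq_one
        (show g ^ 2 ^ 2 = 1 by
          rw [show (2 : ℕ) ^ 2 = 2 + 2 from rfl, pow_add, pow_two, hg, invol_mul_self hx.invol]))
      exact IsPGroup.of_card (n := i) (by rw [Nat.card_zpowers, hi])
    have hN : Subgroup.zpowers r ≤ Subgroup.normalizer (Subgroup.zpowers r' : Set G) := by
      rw [Subgroup.zpowers_le, Subgroup.mem_normalizer_iff]
      intro t
      constructor
      · rintro ⟨i, rfl⟩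
        exact ⟨-i, by show r' ^ (-i) = r * r' ^ i * r⁻¹; rw [← conj_zpow, hrr, inv_zpow, zpow_neg]⟩
      · rintro ⟨i, hi⟩
        refine ⟨-i, ?_⟩
        have h2 : r⁻¹ * r' * r = r'⁻¹ := by
          calc r⁻¹ * r' * r = r⁻¹ * r'⁻¹⁻¹ * r := by rw [inv_inv]
            _ = r⁻¹ * (r * r' * r⁻¹)⁻¹ * r := by rw [hrr]
            _ = r'⁻¹ := by group
        calc r' ^ (-i) = (r⁻¹ * r' * r⁻¹⁻¹) ^ i := by rw [inv_inv, h2, inv_zpow, zpow_neg]
          _ = r⁻¹ * r' ^ i * r⁻¹⁻¹ := conj_zpow
          _ = t := by rw [show r' ^ i = r * t * r⁻¹ from hi]; group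
    have hA2 : IsPGroup 2 ↥(Subgroup.zpowers r' ⊔ Subgroup.zpowers r) :=
      (hz2 r' hr').to_sup_of_normal_left' (hz2 r hr) hN
    obtain ⟨d, hd, hdp, hdA⟩ := h.crit.exists_commuting_at (A := Subgroup.zpowers r' ⊔ Subgroup.zpowers r)
      hA2 (a := p) (fun g hg => (sup_le (Subgroup.zpowers_le.2 (show r' ∈ MulAction.stabilizer G p from hr'p))
        (Subgroup.zpowers_le.2 (show r ∈ MulAction.stabilizer G p from hrp))) hg)
    have hrd := hdA r (Subgroup.mem_sup_right (Subgroup.mem_zpowers r))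
    exact ⟨⟨d, hd, hdp, fun y hy => by
      rw [Set.mem_singleton_iff.1 hy, ← hr]; exact hrd.mul_left hrd⟩,
      (hfixed _).1 ⟨hrd, hdA r' (Subgroup.mem_sup_left (Subgroup.mem_zpowers r'))⟩⟩
  have key := klein_card_set (J := J) hUodd
    (fun d e => by obtain ⟨u, hu, hud⟩ := hUtr d e; exact ⟨⟨u, hu⟩, Subtype.ext hud⟩)
    (conjOn r (hUn r hxr hrp hrγ) (hinv r hxr hrp hrγ))
    (conjOn r' (hUn r' hxr' hr'p hr'γ) (hinv r' hxr' hr'p hr'γ))
    (fun u => Subtype.ext (hsq r u hr (hUc u u.2).1)) (fun u => Subtype.ext (hsq r' u hr' (hUc u u.2).1))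
    (fun u => Subtype.ext (hcomm u (hUc u u.2).1)) (act r hxr hrp) (act r' hxr' hr'p)
    (fun u d => Subtype.ext (by
      show r * ((u : G) * d.1 * (u : G)⁻¹) * r⁻¹ = r * u * r⁻¹ * (r * d.1 * r⁻¹) * (r * u * r⁻¹)⁻¹
      group))
    (fun u d => Subtype.ext (by
      show r' * ((u : G) * d.1 * (u : G)⁻¹) * r'⁻¹ = r' * u * r'⁻¹ * (r' * d.1 * r'⁻¹) * (r' * u * r'⁻¹)⁻¹
      group))
    (fun d => Subtype.ext (hcomm d.1 (d.2.2.2 x rfl))) (j := j) hj.1 hj.2
  have e3 : Nat.card {d : J // act r hxr hrp (act r' hxr' hr'p d) = d} =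
      Nat.card (CAt z (insert (r * r') ({x} : Set G)) p) := by
    rw [← hcard (r * r') (hxr.mul_right hxr') (by rw [mul_smul, hr'p, hrp])]
    exact Nat.card_congr (Equiv.subtypeEquivRight fun d => by
      rw [Subtype.ext_iff, Subtype.ext_iff]
      show r * (r' * d.1 * r'⁻¹) * r⁻¹ = d.1 ↔ r * r' * d.1 * (r * r')⁻¹ = d.1
      rw [show r * r' * d.1 * (r * r')⁻¹ = r * (r' * d.1 * r'⁻¹) * r⁻¹ by group])
  obtain ⟨a0, ha0⟩ : ∃ a0, 2 ^ k'' = a0 + 1 := ⟨2 ^ k'' - 1, by have := Nat.two_pow_pos k''; omega⟩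
  rw [ha0] at hk1 hk2 hk3 hka
  rw [show Nat.card (Fixed (act r hxr hrp)) = a0 by
      rw [show Nat.card (Fixed (act r hxr hrp)) = _ from hcard r hxr hrp]; omega,
    show Nat.card (Fixed (act r' hxr' hr'p)) = a0 by
      rw [show Nat.card (Fixed (act r' hxr' hr'p)) = _ from hcard r' hxr' hr'p]; omega,
    e3, show Nat.card (CAt z (insert (r * r') ({x} : Set G)) p) = a0 by omega,
    show Nat.card J = a0 * (a0 + 2) from (h.cnt_uni x p hx hxp).trans (by nlinarith),
    mul_assoc a0 a0 a0, mul_assoc] at key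
  have ha0pos : 0 < a0 := by have := Nat.le_self_pow (show k'' ≠ 0 by omega) 2; omega
  have hk2' := Nat.eq_of_mul_eq_mul_left ha0pos key
  have hodd : Odd a0 := by
    rw [← Nat.not_even_iff_odd]
    intro he
    have h1 : Even (a0 + 1) := ha0 ▸ even_two.pow_of_ne_zero (by omega)
    exact Nat.not_odd_iff_even.2 h1 he.add_one
  have hcop : Nat.Coprime (a0 + 2) a0 := by
    rw [Nat.coprime_self_add_left]; exact Nat.coprime_two_left.2 hodd
  have h1 : a0 + 2 = 1 := (hcop.mul_right hcop).eq_one_of_dvd (Dvd.intro _ hk2')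
  omega

/-- The Sylow two-subgroups of a two point stabilizer are cyclic. -/
theorem isCyclic_two_point {R : Subgroup G} (hR : IsPGroup 2 R) {p γ : G ⧸ M} (hγp : γ ≠ p)
    (hp : ∀ g ∈ R, g • p = p) (hγ : ∀ g ∈ R, g • γ = γ) : IsCyclic R := by
  rcases eq_or_ne R ⊥ with rfl | hne
  · infer_instance
  obtain ⟨c, hcR, hc, huniq⟩ := h.exists_unique_invol hR hγp hp hγ hne
  have hu : CfsgLib.Coprime.UniqueOrderP 2 R := by
    intro g g' hg hg' hg1
    have hsq : ∀ {t : R}, t ^ 2 = 1 → t = 1 ∨ (t : G) = c := fun {t} ht =>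
      (huniq t t.2 (by rw [← Subgroup.coe_mul, ← pow_two, ht, Subgroup.coe_one])).imp
        (fun h1 => Subtype.ext h1) id
    rcases hsq hg' with rfl | h2
    · exact one_mem _
    · rw [show g' = g from Subtype.ext (h2.trans ((hsq hg).resolve_left hg1).symm)]
      exact Subgroup.mem_zpowers g
  rcases CfsgLib.Coprime.cyclic_or_quaternion_of_unique_two hR hu with hcyc | ⟨n, ⟨f⟩⟩
  · exact hcyc
  rcases n with _ | n
  · haveI : IsCyclic (QuaternionGroup (2 ^ 0)) := QuaternionGroup.quaternionGroup_one_isCyclic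
    exact f.isCyclic.2 this
  exfalso
  set r := f.symm (QuaternionGroup.xa 0)
  set r' := f.symm (QuaternionGroup.a ((2 ^ n : ℕ) : ZMod (2 * 2 ^ (n + 1))))
  have h2 : r * r = r' * r' := by
    rw [← map_mul, ← map_mul]
    congr 1
    rw [QuaternionGroup.xa_mul_xa, QuaternionGroup.a_mul_a]
    congr 1
    push_cast; ring
  have h3 : r * r' * r⁻¹ = r'⁻¹ := by
    rw [← map_mul, ← map_inv, ← map_inv, ← map_mul]
    congr 1
    rw [mul_inv_eq_iff_eq_mul]
    show QuaternionGroup.xa 0 * QuaternionGroup.a _ = QuaternionGroup.a (-_) * QuaternionGroup.xa 0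
    rw [QuaternionGroup.xa_mul_a, QuaternionGroup.a_mul_xa]
    simp
  have hne1 : r * r ≠ 1 := by
    rw [← map_mul, ← map_one f.symm]
    intro e
    have e1 := f.symm.injective e
    rw [QuaternionGroup.xa_mul_xa, QuaternionGroup.one_def] at e1
    have e2 : ((2 ^ (n + 1) : ℕ) : ZMod (2 * 2 ^ (n + 1))) = 0 := by
      simpa using QuaternionGroup.a.inj e1
    rw [ZMod.natCast_eq_zero_iff] at e2
    have := Nat.le_of_dvd (Nat.two_pow_pos _) e2
    have := Nat.two_pow_pos (n + 1)
    omega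
  have h4 : r * r * (r * r) = 1 := by
    rw [← map_mul, ← map_mul, ← map_one f.symm]
    congr 1
    rw [QuaternionGroup.xa_mul_xa, QuaternionGroup.a_mul_a, QuaternionGroup.one_def]
    congr 1
    simp only [sub_zero, add_zero]
    rw [← Nat.cast_add, ZMod.natCast_eq_zero_iff]
    exact Dvd.intro 1 (by ring)
  have hrc : (r : G) * r = c :=
    (huniq _ (mul_mem r.2 r.2) (by
      simpa only [Subgroup.coe_mul, Subgroup.coe_one] using congrArg Subtype.val h4)).resolve_left
      fun e => hne1 (Subtype.ext e)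
  exact h.false_of_anticommuting hc hrc ((congrArg Subtype.val h2).symm.trans hrc)
    (congrArg Subtype.val h3) hγp (hp r r.2) (hγ r r.2) (hp r' r'.2) (hγ r' r'.2)

/-- **The small type with the least number of fixed points does not occur.** -/
theorem false_square {x₀ : G} (hx₀ : Bad z x₀) {p₀ : G ⧸ M} (hx₀p : x₀ • p₀ = p₀)
    (hfx₀ : fix M x₀ = a + 2) : False := by
  classical
  haveI : Fact (Nat.Prime 2) := ⟨Nat.prime_two⟩
  set p : G ⧸ M := ((1 : G) : G ⧸ M) with hp0
  obtain ⟨g0, hg0⟩ := MulAction.exists_smul_eq G p₀ p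
  set x := g0 * x₀ * g0⁻¹ with hxdef
  have hx : Bad z x := hx₀.conj g0
  have hxp : x • p = p := by rw [← hg0, hxdef, mul_smul, mul_smul, inv_smul_smul, hx₀p]
  have hfx : fix M x = a + 2 := by rw [hxdef, fix_conj, hfx₀]
  obtain ⟨γ, hγp, hxγ⟩ := h.bad_two_fix hx hxp
  have hc2 : 2 ≤ cnt z x p := by rw [h.cnt_uni x p hx hxp]; exact h.le
  obtain ⟨β, i, hβ, -, hβc, hfix, hm, -, hK0⟩ := h.small_pows hx hxp (h.small hx hxp) hc2
  rw [h.cnt_uni x p hx hxp] at hβc
  have hi : i = 0 := by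
    rw [hfx, show a + 2 = 2 ^ β + 1 by omega] at hfix
    have := Nat.pow_right_injective le_rfl (Nat.add_right_cancel hfix)
    omega
  have hN : Nat.card (G ⧸ M) - 1 = deg M z + 1 := by rw [hK0 hi, hm]
  -- the group at the point is regular on the other points
  set E := h.toRes.grp p with hE
  set F := {t : G ⧸ M // t ≠ p}
  have hFcard : Nat.card F = Nat.card E := by
    rw [hE, h.card_grp, ← hN, ← Nat.card_congr (Equiv.optionSubtypeNe p), Finite.card_option,
      Nat.add_sub_cancel]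
  have hFinj : Function.Injective fun e : E => (⟨(e : G) • γ, fun hh => hγp
      (smul_left_cancel (e : G) (hh.trans (h.toRes.grp_smul e.2).symm))⟩ : F) := by
    intro e e' hee
    have h1 : ((e : G)⁻¹ * e') • γ = γ := by
      rw [mul_smul, inv_smul_eq_iff]; exact (congrArg Subtype.val hee).symm
    refine Subtype.ext (inv_mul_eq_one.1 ?_)
    rcases h.toRes.mem_grp.1 (mul_mem (inv_mem e.2) e'.2) with h2 | ⟨h2, h3⟩
    · exact h2
    · exact absurd (h.crit.fix_unique h2 h1 h3) hγp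
  have hFbij := (Nat.bijective_iff_injective_and_card _).2 ⟨hFinj, hFcard.symm⟩
  set K := MulAction.stabilizer G p ⊓ MulAction.stabilizer G γ with hKdef
  have hM : M = MulAction.stabilizer G p := by
    ext g; rw [MulAction.mem_stabilizer_iff]; exact mem_iff_smul_one
  have hMcard : Nat.card M = Nat.card E * Nat.card K := by
    rw [← Nat.card_prod]
    refine (Nat.card_eq_of_bijective (fun w : E × K => (⟨(w.1 : G) * w.2, by
      rw [mem_iff_smul_one, mul_smul, show (w.2 : G) • p = p from w.2.2.1,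
        h.toRes.grp_smul w.1.2]⟩ : M)) ⟨?_, fun g => ?_⟩).symm
    · intro w w' hww
      have h1 : (w.1 : G) * w.2 = w'.1 * w'.2 := congrArg Subtype.val hww
      have h2 : w.1 = w'.1 := hFinj (Subtype.ext (by
        have := congrArg (· • γ) h1
        simpa [mul_smul, show (w.2 : G) • γ = γ from w.2.2.2,
          show (w'.2 : G) • γ = γ from w'.2.2.2] using this))
      refine Prod.ext h2 (Subtype.ext ?_)
      rw [h2] at h1; exact mul_left_cancel h1
    · have hgp : (g : G) • p = p := mem_iff_smul_one.1 g.2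
      obtain ⟨e, he⟩ := hFbij.2 ⟨(g : G) • γ, fun hh => hγp (smul_left_cancel (g : G) (hh.trans hgp.symm))⟩
      have he' : (e : G) • γ = (g : G) • γ := congrArg Subtype.val he
      exact ⟨(e, ⟨(e : G)⁻¹ * g,
        show ((e : G)⁻¹ * g) • p = p by rw [mul_smul, hgp, inv_smul_eq_iff, h.toRes.grp_smul e.2],
        show ((e : G)⁻¹ * g) • γ = γ by rw [mul_smul, inv_smul_eq_iff, he']⟩),
        Subtype.ext (mul_inv_cancel_left _ _)⟩
  have hEM : E ≤ M := fun e he => mem_iff_smul_one.2 (h.toRes.grp_smul he)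
  haveI : (E.subgroupOf M).Normal := ⟨fun e he g => Subgroup.mem_subgroupOf.2 (by
    simpa using h.toRes.grp_conj (mem_iff_smul_one.1 g.2) (Subgroup.mem_subgroupOf.1 he))⟩
  have hQcard : Nat.card (M ⧸ E.subgroupOf M) = Nat.card K := by
    have h1 := Subgroup.card_mul_index (E.subgroupOf M)
    rw [Nat.card_congr (Subgroup.subgroupOfEquivOfLe hEM).toEquiv, hMcard] at h1
    exact Nat.eq_of_mul_eq_mul_left Nat.card_pos h1
  -- the cyclic Sylow subgroup
  obtain ⟨S⟩ : Nonempty (Sylow 2 K) := inferInstance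
  set R := (S : Subgroup K).map K.subtype with hR
  have hR2 : IsPGroup 2 R := S.2.map K.subtype
  have hRp : ∀ g ∈ R, g • p = p := by rintro _ ⟨g, -, rfl⟩; exact g.2.1
  have hRγ : ∀ g ∈ R, g • γ = γ := by rintro _ ⟨g, -, rfl⟩; exact g.2.2
  haveI := h.isCyclic_two_point hR2 hγp hRp hRγ
  obtain ⟨⟨r, hrR⟩, hgen⟩ := IsCyclic.exists_generator (α := R)
  obtain ⟨k, hk⟩ := IsPGroup.iff_card.1 hR2
  have hro : orderOf r = 2 ^ k := by
    rw [← hk, ← orderOf_eq_card_of_forall_mem_zpowers hgen, Subgroup.orderOf_mk]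
  have hRS : Nat.card R = Nat.card (S : Subgroup K) :=
    (Nat.card_congr ((S : Subgroup K).equivMapOfInjective K.subtype
      (Subgroup.subtype_injective _)).toEquiv).symm
  have hKcard : Nat.card K = 2 ^ k * (S : Subgroup K).index := by
    rw [← hk, hRS, Subgroup.card_mul_index]
  have hSodd : Odd (S : Subgroup K).index :=
    Nat.not_even_iff_odd.1 fun hh => S.not_dvd_index (even_iff_two_dvd.1 hh)
  have hk1 : 1 ≤ k := by
    rcases k with _ | k
    · exfalso
      have h2 : 2 ∣ Nat.card K := by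
        rw [← hx.invol, ← Subgroup.orderOf_mk (H := K) x ⟨hxp, hxγ⟩]
        exact orderOf_dvd_natCard _
      rw [hKcard, pow_zero, one_mul] at h2
      exact S.not_dvd_index h2
    · omega
  set c := r ^ 2 ^ (k - 1) with hcdef
  have hco : orderOf c = 2 := by
    rw [invol_iff]
    refine ⟨?_, fun e => ?_⟩
    · rw [hcdef, ← pow_add, ← two_mul, ← pow_succ', show k - 1 + 1 = k by omega, ← hro,
        pow_orderOf_eq_one]
    · have h2 := orderOf_dvd_of_pow_eq_one e
      rw [hro] at h2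
      have := Nat.le_of_dvd (Nat.two_pow_pos _) h2
      have := Nat.pow_lt_pow_right (show 1 < 2 by norm_num) (show k - 1 < k by omega)
      omega
  have hc : Bad z c := h.toRes.bad_of_two_fix hco hγp (hRγ c (pow_mem hrR _)) (hRp c (pow_mem hrR _))
  -- the character
  letI := Fintype.ofFinite (M ⧸ E.subgroupOf M)
  set π := QuotientGroup.mk' (E.subgroupOf M) with hπ
  set χ : M →* ℤˣ :=
    (Equiv.Perm.sign.comp (MulAction.toPermHom (M ⧸ E.subgroupOf M) (M ⧸ E.subgroupOf M))).comp π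
    with hχ
  have hcQ : Fintype.card (M ⧸ E.subgroupOf M) = 2 ^ k * (S : Subgroup K).index := by
    rw [← Nat.card_eq_fintype_card, hQcard, hKcard]
  have hone : ∀ d : M, (d : G) ∈ E → π d = 1 := fun d hd =>
    (QuotientGroup.eq_one_iff d).2 (Subgroup.mem_subgroupOf.2 hd)
  refine h.crit.not_mem_normalClosure_two (r := r) (n := k) (by rw [← hro, pow_orderOf_eq_one]) χ
    (fun d hd => ?_) (fun y hy => ?_) (fun j y hy => ?_) (h.gen ▸ Subgroup.mem_top r)
  · rw [hχ, MonoidHom.comp_apply, hone d (Or.inr ⟨hd, mem_iff_smul_one.1 d.2⟩), map_one]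
  · obtain ⟨g, hg⟩ := isConj_iff.1 hy
    have hyo : orderOf (π y) = 2 ^ k := by
      rw [show k = k - 1 + 1 by omega]
      refine orderOf_eq_prime_pow ?_ ?_
      · intro e
        rw [← map_pow] at e
        have h1 : (y : G) ^ 2 ^ (k - 1) ∈ E := by
          have := Subgroup.mem_subgroupOf.1 ((QuotientGroup.eq_one_iff _).1 e)
          simpa using this
        rw [← hg, conj_pow, ← hcdef] at h1
        rcases h.toRes.mem_grp.1 h1 with h2 | ⟨h2, -⟩
        · exact invol_ne_one (invol_conj hco g) h2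
        · exact (hc.conj g).not_conj h2
      · rw [← map_pow]
        refine hone _ ?_
        rw [Subgroup.coe_pow, ← hg, conj_pow, show k - 1 + 1 = k by omega, ← hro, pow_orderOf_eq_one,
          mul_one, mul_inv_cancel]
        exact one_mem E
    rw [hχ, MonoidHom.comp_apply, MonoidHom.comp_apply, MulAction.toPermHom_apply,
      sign_toPerm_two_elem hyo hcQ hSodd hk1, if_pos rfl]
  · obtain ⟨g, hg⟩ := isConj_iff.1 hy
    have hyk : π y ^ 2 ^ (k - 1) = 1 := by
      rw [← map_pow]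
      refine hone _ ?_
      rw [Subgroup.coe_pow, ← hg, conj_pow, ← pow_mul,
        show 2 * j * 2 ^ (k - 1) = 2 ^ (k - 1 + 1) * j by rw [pow_succ]; ring,
        show k - 1 + 1 = k by omega, pow_mul, ← hro, pow_orderOf_eq_one, one_pow, mul_one,
        mul_inv_cancel]
      exact one_mem E
    obtain ⟨i', hi', hio⟩ := (Nat.dvd_prime_pow Nat.prime_two).1 (orderOf_dvd_of_pow_eq_one hyk)
    rw [hχ, MonoidHom.comp_apply, MonoidHom.comp_apply, MulAction.toPermHom_apply,
      sign_toPerm_two_elem hio hcQ hSodd hk1, if_neg (by omega)]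

/-- **The small type does not occur**, given the elementary groups at the points. -/
theorem false_of_bad {x : G} (hx : Bad z x) : False := by
  obtain ⟨p, hp⟩ := exists_fix h.crit hx.invol
  by_cases hfx : fix M x = a + 2
  · exact h.false_square hx hp hfx
  · exact h.false_large hx hp hfx

end Uni

end CfsgLib.SECrit.Small
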